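import Cfsg.Agent.Cit.QTwo.CCTop

/-!
# [Q2], part (CC): the family of the traces `K ⊓ L` in `G`

* `CCHyp.hyp_OmL` : `Hyp (OmL Om L)`;
* `CCHyp.isT_OmL`, `CCHyp.OO_OmL`, `CCHyp.center_eq_bot`;
* `CCHyp.pair_OmL` : (P') for the members of `OmL Om L`.
-/

set_option autoImplicit false
set_option linter.dupNamespace false
set_option linter.unusedSectionVars false
set_option linter.style.haveILetI false

namespace Cfsg.Agent.Cit.QTwo.CC

open Subgroup Cfsg Cfsg.Agent.Cit SubCent SLThree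

universe u

variable {G : Type u} [Group G] {Om : Set (Subgroup G)} {L : Subgroup G}

namespace CCHyp

variable [Finite G] (h : CCHyp Om L) {K K' : Subgroup G}
include h

theorem le_normalizer_L (g : G) : g ∈ normalizer (L : Set G) := by
  have := h.normal
  rw [normalizer_eq_top]; trivial

theorem cj_L (g : G) : cj g L = L := mem_normalizer_iff_cj.1 (h.le_normalizer_L g)

theorem OO_inf (hK : K ∈ Om) : OO (K ⊓ L) = ⊥ := by
  rw [SubCent.OO_inf (h.cov K hK), h.OO_eq hK, h.inf_eq_bot hK]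

theorem isT_inf (hK : K ∈ Om) : SolvTwo.IsT (K ⊓ L) := by
  obtain ⟨e⟩ := h.isT_restrX (h.mem_restr hK)
  have h2 : (K ⊓ L).subgroupOf L = K.subgroupOf L := inf_subgroupOf_right K L
  have e1 : ↥(K.subgroupOf L) ≃* ↥(K ⊓ L) :=
    (MulEquiv.subgroupCongr h2.symm).trans (subgroupOfEquivOfLe (inf_le_right : K ⊓ L ≤ L))
  exact ⟨(TyTrans.quotOfEquiv e1).symm.trans e⟩

theorem hyp_OmL : Hyp (OmL Om L) := by
  refine ⟨?_, ?_, ?_, ?_, ?_, ?_⟩
  · intro J hJ g
    obtain ⟨K, hK, rfl⟩ := (h.mem_OmL).1 hJ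
    rw [cj_inf, h.cj_L]
    exact h.mem_OmL.2 ⟨_, h.hyp.conj K hK g, rfl⟩
  · intro J hJ
    obtain ⟨K, hK, rfl⟩ := (h.mem_OmL).1 hJ
    have h1 := h.hyp_restrX.quat _ (h.mem_restr hK)
    have h2 : (K ⊓ L).subgroupOf L = K.subgroupOf L := inf_subgroupOf_right K L
    have e1 : ↥(K.subgroupOf L) ≃* ↥(K ⊓ L) :=
      (MulEquiv.subgroupCongr h2.symm).trans (subgroupOfEquivOfLe (inf_le_right : K ⊓ L ≤ L))
    have h3 : HasQS ↥(K.subgroupOf L) := h1
    exact h3.of_equiv e1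
  · intro J hJ t ht ht2
    obtain ⟨K, hK, rfl⟩ := (h.mem_OmL).1 hJ
    rw [h.zz_inf hK]
    exact h.hyp.uniq K hK t ht.1 ht2
  · intro J hJ
    obtain ⟨K, hK, rfl⟩ := (h.mem_OmL).1 hJ
    rw [h.zz_inf hK]
    have h1 := h.hyp.sub K hK
    have hLn := h.normal
    have h2 : (L.subgroupOf (centralizer {zz K})).Normal := inferInstance
    have h3 : (K ⊓ L).subgroupOf (centralizer {zz K}) =
        K.subgroupOf (centralizer {zz K}) ⊓ L.subgroupOf (centralizer {zz K}) := rfl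
    rw [h3]
    exact h1.inf h2.isSubnormal
  · intro J hJ J' hJ' hz
    obtain ⟨K, hK, rfl⟩ := (h.mem_OmL).1 hJ
    obtain ⟨K', hK', rfl⟩ := (h.mem_OmL).1 hJ'
    rw [h.zz_inf hK, h.zz_inf hK'] at hz
    rcases h.hyp.h2 K hK K' hK' hz with h1 | h1
    · left; rw [h1]
    · right
      rw [h.OO_inf hK, h.OO_inf hK', bot_inf_eq, le_bot_iff, eq_bot_iff, commutator_le]
      intro x hx y hy
      have h2 := (h1 (commutator_mem_commutator hx.1 hy.1)).1
      rw [h.OO_eq hK] at h2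
      rw [mem_bot]
      refine h.eq_one hK h2 ?_
      rw [commutatorElement_def]
      exact mul_mem (mul_mem (mul_mem hx.2 hy.2) (inv_mem hx.2)) (inv_mem hy.2)
  · intro J hJ J' hJ' y hy hy2 hy4 hyz
    obtain ⟨K, hK, rfl⟩ := (h.mem_OmL).1 hJ
    obtain ⟨K', hK', rfl⟩ := (h.mem_OmL).1 hJ'
    rw [h.zz_inf hK'] at hyz
    have h1 := h.hyp.h3 K hK K' hK' y hy.1 hy2 hy4 hyz
    rw [mem_normalizer_iff_cj, cj_inf, mem_normalizer_iff_cj.1 h1, h.cj_L]

theorem isT_OmL {J : Subgroup G} (hJ : J ∈ OmL Om L) : SolvTwo.IsT J := by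
  obtain ⟨K, hK, rfl⟩ := (h.mem_OmL).1 hJ
  exact h.isT_inf hK

theorem isType_OmL {J : Subgroup G} (hJ : J ∈ OmL Om L) : IsType J := Ty.isType (Or.inl (h.isT_OmL hJ))

theorem OO_OmL {J : Subgroup G} (hJ : J ∈ OmL Om L) : OO J = ⊥ := by
  obtain ⟨K, hK, rfl⟩ := (h.mem_OmL).1 hJ
  exact h.OO_inf hK

theorem center_eq_bot : center L = ⊥ := by
  rw [eq_bot_iff]
  intro x hx
  have h1 : (x : G) ∈ centralizer (L : Set G) := by
    rw [mem_centralizer_iff]
    intro y hy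
    exact congrArg Subtype.val (mem_center_iff.1 hx ⟨y, hy⟩)
  rw [h.cent, mem_bot] at h1
  exact mem_bot.2 (Subtype.ext h1)

/-- any two members have cores contained in each other up to ... : the core of one member in terms of another -/
theorem exists_core_ne {J : Subgroup G} (hJ : J ∈ OmL Om L) : ∃ K ∈ Om, J = K ⊓ L ∧ zz J = zz K := by
  obtain ⟨K, hK, rfl⟩ := (h.mem_OmL).1 hJ
  exact ⟨K, hK, rfl, h.zz_inf hK⟩

end CCHyp

end Cfsg.Agent.Cit.QTwo.CC
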