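import Cfsg.Agent.Cit.QTwo.CCBen
import Cfsg.Agent.Cit.QTwo.CCFam
import Cfsg.Agent.Cit.OneBasic
import Cfsg.Agent.Cit.Parab

/-!
# [Q2], (CC3): `L` has one class of involutions

`CCHyp.false_of_one` : if all involutions of `L` are conjugate in `L` then `O(C(zz K)) = 1`: otherwise `C_L(e)`,
`1 ≠ e ∈ O(C(zz K))`, is strongly embedded in `L`, so `L` is in Bender's list; but `zz K` commutes with another
conjugate `t` (`Z*`), `t` is central in every 2-subgroup, so `K` and a member over `t` give two commuting nonabelian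
2-subgroups.
-/

set_option autoImplicit false
set_option linter.dupNamespace false
set_option linter.unusedSectionVars false
set_option linter.style.haveILetI false

namespace Cfsg.Agent.Cit.QTwo.CC

open Subgroup Cfsg Cfsg.Agent.Cit SubCent SLThree OneBasic

universe u

variable {G : Type u} [Group G] [Finite G] {Om : Set (Subgroup G)} {L : Subgroup G}

/-- a subgroup of 2-power exponent of `G` lies in `L` if `G = L⟨e⟩`, `e` of odd order -/
theorem CCHyp.le_of_two (h : CCHyp Om L) {K : Subgroup G} (hK : K ∈ Om) {e : G} (he : e ∈ O (zz K)) (he1 : e ≠ 1)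
    {P : Subgroup G} (hP : IsPGroup 2 P) : P ≤ L := by
  intro x hx
  haveI : L.Normal := h.normal
  obtain ⟨a, ha⟩ := hP ⟨x, hx⟩
  have hx2 : x ^ 2 ^ a = 1 := congrArg Subtype.val ha
  -- the image of `x` in `G / L` has order dividing `2 ^ a` and the order of `e`
  have hcard : Nat.card (G ⧸ L) ∣ orderOf e := by
    have h1 : (zpowers e).map (QuotientGroup.mk' L) = ⊤ := by
      have h2 : (L ⊔ zpowers e).map (QuotientGroup.mk' L) = ⊤ := by
        rw [h.sup_eq hK he he1]
        exact Subgroup.map_top_of_surjective _ (QuotientGroup.mk'_surjective L)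
      rw [Subgroup.map_sup] at h2
      have h3 : L.map (QuotientGroup.mk' L) = ⊥ := by
        rw [Subgroup.map_eq_bot_iff, QuotientGroup.ker_mk']
      rwa [h3, bot_sup_eq] at h2
    have h4 : Nat.card ((zpowers e).map (QuotientGroup.mk' L)) ∣ Nat.card (zpowers e) := Subgroup.card_map_dvd _ _
    rw [h1, Subgroup.card_top, Nat.card_zpowers] at h4
    exact h4
  have hodd : Odd (orderOf e) := odd_orderOf (odd_O (zz K)) he
  have h5 : orderOf (QuotientGroup.mk' L x) ∣ orderOf e := (_root_.orderOf_dvd_natCard _).trans hcard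
  have h6 : orderOf (QuotientGroup.mk' L x) ∣ 2 ^ a := by
    apply orderOf_dvd_of_pow_eq_one
    rw [← map_pow, hx2, map_one]
  have h7 : (orderOf e).Coprime (2 ^ a) := by
    refine Nat.Coprime.pow_right a ?_
    rw [Nat.coprime_comm, Nat.Prime.coprime_iff_not_dvd Nat.prime_two, ← even_iff_two_dvd, Nat.not_even_iff_odd]
    exact hodd
  have h8 : orderOf (QuotientGroup.mk' L x) ∣ 1 := by
    rw [← h7]; exact Nat.dvd_gcd h5 h6
  rw [Nat.dvd_one, orderOf_eq_one_iff] at h8
  exact (QuotientGroup.eq_one_iff x).1 h8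

/-- `zz K` commutes with another conjugate -/
theorem CCHyp.exists_conj (h : CCHyp Om L) {K : Subgroup G} (hK : K ∈ Om) :
    ∃ g : G, (g * zz K * g⁻¹) * zz K = zz K * (g * zz K * g⁻¹) ∧ g * zz K * g⁻¹ ≠ zz K := by
  by_contra hcon
  push Not at hcon
  haveI := h.simple
  have hz2 : orderOf (⟨zz K, h.zzL hK⟩ : L) = 2 := by
    rw [← Subgroup.orderOf_coe]; exact h.hyp.orderOf_zz hK
  obtain ⟨N, hN, hNodd, hNz⟩ := Parab.zstar hz2 (by
    intro g hg
    apply Subtype.ext
    exact hcon (g : G) (congrArg Subtype.val hg))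
  have hNb : N = ⊥ := by
    rcases hN.eq_bot_or_eq_top with h1 | h1
    · exact h1
    · exfalso
      rw [h1, Subgroup.card_top] at hNodd
      have h2 : 2 ∣ Nat.card L := by rw [← hz2]; exact orderOf_dvd_natCard _
      rw [Nat.odd_iff] at hNodd
      omega
  have h3 : zz K ∈ centralizer (L : Set G) := by
    rw [mem_centralizer_iff]
    intro x hx
    have h4 := hNz ⟨x, hx⟩
    rw [hNb, mem_bot, mul_inv_eq_one, mul_inv_eq_iff_eq_mul] at h4
    exact (congrArg Subtype.val h4).symm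
  rw [h.cent, mem_bot] at h3
  exact h.hyp.zz_ne hK h3

/-- **the case of one class of involutions** -/
theorem CCHyp.false_of_one (h : CCHyp Om L) (hB : CloEnd.Bend ↥L) {K : Subgroup G} (hK : K ∈ Om) {e : G}
    (he : e ∈ O (zz K)) (he1 : e ≠ 1) (one : ∀ s t : L, orderOf s = 2 → orderOf t = 2 → IsConj s t) : False := by
  have hzL := h.zzL hK
  have hz2 : orderOf (⟨zz K, hzL⟩ : L) = 2 := by
    rw [← Subgroup.orderOf_coe]; exact h.hyp.orderOf_zz hK
  -- the strongly embedded subgroup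
  have hconcl : BenderType.Classify.Concl ↥L := by
    refine hB ((centralizer {e}).subgroupOf L) (stronglyEmbedded ?_ hz2 one ?_ ?_)
    · intro h1
      apply he1
      have h2 : e ∈ centralizer (L : Set G) := by
        rw [mem_centralizer_iff]
        intro x hx
        have h3 : (⟨x, hx⟩ : L) ∈ (centralizer {e}).subgroupOf L := by rw [h1]; trivial
        exact mem_centralizer_singleton_iff.1 h3
      rwa [h.cent, mem_bot] at h2
    · intro x hx
      rw [mem_subgroupOf, mem_centralizer_singleton_iff]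
      have hx' : (x : G) * zz K = zz K * x := congrArg Subtype.val (mem_centralizer_singleton_iff.1 hx)
      exact (h.comm_of_mem hK he x.2 hx').symm
    · intro g hg
      rw [mem_subgroupOf, mem_centralizer_singleton_iff]
      exact h.comm_of_conj hK (congrArg Subtype.val hg) he
  -- commuting elements of 2-subgroups
  have hcentral : ∀ {P : Subgroup G}, IsPGroup 2 P → ∀ {x y : G}, x ∈ P → y ∈ P → x * x = 1 → x * y = y * x := by
    intro P hP x y hx hy hxx
    have hPL := h.le_of_two hK he he1 hP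
    have h1 := comm_of_concl hconcl (P := P.subgroupOf L) hP.comap_subtype (x := ⟨x, hPL hx⟩) (y := ⟨y, hPL hy⟩)
      hx hy (Subtype.ext hxx)
    exact congrArg Subtype.val h1
  obtain ⟨g, hg1, hg2⟩ := h.exists_conj hK
  obtain ⟨t, ht⟩ : ∃ t, t = g * zz K * g⁻¹ := ⟨_, rfl⟩
  rw [← ht] at hg1 hg2
  have hK' : cj g K ∈ Om := h.hyp.conj K hK g
  have hzK' : zz (cj g K) = t := by rw [h.hyp.zz_cj hK, ht]
  have htt : t * t = 1 := by rw [← hzK']; exact h.hyp.zz_mul hK'
  have ht2 : IsPGroup 2 (zpowers t) := by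
    refine IsPGroup.of_card (n := 1) ?_
    rw [Nat.card_zpowers, pow_one, ← hzK']
    exact h.hyp.orderOf_zz hK'
  -- a Sylow 2-subgroup of `C(z)` containing `t`
  obtain ⟨T, hT, htT⟩ := exists_syl_ge ht2
    (zpowers_le.2 (mem_centralizer_singleton_iff.2 hg1) : zpowers t ≤ centralizer {zz K})
  have htT' : t ∈ T := htT (mem_zpowers t)
  have hQ : Syl (K ⊓ T) K := by
    obtain ⟨i, j, d, hs⟩ := h.mem K hK
    exact hs.syl_inf hT
  -- `t` centralises `Q = K ⊓ T`
  have hct : ∀ x ∈ K ⊓ T, x * zz (cj g K) = zz (cj g K) * x := by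
    intro x hx
    rw [hzK']
    exact (hcentral hT.2.1 htT' hx.2 htt).symm
  have hQN : K ⊓ T ≤ normalizer (cj g K : Set G) := by
    obtain ⟨c, v, n, gq⟩ := h.hyp.exists_gq hK hQ
    exact gq.le_of_four fun y hy hy4 =>
      h.hyp.h3 K hK _ hK' y hy.1 (hQ.2.1.to_le (zpowers_le.2 hy)) hy4.ge (hct y hy)
  obtain ⟨Q', hQ', hQQ'⟩ := exists_syl_normalized hQ.2.1 hQN
  have hR : IsPGroup 2 (Q' ⊔ (K ⊓ T) : Subgroup G) := by
    rw [sup_comm]
    exact isPGroup_sup_of_normalizes hQ.2.1 hQ'.2.1 hQQ'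
  have hRL := h.le_of_two hK he he1 hR
  have hK1 : K ∈ OmS Om (Q' ⊔ (K ⊓ T)) := mem_OmS_of_le hK hQ le_sup_right
  have hK2 : cj g K ∈ OmS Om (Q' ⊔ (K ⊓ T)) := mem_OmS_of_le hK' hQ' le_sup_left
  have hne : K ≠ cj g K := by
    intro h1
    apply hg2
    rw [← hzK', ← h1]
  have hcomm : ∀ x ∈ K ⊓ T, ∀ y ∈ Q', x * y = y * x := fun x hx y hy =>
    h.hyp.comm hR hK1 hK2 hne ⟨hx.1, mem_sup_right hx⟩ ⟨hQ'.1 hy, mem_sup_left hy⟩
  obtain ⟨c, v, n, gq⟩ := h.hyp.exists_gq hK hQ
  obtain ⟨c', v', n', gq'⟩ := h.hyp.exists_gq hK' hQ'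
  have e1 : (K ⊓ T) ≤ L := le_trans le_sup_right hRL
  have e2 : Q' ≤ L := le_trans le_sup_left hRL
  refine Cfsg.Agent.Cit.CloBen.false_of_concl hconcl (P := (Q' ⊔ (K ⊓ T)).subgroupOf L)
    (Q := (K ⊓ T).subgroupOf L) (R := Q'.subgroupOf L) hR.comap_subtype
    (fun x hx => (le_sup_right : K ⊓ T ≤ Q' ⊔ (K ⊓ T)) hx)
    (fun x hx => (le_sup_left : Q' ≤ Q' ⊔ (K ⊓ T)) hx)
    (fun x hx y hy => Subtype.ext (hcomm x hx y hy)) ?_ ?_
  · exact ⟨⟨v, e1 gq.v_mem⟩, gq.v_mem, ⟨c, e1 gq.c_mem⟩, gq.c_mem, fun h1 => gq.not_comm (congrArg Subtype.val h1)⟩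
  · exact ⟨⟨v', e2 gq'.v_mem⟩, gq'.v_mem, ⟨c', e2 gq'.c_mem⟩, gq'.c_mem,
      fun h1 => gq'.not_comm (congrArg Subtype.val h1)⟩

end Cfsg.Agent.Cit.QTwo.CC
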