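import Cfsg.Agent.Cit.QTwo.Main
import Cfsg.Agent.Cit.QTwo.CCExc
import Cfsg.Agent.Cit.HexInv
import Cfsg.Agent.Cit.CoreOneHex

/-!
# [Q2]: `Q2Leaf`

* `cExc` : `CExc` from Bender's theorem for simple groups (one class of involutions in `G₂(q)`, `³D₄(q)`);
* `q2Leaf` : `Q2Leaf` from the odd order theorem, S1169, Bender's theorem (both for simple groups) and S1173.
-/

set_option autoImplicit false
set_option linter.dupNamespace false
set_option linter.style.haveILetI false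

namespace Cfsg.Agent.Cit.QTwo.Leaf

open Subgroup Cfsg Cfsg.Agent.Cit

universe u

theorem isConj_of_isG2D4 {X : Type*} [Group X] [Finite X] {p : ℕ} (hp : p ≠ 2) (h : IsG2D4 p X) {s t : X}
    (hs : orderOf s = 2) (ht : orderOf t = 2) : IsConj s t := by
  obtain ⟨F, _, _, _, hG⟩ := h
  have h2 := CoreOneHex.two_ne_zero_of_char hp F
  have key : ∀ {L : Type} [Group L] [Finite L] {E : Type} [Field E] [Finite E] {σ : E ≃+* E}
      (_ : HexBase.HexGrp σ L) (_ : (2 : E) ≠ 0) (e : X ≃* L), IsConj s t := by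
    intro L _ _ E _ _ σ c h2 e
    have k : ∀ {r : X}, orderOf r = 2 → e r * e r = 1 ∧ e r ≠ 1 := by
      intro r hr
      refine ⟨?_, fun h1 => ?_⟩
      · rw [← map_mul, ← pow_two, ← hr, pow_orderOf_eq_one, map_one]
      · rw [e.injective (by rw [h1, map_one] : e r = e 1), orderOf_one] at hr
        norm_num at hr
    obtain ⟨g, hg⟩ := isConj_iff.1 (c.isConj_invol h2 (k hs).1 (k hs).2 (k ht).1 (k ht).2)
    refine isConj_iff.2 ⟨e.symm g, e.injective ?_⟩
    rw [map_mul, map_mul, map_inv, e.apply_symm_apply, hg]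
  rcases hG with ⟨⟨e⟩⟩ | ⟨q, hq, hF, ⟨e⟩⟩
  · haveI : Finite ↥(Lie.chevG2.group F) := Finite.of_equiv _ e.toEquiv
    exact key (HexG2.g2 F h2) h2 e
  · haveI : Finite ↥(Lie.twistedD4 F q) := Finite.of_equiv _ e.toEquiv
    obtain ⟨σ, -, ⟨c⟩⟩ := HexD4.exists_d4 hF
    exact key c h2 e

/-- **part [C]** -/
theorem cExc (bend : ∀ (G : Type u) [Group G] [Finite G] [IsSimpleGroup G], CloEnd.Bend G) : CC.CExc.{u} := by
  intro G _ _ Om L h K hK e he p hp hp2 iso
  by_contra he1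
  haveI := h.simple
  exact h.false_of_one (bend L) hK he he1 fun s t hs ht =>
    isConj_of_isG2D4 hp2 (iso.congr h.equivQuot.symm) hs ht

/-- **[Q2]** -/
theorem q2Leaf (odd : CoresG.OddStmt.{u}) (h1169 : Main.S1169Stmt.{u})
    (bend : ∀ (G : Type u) [Group G] [Finite G] [IsSimpleGroup G], CloEnd.Bend G)
    (h1173 : CoreOne.S1173Stmt.{u}) : Q2Leaf.{u} :=
  Main.q2Leaf_of_cExc odd (cExc bend) h1169 bend h1173

end Cfsg.Agent.Cit.QTwo.Leaf
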