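import Cfsg.Agent.Nodes.ChartLoc
import Cfsg.Agent.Nodes.OppDec
import Cfsg.Agent.Cit.AutAct
import Cfsg.Agent.Cit.TDef
import Cfsg.Agent.Cit.FrameOfFr
import Cfsg.Agent.Nodes.OrthRoot
import Cfsg.Agent.Lib.KleinGen

/-!
# [Q2], (CC3), the chart part

`L` a group with a chart, `e` an element normalising `L` such that `g e = e g` for all `g ∈ L` with
`[z_r, g z_r g⁻¹] = 1` (`r ∈ R`).  Then `e` centralises `L`.

* `trick` : `x ∈ X_{-i}`, `z = z_r` inverting `X_{± i}` (modulo `Z`), `z_{s_i r} = z`: there is `a ∈ X_i` such that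
  `(x a)⁻¹ z (x a)` is an element of `N` over `s_i` times `z`, commuting with `z`.
-/

set_option autoImplicit false
set_option linter.unusedSectionVars false
set_option linter.dupNamespace false

namespace Cfsg.Agent.Cit.QTwo.ChartPart

open CoxeterSystem Cfsg Cfsg.Agent.ChevalleyStructure.CoxeterGeom Cfsg.Agent.Tits.Roots Cfsg.Agent.Tits.Core
  Cfsg.Agent.Tits.RootComb Cfsg.Agent.Tits.Exchange Cfsg.Agent.Nodes.Comb Cfsg.Agent.Nodes.Reps
  Cfsg.Agent.Nodes.BNOf Cfsg.Agent.Nodes.RGDLib Cfsg.Agent.Nodes.Chart Cfsg.Agent.Nodes.StabComb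
  Cfsg.Agent.Nodes.Bruhat Cfsg.Agent.Nodes.ClsNorm Cfsg.Agent.Nodes.ChartLoc Cfsg.Agent.Nodes.OppDec
  Cfsg.Agent.Nodes.LeviDec

section Cls

variable {I W Y : Type*} [Fintype I] [DecidableEq I] [Group W] [Fintype W] [Group Y] {M : CoxeterMatrix I}
  {cs : CoxeterSystem M W} {A : I → I → ℤ} {h : IsCartan M A} {p : ℕ} {T : Subgroup Y} {n : I → Y}
  {X : (I → ℤ) → Subgroup Y} {R : Set (I → ℤ)} {Z : (I → ℤ) → Subgroup Y} {z : (I → ℤ) → Y}

variable (C : Cls cs h p T n X R Z z)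

include C

theorem z_inv_eq {r : I → ℤ} (hr : r ∈ R) : (z r)⁻¹ = z r := inv_eq_of_mul_eq_one_left (C.z_sq r hr)

/-- `z_r` inverts `X y` modulo itself -/
theorem z_act {r : I → ℤ} (hr : r ∈ R) {y : I → ℤ} (hy : IsRoot cs h y) (hf : form cs h y r ≠ 0) {a : Y}
    (ha : a ∈ X y) : z r * a * z r * a ∈ X y := by
  by_cases h1 : y = r
  · subst h1
    exact C.le y hr (C.z_inv_self y hr a ha)
  by_cases h2 : y = -r
  · subst h2
    have h3 := neg_mem C hr
    have h4 := C.z_inv_self (-r) h3 a ha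
    rw [C.z_neg r hr] at h4
    exact C.le _ h3 h4
  · rw [C.z_inv r hr y hy h1 h2 hf a ha, inv_mul_cancel]
    exact one_mem _

/-- conjugation of root groups by `T` -/
theorem conj_T {t : Y} (ht : t ∈ T) {y : I → ℤ} (hy : IsRoot cs h y) {a : Y} (ha : a ∈ X y) : t * a * t⁻¹ ∈ X y := by
  have h1 := C.rgd.tor y hy t ht
  rw [← h1]
  exact Nodes.Reps.conj_mem_cj.2 ha

/-- the product decomposition `X_i (n_i T) X_i` is unique -/
theorem decomp_unique {i : I} {a m b a' m' b' : Y} (ha : a ∈ X (sr i)) (ha' : a' ∈ X (sr i)) (hb : b ∈ X (sr i))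
    (hb' : b' ∈ X (sr i)) (hm : Rp cs C.rgd.nsys (cs.simple i) m) (hm' : Rp cs C.rgd.nsys (cs.simple i) m')
    (e : a * m * b = a' * m' * b') : a = a' ∧ m = m' ∧ b = b' := by
  have hi : (sr i : I → ℤ) ∈ RGD.Pos cs h := ⟨isRoot_sr cs h i, sr_nonneg i⟩
  have h1 : a'⁻¹ * a = (m' * (b' * b⁻¹) * m'⁻¹) * (m' * m⁻¹) := by
    calc a'⁻¹ * a = a'⁻¹ * (a * m * b) * b⁻¹ * m⁻¹ := by group
      _ = a'⁻¹ * (a' * m' * b') * b⁻¹ * m⁻¹ := by rw [e]
      _ = _ := by group
  have h2 : m' * (b' * b⁻¹) * m'⁻¹ ∈ X (-sr i) := by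
    have := C.rgd.conj_mem hm' (isRoot_sr cs h i) (mul_mem hb' (inv_mem hb))
    rwa [rep_simple_sr] at this
  have h3 : m' * m⁻¹ ∈ T := by
    have h4 := (hm.inv.mul hm'.inv.inv)
    rw [inv_inv] at h4
    have h5 := hm'.mul hm.inv
    rw [mul_inv_cancel] at h5
    exact h5.mem_of_one
  have h4 : a'⁻¹ * a = 1 := by
    refine eq_one_of_mem_U_of_mem_BN C.rgd (RGD.le_Sup hi (mul_mem (inv_mem ha') ha)) ?_
    rw [h1]
    exact mul_mem (X_le_BN (isRoot_sr cs h i).neg (neg_nonpos.2 (sr_nonneg i)) h2) (T_le_BN h3)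
  have h5 : a = a' := (inv_mul_eq_one.1 h4).symm
  subst h5
  have h6 : m * b = m' * b' := by
    have : a * (m * b) = a * (m' * b') := by rw [← mul_assoc, ← mul_assoc, e]
    exact mul_left_cancel this
  have h7 : b * b'⁻¹ = 1 := by
    have h8 : b * b'⁻¹ = m⁻¹ * m' := by
      calc b * b'⁻¹ = m⁻¹ * (m * b) * b'⁻¹ := by group
        _ = m⁻¹ * (m' * b') * b'⁻¹ := by rw [h6]
        _ = _ := by group
    have h9 : b * b'⁻¹ ∈ X (sr i) ⊓ T :=
      ⟨(X (sr i)).mul_mem hb ((X (sr i)).inv_mem hb'), by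
        change b * b'⁻¹ ∈ T
        rw [h8]; exact hm.unique hm'⟩
    rwa [X_inf_T C.rgd (isRoot_sr cs h i), Subgroup.mem_bot] at h9
  have h8 : b = b' := mul_inv_eq_one.1 h7
  subst h8
  exact ⟨rfl, mul_right_cancel h6, rfl⟩

/-- `m ∈ N` over `s_i` commutes with `z r` if `z (s_i r) = z r` -/
theorem comm_of_rp {i : I} {r : I → ℤ} (hr : r ∈ R) (hz : z (rep cs h (cs.simple i) r) = z r) {m : Y}
    (hm : Rp cs C.rgd.nsys (cs.simple i) m) : m * z r = z r * m := by
  have h1 := conj_z C hm hr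
  rw [hz] at h1
  exact mul_inv_eq_iff_eq_mul.1 h1

/-- **the rank one trick** -/
theorem trick {i : I} {r : I → ℤ} (hr : r ∈ R) (hf : form cs h (sr i) r ≠ 0)
    (hz : z (rep cs h (cs.simple i) r) = z r) {x : Y} (hx : x ∈ X (-sr i)) (hne : x * z r ≠ z r * x) :
    ∃ a ∈ X (sr i), ∃ m, Rp cs C.rgd.nsys (cs.simple i) m ∧ m * m = 1 ∧ m * z r = z r * m ∧
      (x * a)⁻¹ * z r * (x * a) = m * z r := by
  have hi := isRoot_sr cs h i
  have hzz := C.z_sq r hr
  have hzi := z_inv_eq C hr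
  obtain ⟨w, hw⟩ : ∃ w, w = x⁻¹ * (z r * x * z r) := ⟨_, rfl⟩
  have hwX : w ∈ X (-sr i) := by
    have h1 := z_act C hr hi.neg (by rw [form_neg_left]; omega) hx
    have h2 : z r * x * z r = (z r * x * z r * x) * x⁻¹ := by group
    rw [hw]
    refine mul_mem (inv_mem hx) ?_
    rw [h2]
    exact mul_mem h1 (inv_mem hx)
  have hw1 : w ≠ 1 := by
    intro h1
    apply hne
    rw [h1] at hw
    have h2 : x = z r * x * z r := by
      calc x = x * 1 := (mul_one x).symm
        _ = x * (x⁻¹ * (z r * x * z r)) := by rw [← hw]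
        _ = _ := by group
    calc x * z r = z r * x * z r * z r := by rw [← h2]
      _ = z r * x * (z r * z r) := by group
      _ = z r * x := by rw [hzz, mul_one]
  have hzw : z r * w * z r = w⁻¹ := by
    rw [hw]
    calc z r * (x⁻¹ * (z r * x * z r)) * z r = z r * x⁻¹ * z r * x * (z r * z r) := by group
      _ = z r * x⁻¹ * z r * x := by rw [hzz, mul_one]
      _ = (z r)⁻¹ * x⁻¹ * (z r)⁻¹ * x := by rw [hzi]
      _ = _ := by group
  obtain ⟨a, ha, t, ht, b, hb, e⟩ := C.rgd.rk1 i w hwX hw1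
  obtain ⟨m, hm0⟩ : ∃ m, m = t * n i := ⟨_, rfl⟩
  have hm : Rp cs C.rgd.nsys (cs.simple i) m := by
    have h1 := (rp_of_mem (cs := cs) (hN := C.rgd.nsys) ht).mul (rp_simple cs C.rgd.nsys i)
    rw [one_mul] at h1
    rw [hm0]; exact h1
  rw [mul_assoc a t, ← hm0] at e
  have hmz := comm_of_rp C hr hz hm
  -- conjugation by `z`
  have ha' : z r * a * z r ∈ X (sr i) := by
    have := conj_T C (C.z_torus r hr) hi ha
    rwa [hzi] at this
  have hb' : z r * b * z r ∈ X (sr i) := by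
    have := conj_T C (C.z_torus r hr) hi hb
    rwa [hzi] at this
  have e1 : (z r * a * z r) * m * (z r * b * z r) = b⁻¹ * m⁻¹ * a⁻¹ := by
    calc (z r * a * z r) * m * (z r * b * z r) = z r * a * (z r * m) * z r * b * z r := by group
      _ = z r * a * (m * z r) * z r * b * z r := by rw [hmz]
      _ = z r * a * m * (z r * z r) * b * z r := by group
      _ = z r * (a * m * b) * z r := by rw [hzz]; group
      _ = w⁻¹ := by rw [← e, hzw]
      _ = _ := by rw [e]; group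
  have hm2 : Rp cs C.rgd.nsys (cs.simple i) m⁻¹ := by
    have := hm.inv
    rwa [inv_simple] at this
  obtain ⟨e2, e3, -⟩ := decomp_unique C ha' (inv_mem hb) hb' (inv_mem ha) hm hm2 e1
  refine ⟨a, ha, m, hm, ?_, hmz, ?_⟩
  · rw [mul_eq_one_iff_eq_inv]; exact e3
  · calc (x * a)⁻¹ * z r * (x * a) = a⁻¹ * (x⁻¹ * (z r * x * 1)) * a := by group
      _ = a⁻¹ * (x⁻¹ * (z r * x * (z r * z r))) * a := by rw [hzz]
      _ = a⁻¹ * (x⁻¹ * (z r * x * z r)) * z r * a := by group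
      _ = a⁻¹ * w * z r * a := by rw [hw]
      _ = a⁻¹ * (a * m * b) * z r * a := by rw [e]
      _ = m * b * (z r * a * 1) := by group
      _ = m * b * (z r * a * (z r * z r)) := by rw [hzz]
      _ = m * b * (z r * a * z r) * z r := by group
      _ = m * b * b⁻¹ * z r := by rw [e2]
      _ = m * z r := by group

/-! ### The element `e` -/

/-- `z r` commutes with `(x a) z_r (x a)⁻¹` -/
theorem comm_conj_of {r : I → ℤ} {g m : Y} (hm : m * z r = z r * m) (e : g⁻¹ * z r * g = m * z r) :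
    z r * (g * z r * g⁻¹) = g * z r * g⁻¹ * z r := by
  have h1 : z r = g * (m * z r) * g⁻¹ := by rw [← e]; group
  have h2 : z r * (m * z r) = m * z r * z r := by rw [← mul_assoc, ← hm]
  calc z r * (g * z r * g⁻¹) = g * (m * z r) * g⁻¹ * (g * z r * g⁻¹) := by rw [← h1]
    _ = g * (m * z r * z r) * g⁻¹ := by group
    _ = g * (z r * (m * z r)) * g⁻¹ := by rw [h2]
    _ = g * z r * g⁻¹ * (g * (m * z r) * g⁻¹) := by group
    _ = g * z r * g⁻¹ * z r := by rw [← h1]

variable (hp2 : p ≠ 2) [Fact p.Prime] [Finite Y] {e : Y}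
  (he : e ∈ Subgroup.normalizer (GG cs h T X : Set Y))
  (hP : ∀ r ∈ R, ∀ g ∈ GG cs h T X, z r * (g * z r * g⁻¹) = g * z r * g⁻¹ * z r → g * e = e * g)

include hP

omit [Fact p.Prime] [Finite Y] in
/-- `e` centralises `C_L(z_r)` -/
theorem comm_of_comm_z {r : I → ℤ} (hr : r ∈ R) {g : Y} (hg : g ∈ GG cs h T X) (hgz : g * z r = z r * g) :
    g * e = e * g := by
  refine hP r hr g hg ?_
  have h1 : g * z r * g⁻¹ = z r := by rw [hgz]; group
  rw [h1]

/-- `e` centralises `C_L(u)` for every `u = g⁻¹ z_r g`, `g e = e g` -/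
theorem comm_of_comm_conj {r : I → ℤ} (hr : r ∈ R) {g u : Y} (hg : g ∈ GG cs h T X) (hge : g * e = e * g)
    (hu : g⁻¹ * z r * g = u) {k : Y} (hk : k ∈ GG cs h T X) (hku : k * u = u * k) : k * e = e * k := by
  have h1 : g * k * g⁻¹ * e = e * (g * k * g⁻¹) := by
    refine comm_of_comm_z C hP hr (mul_mem (mul_mem hg hk) (inv_mem hg)) ?_
    have h2 : z r = g * u * g⁻¹ := by rw [← hu]; group
    calc g * k * g⁻¹ * z r = g * (k * u) * g⁻¹ := by rw [h2]; group
      _ = g * (u * k) * g⁻¹ := by rw [hku]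
      _ = z r * (g * k * g⁻¹) := by rw [h2]; group
  have h3 : g⁻¹ * e = e * g⁻¹ := by
    calc g⁻¹ * e = g⁻¹ * (e * g) * g⁻¹ := by group
      _ = g⁻¹ * (g * e) * g⁻¹ := by rw [hge]
      _ = e * g⁻¹ := by group
  calc k * e = g⁻¹ * (g * k * g⁻¹) * (g * e) := by group
    _ = g⁻¹ * (g * k * g⁻¹) * (e * g) := by rw [hge]
    _ = g⁻¹ * (g * k * g⁻¹ * e) * g := by group
    _ = g⁻¹ * (e * (g * k * g⁻¹)) * g := by rw [h1]
    _ = g⁻¹ * e * (g * k) := by group
    _ = e * g⁻¹ * (g * k) := by rw [h3]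
    _ = e * k := by group

omit [Fact p.Prime] [Finite Y] in
theorem comm_T (hRne : R.Nonempty) {t : Y} (ht : t ∈ T) : t * e = e * t := by
  obtain ⟨r, hr⟩ := hRne
  exact comm_of_comm_z C hP hr (T_le_GG ht) (C.z_T r hr t ht).symm

omit [Fact p.Prime] [Finite Y] in
theorem comm_n (hRne : R.Nonempty) (i : I) : n i * e = e * n i := by
  obtain ⟨r, hr⟩ := hRne
  refine hP r hr _ (NN_le_GG C.rgd ⟨_, rp_simple cs C.rgd.nsys i⟩) ?_
  rw [C.z_conj i r hr]
  exact C.z_T r hr _ (C.z_torus _ (C.act r hr _))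

omit [Fact p.Prime] [Finite Y] in
theorem comm_rp (hRne : R.Nonempty) {w : W} {k : Y} (hk : Rp cs C.rgd.nsys w k) : k * e = e * k := by
  obtain ⟨r, hr⟩ := hRne
  refine hP r hr _ (NN_le_GG C.rgd ⟨_, hk⟩) ?_
  rw [conj_z C hk hr]
  exact C.z_T r hr _ (C.z_torus _ (C.act r hr _))

omit [Fact p.Prime] [Finite Y] in
theorem comm_Z {r : I → ℤ} (hr : r ∈ R) {a : Y} (ha : a ∈ Z r ⊔ Z (-r)) : a * e = e * a :=
  comm_of_comm_z C hP hr (sup_le_GG C hr ha) (cls_commute_z C hr ha)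

omit [Fact p.Prime] [Finite Y] hP in
/-- `X y` commutes with `z r` for `(y, r) = 0` -/
theorem comm_z_of_orth {r : I → ℤ} (hr : r ∈ R) {y : I → ℤ} (hy : IsRoot cs h y) (hf : form cs h y r = 0) {a : Y}
    (ha : a ∈ X y) : a * z r = z r * a := by
  have h1 : X y ≤ Subgroup.centralizer ((Z r ⊔ Z (-r) : Subgroup Y) : Set Y) := by
    rw [← Subgroup.le_centralizer_iff]
    refine sup_le ?_ ?_
    · intro b hb
      rw [Subgroup.mem_centralizer_iff]
      intro c hc
      exact C.cent r hr y hy hf.ge c hc b hb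
    · intro b hb
      rw [Subgroup.mem_centralizer_iff]
      intro c hc
      exact C.cent (-r) (neg_mem C hr) y hy (by rw [form_comm, form_neg_left, form_comm, hf, neg_zero]) c hc b hb
  exact (Subgroup.mem_centralizer_iff.1 (h1 ha) _ (C.z_mem r hr)).symm

omit [Fact p.Prime] [Finite Y] in
theorem comm_of_orth {r : I → ℤ} (hr : r ∈ R) {y : I → ℤ} (hy : IsRoot cs h y) (hf : form cs h y r = 0) {a : Y}
    (ha : a ∈ X y) : a * e = e * a :=
  comm_of_comm_z C hP hr (X_le_GG hy ha) (comm_z_of_orth C hr hy hf ha)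

omit hP in
/-- `VV_r ∩ VV_{-r} = 1` -/
theorem VV_inf_VV {r : I → ℤ} (hr : r ∈ R) : VV cs h X r ⊓ VV cs h X (-r) = ⊥ := by
  rw [Subgroup.eq_bot_iff_forall]
  rintro u ⟨h1, h2⟩
  obtain ⟨w, hw⟩ := exists_dominant (cs := cs) (h := h) r
  obtain ⟨k, hk⟩ := exists_rp cs C.rgd.nsys w
  have h3 : k * u * k⁻¹ ∈ VV cs h X (rep cs h w r) := by
    rw [← cj_VV C hk]; exact Nodes.Reps.conj_mem_cj.2 h1
  have h4 : k * u * k⁻¹ ∈ VV cs h X (rep cs h w (-r)) := by
    rw [← cj_VV C hk]; exact Nodes.Reps.conj_mem_cj.2 h2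
  rw [VV_eq_VJ hw] at h3
  have h5 : VV cs h X (rep cs h w (-r)) ≤ UN cs h X := by
    refine RGD.Sup_le fun y hy => ?_
    rw [map_neg] at hy
    have h6 : -y ∈ NotJ cs h (orth cs h (rep cs h w r)) := by
      refine (mem_NotJ_orth_iff hw hy.1.neg).2 ?_
      rw [form_neg_left]
      have := hy.2
      rw [form_comm, form_neg_left, form_comm] at this
      exact this
    exact X_le_UN hy.1 (neg_nonneg.1 h6.2.1)
  have h6 := eq_one_of_mem_U_of_mem_BN C.rgd (VJ_le_U _ h3) (UN_le_BN (h5 h4))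
  have h7 : u = k⁻¹ * (k * u * k⁻¹) * k := by group
  rw [h7, h6]; group

include he hp2

/-- `e` normalises `VV_r` -/
theorem conj_mem_VV {r : I → ℤ} (hr : r ∈ R) {v₀ : Y} (hv₀ : v₀ ∈ VV cs h X r) : e * v₀ * e⁻¹ ∈ VV cs h X r := by
  have key : VV cs h X r ≤ (VV cs h X r).comap (MulAut.conj e).toMonoidHom := by
    refine RGD.Sup_le fun y hy v hv => ?_
    rw [Subgroup.mem_comap]
    change e * v * e⁻¹ ∈ VV cs h X r
    have hyr := hy.1
    have hf : 0 < form cs h y r := hy.2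
    have hne : y ≠ -r := by
      rintro rfl
      rw [form_neg_left] at hf
      have := form_nonneg cs h r
      omega
    have hRne : R.Nonempty := ⟨r, hr⟩
    -- `c = z v z v`
    obtain ⟨c, hc⟩ : ∃ c, c = z r * v * z r * v := ⟨_, rfl⟩
    have hcZ : c ∈ Z r := by
      by_cases h1 : y = r
      · subst h1
        rw [hc]; exact C.z_inv_self y hr v hv
      · rw [hc, C.z_inv r hr y hyr h1 hne hf.ne' v hv, inv_mul_cancel]
        exact one_mem _
    have hvc : v * c = c * v := C.cent r hr y hyr hf.le v hv c hcZ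
    have hzz := C.z_sq r hr
    have hzi := z_inv_eq C hr
    have hce : c * e = e * c := comm_Z C hP hr (Subgroup.mem_sup_left hcZ)
    have hze : z r * e = e * z r := comm_T C hP hRne (C.z_torus r hr)
    have e1 : v * v = v * z r * v⁻¹ * (z r)⁻¹ * c := by
      have h1 : z r * v⁻¹ * z r = v * c⁻¹ := by
        calc z r * v⁻¹ * z r = z r * v⁻¹ * (z r)⁻¹ := by rw [hzi]
          _ = v * (z r * v * z r * v)⁻¹ * (z r * z r) * (z r)⁻¹ * (z r)⁻¹ := by
            rw [hzz]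
            calc z r * v⁻¹ * (z r)⁻¹ = v * (v⁻¹ * (z r)) * v⁻¹ * (z r)⁻¹ := by group
              _ = v * (v⁻¹ * (z r)⁻¹) * v⁻¹ * (z r)⁻¹ := by rw [hzi]
              _ = v * (z r * v * z r * v)⁻¹ * z r * (z r)⁻¹ := by
                rw [show (z r * v * z r * v)⁻¹ = v⁻¹ * (z r)⁻¹ * v⁻¹ * (z r)⁻¹ by group]; group
              _ = _ := by rw [hzi]; group
          _ = v * c⁻¹ := by rw [hc]; group
      calc v * v = v * (v * c⁻¹) * c := by group
        _ = v * (z r * v⁻¹ * z r) * c := by rw [h1]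
        _ = v * z r * v⁻¹ * (z r) * c := by group
        _ = _ := by rw [hzi]
    have hvN : v ∈ Subgroup.normalizer (Z r : Set Y) :=
      centralizer_le_normalizer' _ (X_le_centralizer C hr hyr hf.le hv)
    have hZe : ∀ a ∈ Z r, e * a * e⁻¹ = a := by
      intro a ha
      rw [← comm_Z C hP hr (Subgroup.mem_sup_left ha)]; group
    have heN : e ∈ Subgroup.normalizer (Z r : Set Y) := by
      rw [Subgroup.mem_normalizer_iff]
      intro a
      constructor
      · intro ha; rw [hZe a ha]; exact ha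
      · intro ha
        have h1 := hZe _ ha
        have h2 : e * a * e⁻¹ = a := by
          have h3 : e * (e * a * e⁻¹) * e⁻¹ = e * a * e⁻¹ := h1
          have h4 : e * a * e⁻¹ = e⁻¹ * (e * (e * a * e⁻¹) * e⁻¹) * e := by group
          rw [h4, h3]; group
        rwa [h2] at ha
    have hgG : e * v * e⁻¹ ∈ GG cs h T X := (Subgroup.mem_normalizer_iff.1 he v).1 (X_le_GG hyr hv)
    have h1 := comm_mem_VV C hr hgG (mul_mem (mul_mem heN hvN) (inv_mem heN))
    have e2 : (e * v * e⁻¹) * (e * v * e⁻¹) = (e * v * e⁻¹) * z r * (e * v * e⁻¹)⁻¹ * (z r)⁻¹ * c := by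
      have h2 : e * z r * e⁻¹ = z r := by rw [← hze]; group
      have h3 : e * c * e⁻¹ = c := by rw [← hce]; group
      calc (e * v * e⁻¹) * (e * v * e⁻¹) = e * (v * v) * e⁻¹ := by group
        _ = e * (v * z r * v⁻¹ * (z r)⁻¹ * c) * e⁻¹ := by rw [e1]
        _ = (e * v * e⁻¹) * (e * z r * e⁻¹) * (e * v * e⁻¹)⁻¹ * (e * z r * e⁻¹)⁻¹ * (e * c * e⁻¹) := by group
        _ = _ := by rw [h2, h3]
    refine mem_of_odd_sq C hp2 ?_ (by
      rw [e2]
      exact mul_mem h1 (Z_le_VV C hr hcZ))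
    have h2 : orderOf (e * v * e⁻¹) = orderOf v := orderOf_injective (MulAut.conj e).toMonoidHom
      (MulAut.conj e).injective v
    rw [h2]
    exact odd_of_mem_X C hp2 hyr hv
  exact key hv₀

/-- **(S3)** -/
theorem comm_neg {i : I} {r : I → ℤ} (hr : r ∈ R) (hf : form cs h (sr i) r ≠ 0)
    (hz : z (rep cs h (cs.simple i) r) = z r) {x : Y} (hx : x ∈ X (-sr i)) : x * e = e * x := by
  have hi := isRoot_sr cs h i
  have hxG : x ∈ GG cs h T X := X_le_GG hi.neg hx
  by_cases hne : x * z r = z r * x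
  · exact comm_of_comm_z C hP hr hxG hne
  obtain ⟨a, ha, m, -, -, hmz, e1⟩ := trick C hr hf hz hx hne
  have haG : a ∈ GG cs h T X := X_le_GG hi ha
  have h1 : (x * a) * e = e * (x * a) := hP r hr _ (mul_mem hxG haG) (comm_conj_of C hmz e1)
  -- a sign
  obtain ⟨s, hs, hpos⟩ : ∃ s ∈ R, 0 < form cs h (sr i) s := by
    rcases lt_or_gt_of_ne hf with h2 | h2
    · refine ⟨-r, neg_mem C hr, ?_⟩
      rw [form_comm, form_neg_left, form_comm]; omega
    · exact ⟨r, hr, h2⟩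
  have ha' : a ∈ VV cs h X s := RGD.le_Sup (S := {y | IsRoot cs h y ∧ 0 < form cs h y s}) ⟨hi, hpos⟩ ha
  have hx' : x ∈ VV cs h X (-s) := RGD.le_Sup (S := {y | IsRoot cs h y ∧ 0 < form cs h y (-s)}) ⟨hi.neg, by
    rw [form_neg_left, form_comm, form_neg_left, form_comm, neg_neg]; exact hpos⟩ hx
  have h2 : x⁻¹ * (e * x * e⁻¹) = a * (e * a * e⁻¹)⁻¹ := by
    have h3 : (e * x * e⁻¹) * (e * a * e⁻¹) = x * a := by
      calc (e * x * e⁻¹) * (e * a * e⁻¹) = e * (x * a) * e⁻¹ := by group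
        _ = x * a * e * e⁻¹ := by rw [← h1]
        _ = x * a := by group
    calc x⁻¹ * (e * x * e⁻¹) = x⁻¹ * ((e * x * e⁻¹) * (e * a * e⁻¹)) * (e * a * e⁻¹)⁻¹ := by group
      _ = x⁻¹ * (x * a) * (e * a * e⁻¹)⁻¹ := by rw [h3]
      _ = _ := by group
  have h3 : x⁻¹ * (e * x * e⁻¹) ∈ VV cs h X s ⊓ VV cs h X (-s) := by
    refine ⟨?_, (VV cs h X (-s)).mul_mem ((VV cs h X (-s)).inv_mem hx')
      (conj_mem_VV C hp2 he hP (neg_mem C hs) hx')⟩
    change x⁻¹ * (e * x * e⁻¹) ∈ VV cs h X s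
    rw [h2]
    exact mul_mem ha' (inv_mem (conj_mem_VV C hp2 he hP hs ha'))
  rw [VV_inf_VV C hs, Subgroup.mem_bot] at h3
  have h4 : e * x * e⁻¹ = x := by
    rw [inv_mul_eq_one] at h3
    exact h3.symm
  calc x * e = e * x * e⁻¹ * e := by rw [h4]
    _ = e * x := by group

omit he hP hp2 [Fact p.Prime] [Finite Y] in
/-- an element commuting with `T`, the `n_i` and the `X_{-i}` commutes with everything -/
theorem comm_gen {u : Y} (hT : ∀ t ∈ T, t * u = u * t) (hn : ∀ i, n i * u = u * n i)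
    (hX : ∀ i, ∀ x ∈ X (-sr i), x * u = u * x) {g : Y} (hg : g ∈ GG cs h T X) : g * u = u * g := by
  have key : GG cs h T X ≤ Subgroup.centralizer {u} := by
    have hTD : T ≤ Subgroup.centralizer {u} := fun t ht => Subgroup.mem_centralizer_singleton_iff.2 (hT t ht)
    have hN : NN cs C.rgd.nsys ≤ Subgroup.centralizer {u} := by
      rw [NN_eq]
      refine sup_le hTD ?_
      rw [Subgroup.closure_le]
      rintro _ ⟨i, rfl⟩
      exact Subgroup.mem_centralizer_singleton_iff.2 (hn i)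
    refine sup_le hTD (RGD.Sup_le ?_)
    rintro y ⟨w, i, rfl⟩ x hx
    obtain ⟨k, hk⟩ := exists_rp cs C.rgd.nsys (w * cs.simple i)
    have h1 : rep cs h (w * cs.simple i) (-sr i) = rep cs h w (sr i) := by
      rw [rep_mul_apply, map_neg (rep cs h (cs.simple i)), rep_simple_sr, neg_neg]
    rw [← h1, ← C.rgd.conj_rp hk (isRoot_sr cs h i).neg, Nodes.Reps.mem_cj] at hx
    have h2 := Subgroup.mem_centralizer_singleton_iff.2 (hX i _ hx)
    have hk' : k ∈ Subgroup.centralizer {u} := hN ⟨_, hk⟩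
    have h3 : x = k * (k⁻¹ * x * k) * k⁻¹ := by group
    rw [h3]
    exact mul_mem (mul_mem hk' h2) (inv_mem hk')
  exact Subgroup.mem_centralizer_singleton_iff.1 (key hg)

omit he hp2 [Fact p.Prime] [Finite Y] in
/-- from `X_i` to `X_{-i}` -/
theorem comm_neg_of_pos (hRne : R.Nonempty) {i : I} (hX : ∀ x ∈ X (sr i), x * e = e * x) {x : Y}
    (hx : x ∈ X (-sr i)) : x * e = e * x := by
  have h1 := C.rgd.conj i (sr i) (isRoot_sr cs h i)
  rw [rep_simple_sr] at h1
  rw [← h1, Nodes.Reps.mem_cj] at hx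
  have h2 := hX _ hx
  have h3 := comm_n C hP hRne i
  have h4 : (n i)⁻¹ * e = e * (n i)⁻¹ := by
    calc (n i)⁻¹ * e = (n i)⁻¹ * (e * n i) * (n i)⁻¹ := by group
      _ = (n i)⁻¹ * (n i * e) * (n i)⁻¹ := by rw [h3]
      _ = e * (n i)⁻¹ := by group
  calc x * e = n i * ((n i)⁻¹ * x * n i) * ((n i)⁻¹ * e) := by group
    _ = n i * ((n i)⁻¹ * x * n i) * (e * (n i)⁻¹) := by rw [h4]
    _ = n i * (((n i)⁻¹ * x * n i) * e) * (n i)⁻¹ := by group
    _ = n i * (e * ((n i)⁻¹ * x * n i)) * (n i)⁻¹ := by rw [h2]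
    _ = n i * e * ((n i)⁻¹ * x) := by group
    _ = e * n i * ((n i)⁻¹ * x) := by rw [h3]
    _ = e * x := by group

/-- **the case of the type `C 2`** -/
theorem comm_C2 {i j : I} (hij : ∀ k, k = i ∨ k = j) (hne : i ≠ j) (hi : (sr i : I → ℤ) ∈ R)
    (hf : form cs h (sr j) (sr i) ≠ 0) (hor : form cs h (rep cs h (cs.simple j) (sr i)) (sr i) = 0)
    (hty : IsType (Z (sr i) ⊔ Z (-sr i)))
    (hun : ∀ t ∈ Z (sr i) ⊔ Z (-sr i), orderOf t = 2 → t = zz (Z (sr i) ⊔ Z (-sr i)))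
    (hOO : OO (Z (sr i) ⊔ Z (-sr i)) = ⊥)
    (hcen : ∀ g ∈ GG cs h T X, (∀ k ∈ GG cs h T X, k * g = g * k) → g = 1) {x : Y} (hx : x ∈ X (-sr j)) :
    x * e = e * x := by
  obtain ⟨r, hr0⟩ : ∃ r : I → ℤ, r = sr i := ⟨_, rfl⟩
  obtain ⟨r', hr'0⟩ : ∃ r', r' = rep cs h (cs.simple j) (sr i) := ⟨_, rfl⟩
  have hri : IsRoot cs h r := hr0 ▸ isRoot_sr cs h i
  have hrj := isRoot_sr cs h j
  have hr : r ∈ R := hr0 ▸ hi
  have hr' : r' ∈ R := by rw [hr'0, ← hr0]; exact C.act r hr _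
  have hRne : R.Nonempty := ⟨r, hr⟩
  rw [← hr0] at hf hty hun hOO
  rw [← hr'0, ← hr0] at hor
  have hjr : (sr j : I → ℤ) ≠ r := by
    rw [hr0]
    intro h1
    have h2 := congrFun h1 j
    rw [sr_self, sr_ne hne.symm] at h2
    omega
  have hjr' : (sr j : I → ℤ) ≠ -r := by
    rw [hr0]
    intro h1
    have h2 := sr_nonneg j
    rw [h1] at h2
    have h3 := neg_nonneg.1 h2
    exact (isRoot_sr cs h i).ne_zero (le_antisymm h3 (sr_nonneg i))
  -- `(α_j, r') = - (α_j, r)`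
  have hf' : form cs h (sr j) r' = -form cs h (sr j) r := by
    have h1 := form_rep cs h (cs.simple j) (sr j) r
    rw [rep_simple_sr, form_neg_left] at h1
    rw [hr'0, ← hr0]
    omega
  have hfr : form cs h (sr j) r' ≠ 0 := by rw [hf']; omega
  have hjj : rep cs h (cs.simple j) r' = r := by
    rw [hr'0, ← rep_mul_apply, cs.simple_mul_simple_self, map_one, Module.End.one_apply, hr0]
  have hjr1 : (sr j : I → ℤ) ≠ r' := by
    intro h1
    have h2 : rep cs h (cs.simple j) r' = -r' := by rw [← h1, rep_simple_sr]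
    rw [hjj] at h2
    exact hjr' (by rw [h1, h2, neg_neg])
  have hjr2 : (sr j : I → ℤ) ≠ -r' := by
    intro h1
    have h2 : rep cs h (cs.simple j) r' = -r' := by
      have h3 : r' = -sr j := by rw [h1, neg_neg]
      rw [h3, map_neg (rep cs h (cs.simple j)), rep_simple_sr]
    rw [hjj] at h2
    exact hjr (by rw [h1, h2])
  have hir' : rep cs h (cs.simple i) r' = r' := by
    have h1 : pairing A i r' = 0 := by
      have h2 := two_form cs h i r'
      rw [← hr0, hor] at h2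
      have h3 := form_pos cs h hri.ne_zero
      rcases mul_eq_zero.1 (h2.symm.trans (mul_zero 2)) with h4 | h4
      · exact h4
      · omega
    rw [rep_simple_eq, h1, zero_smul, sub_zero]
  have hzir : z (rep cs h (cs.simple i) r) = z r := by
    rw [hr0, rep_simple_sr, ← hr0, C.z_neg r hr]
  have hrr := C.z_sq r hr
  have hrr' := C.z_sq r' hr'
  by_cases hz : z r' = z r
  · refine comm_neg C hp2 he hP hr hf ?_ hx
    rw [hr0, ← hr'0, hz, hr0]
  -- `X (-r) ≠ Z (-r)`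
  obtain ⟨x₀, hx₀, hx₀Z⟩ : ∃ x₀ ∈ X (-r), x₀ ∉ Z (-r) := by
    by_contra hcon
    push Not at hcon
    apply hz
    have hXZ : X r ≤ Z r := by
      intro a ha
      have h1 := C.rgd.conj i r hri
      have h2 := C.conj i r hr
      have e1 : rep cs h (cs.simple i) r = -r := by rw [hr0, rep_simple_sr]
      rw [e1] at h1 h2
      have h3 : n i * a * (n i)⁻¹ ∈ X (-r) := by rw [← h1]; exact Nodes.Reps.conj_mem_cj.2 ha
      have h4 := hcon _ h3
      rw [← h2] at h4
      exact Nodes.Reps.conj_mem_cj.1 h4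
    have hT1 : ∀ t ∈ T, t * (z r * z r') = z r * z r' * t := by
      intro t ht
      rw [← mul_assoc, ← C.z_T r hr t ht, mul_assoc, ← C.z_T r' hr' t ht, ← mul_assoc]
    have hw : z r * z r' = 1 := by
      refine hcen _ (mul_mem (T_le_GG (C.z_torus r hr)) (T_le_GG (C.z_torus r' hr'))) fun k hk => ?_
      refine comm_gen C hT1 ?_ ?_ hk
      · intro k
        have e1 : ∀ s ∈ R, n k * z s = z (rep cs h (cs.simple k) s) * n k := by
          intro s hs
          rw [← C.z_conj k s hs]; group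
        rcases hij k with rfl | rfl
        · rw [← mul_assoc, e1 r hr, hzir, mul_assoc, e1 r' hr', hir', ← mul_assoc]
        · have e2 : rep cs h (cs.simple k) r = r' := by rw [hr0, hr'0]
          rw [← mul_assoc, e1 r hr, e2, mul_assoc, e1 r' hr', hjj, ← mul_assoc,
            C.z_T r hr _ (C.z_torus r' hr')]
      · intro k a ha
        rcases hij k with rfl | rfl
        · rw [← hr0] at ha
          have h1 : a * z r' = z r' * a := by
            refine comm_z_of_orth C hr' hri.neg ?_ ha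
            rw [form_neg_left, form_comm, hor, neg_zero]
          have h2 : z r * a = a * z r := by
            have := C.z_cent (-r) (neg_mem C hr) a (hcon a ha)
            rwa [C.z_neg r hr] at this
          rw [← mul_assoc, ← h2, mul_assoc, h1, ← mul_assoc]
        · have h1 := C.z_inv r hr (-sr k) hrj.neg (fun h1 => hjr' (by rw [← h1, neg_neg]))
            (fun h1 => hjr (neg_injective h1)) (by rw [form_neg_left]; omega) a ha
          have h2 := C.z_inv r' hr' (-sr k) hrj.neg (fun h1 => hjr2 (by rw [← h1, neg_neg]))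
            (fun h1 => hjr1 (neg_injective h1)) (by rw [form_neg_left]; omega) a⁻¹ (inv_mem ha)
          calc a * (z r * z r') = z r' * a⁻¹ * z r' * z r * z r' := by rw [h2, inv_inv]; group
            _ = z r' * (z r * a * z r) * z r' * z r * z r' := by rw [h1]
            _ = z r' * z r * a * (z r * z r') * (z r * z r') := by group
            _ = z r * z r' * a * (z r * z r') * (z r' * z r) := by
              rw [C.z_T r hr _ (C.z_torus r' hr')]
            _ = z r * z r' * a * (z r * (z r' * z r') * z r) := by group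
            _ = z r * z r' * a := by rw [hrr', mul_one, hrr, mul_one]
    have h1 : z r' = (z r)⁻¹ := (inv_eq_of_mul_eq_one_right hw).symm
    rw [h1, z_inv_eq C hr]
  have hx₀V : x₀ ∈ VV cs h X (-r) := RGD.le_Sup (S := {y | IsRoot cs h y ∧ 0 < form cs h y (-r)})
    ⟨hri.neg, form_pos cs h hri.neg.ne_zero⟩ hx₀
  have hne₀ : x₀ * z r ≠ z r * x₀ := fun h1 => hx₀Z
    (mem_Z_of_commute C hp2 (neg_mem C hr) hx₀V (by rw [C.z_neg r hr]; exact h1))
  have hzi1 : z (rep cs h (cs.simple i) r) = z r := hzir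
  have hii : form cs h (sr i) r ≠ 0 := by rw [← hr0]; exact (form_pos cs h hri.ne_zero).ne'
  obtain ⟨a, ha, m, hm, hmm, hmz, e1⟩ := trick C hr hii hzi1 (hr0 ▸ hx₀) hne₀
  have hgG : x₀ * a ∈ GG cs h T X := mul_mem (X_le_GG hri.neg hx₀) (X_le_GG (isRoot_sr cs h i) ha)
  have hge : x₀ * a * e = e * (x₀ * a) := hP r hr _ hgG (comm_conj_of C hmz e1)
  obtain ⟨t, ht0⟩ : ∃ t, t = m * z r := ⟨_, rfl⟩
  rw [← ht0] at e1
  have htt : t * t = 1 := by
    calc t * t = m * (z r * m) * z r := by rw [ht0]; group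
      _ = m * (m * z r) * z r := by rw [hmz]
      _ = (m * m) * (z r * z r) := by group
      _ = 1 := by rw [hmm, hrr, one_mul]
  have hti : t⁻¹ = t := inv_eq_of_mul_eq_one_left htt
  have htz : t * z r = z r * t := by
    rw [ht0]
    calc m * z r * z r = z r * m * z r := by rw [hmz]
      _ = z r * (m * z r) := by group
  have htR : Rp cs C.rgd.nsys (cs.simple i) t := by rw [ht0]; exact hm.mul_mem_right (C.z_torus r hr)
  -- `t` acts on `K`
  have hsr : rep cs h (cs.simple i) r = -r := by rw [hr0, rep_simple_sr]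
  have h1 : Nodes.Reps.cj t (Z r) = Z (-r) := by rw [conj_Z C htR hr, hsr]
  have h2 : Nodes.Reps.cj t (Z (-r)) = Z r := by
    rw [conj_Z C htR (neg_mem C hr), map_neg (rep cs h (cs.simple i)), hsr, neg_neg]
  have htN : t ∈ Subgroup.normalizer ((Z r ⊔ Z (-r) : Subgroup Y) : Set Y) := by
    rw [Nodes.Reps.mem_normalizer_iff_cj, Nodes.Reps.cj_sup, h1, h2, sup_comm]
  have hntr : ¬ AutAct.Triv t (Z r ⊔ Z (-r)) := by
    intro htr
    have h3 := C.ne_bot r hr
    apply h3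
    rw [Subgroup.eq_bot_iff_forall]
    intro b hb
    have h4 := htr b (Subgroup.mem_sup_left hb)
    rw [hOO, Subgroup.mem_bot, mul_inv_eq_one] at h4
    have h5 : t * b * t⁻¹ ∈ Z (-r) := by rw [← h1]; exact Nodes.Reps.conj_mem_cj.2 hb
    rw [h4] at h5
    have h6 := X_inf_X C.rgd hri hri.neg (fun h7 => by
      have h8 : r + r = 0 := by nth_rewrite 1 [h7]; rw [neg_add_cancel]
      apply hri.ne_zero
      funext l
      have h9 := congrFun h8 l
      simp only [Pi.add_apply, Pi.zero_apply] at h9 ⊢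
      omega)
    have h7 : b ∈ X r ⊓ X (-r) := ⟨C.le r hr hb, C.le _ (neg_mem C hr) h5⟩
    rwa [h6, Subgroup.mem_bot] at h7
  obtain ⟨k, hk, hkk, htk⟩ := AutAct.exists_inverted hty hun htN htt hntr
  -- `zz K = z r`
  have hz1 : z r ≠ 1 := by
    intro h3
    have h4 := X_ne_bot C.rgd hrj
    apply h4
    rw [Subgroup.eq_bot_iff_forall]
    intro b hb
    have h5 := C.z_inv r hr (sr j) hrj hjr hjr' hf b hb
    rw [h3, one_mul, mul_one] at h5
    have h6 : b * b = 1 := by nth_rewrite 1 [h5]; rw [inv_mul_cancel]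
    have h7 := mem_of_odd_sq C hp2 (S := ⊥) (odd_of_mem_X C hp2 hrj hb) (by rw [h6]; exact one_mem _)
    exact Subgroup.mem_bot.1 h7
  have hzK : zz (Z r ⊔ Z (-r)) = z r := (hun _ (C.z_mem r hr) (orderOf_eq_prime (by rw [pow_two, hrr]) hz1)).symm
  rw [hzK] at hkk
  have hke : k * e = e * k := comm_Z C hP hr hk
  have hkt : k * t * k⁻¹ = t * z r := by
    have h3 : t * k = k⁻¹ * t := by rw [← htk]; group
    have h4 : k * t = t * k⁻¹ := by
      calc k * t = t * (t * k) * t := by rw [← mul_assoc, htt, one_mul]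
        _ = t * (k⁻¹ * t) * t := by rw [h3]
        _ = t * k⁻¹ * (t * t) := by group
        _ = t * k⁻¹ := by rw [htt, mul_one]
    calc k * t * k⁻¹ = t * (k * k)⁻¹ := by rw [h4]; group
      _ = t * z r := by rw [hkk, z_inv_eq C hr]
  -- coprime action on `VV r'`
  have hPN : ∀ u ∈ VV cs h X r', t * u * t⁻¹ ∈ VV cs h X r' := by
    intro u hu
    have h3 := cj_VV C htR r'
    rw [hir'] at h3
    have h4 : t * u * t⁻¹ ∈ Nodes.Reps.cj t (VV cs h X r') := Nodes.Reps.conj_mem_cj.2 hu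
    rwa [h3] at h4
  have hzN : ∀ u ∈ VV cs h X r', z r * u * (z r)⁻¹ ∈ VV cs h X r' := by
    intro u hu
    exact (Subgroup.mem_normalizer_iff.1 (C.rgd.T_le_normalizer (S := {y | IsRoot cs h y ∧ 0 < form cs h y r'})
      (fun _ hy => hy.1) (C.z_torus r hr)) u).1 hu
  have hkG : k ∈ GG cs h T X := sup_le_GG C hr hk
  have key : VV cs h X r' ≤ Subgroup.centralizer {e} := by
    refine Lib.KleinGen.le_of_klein _ _ (odd_card_VV C hp2 r') (z r) t hrr htt htz.symm hzN hPN ?_ ?_ ?_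
    · rintro u ⟨hu, hu'⟩
      exact Subgroup.mem_centralizer_singleton_iff.2 (comm_of_comm_z C hP hr (VV_le_GG C r' hu)
        (Subgroup.mem_centralizer_singleton_iff.1 hu'))
    · rintro u ⟨hu, hu'⟩
      exact Subgroup.mem_centralizer_singleton_iff.2 (comm_of_comm_conj C hP hr hgG hge e1 (VV_le_GG C r' hu)
        (Subgroup.mem_centralizer_singleton_iff.1 hu'))
    · rintro u ⟨hu, hu'⟩
      refine Subgroup.mem_centralizer_singleton_iff.2 (comm_of_comm_conj C hP hr (g := x₀ * a * k⁻¹)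
        (u := z r * t) (mul_mem hgG (inv_mem hkG)) ?_ ?_ (VV_le_GG C r' hu)
        (Subgroup.mem_centralizer_singleton_iff.1 hu'))
      · have h3 : k⁻¹ * e = e * k⁻¹ := by
          calc k⁻¹ * e = k⁻¹ * (e * k) * k⁻¹ := by group
            _ = k⁻¹ * (k * e) * k⁻¹ := by rw [hke]
            _ = e * k⁻¹ := by group
        rw [mul_assoc, h3, ← mul_assoc, hge, mul_assoc]
      · calc (x₀ * a * k⁻¹)⁻¹ * z r * (x₀ * a * k⁻¹) = k * ((x₀ * a)⁻¹ * z r * (x₀ * a)) * k⁻¹ := by group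
          _ = k * t * k⁻¹ := by rw [e1]
          _ = z r * t := by rw [hkt, htz]
  -- `± α_j ∈ VV r'`
  have hneg : form cs h (sr j) r < 0 ∨ 0 < form cs h (sr j) r := lt_or_gt_of_ne hf
  rcases hneg with h3 | h3
  · refine comm_neg_of_pos C hP hRne (fun b hb => ?_) hx
    refine Subgroup.mem_centralizer_singleton_iff.1 (key (RGD.le_Sup
      (S := {y | IsRoot cs h y ∧ 0 < form cs h y r'}) ⟨hrj, ?_⟩ hb))
    rw [hf']; omega
  · refine Subgroup.mem_centralizer_singleton_iff.1 (key (RGD.le_Sup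
      (S := {y | IsRoot cs h y ∧ 0 < form cs h y r'}) ⟨hrj.neg, ?_⟩ hx))
    rw [form_neg_left, hf']; omega

omit he hP hp2 [Fact p.Prime] [Finite Y] C in
/-- the four cases for a simple root -/
def Case (A : I → I → ℤ) (R : Set (I → ℤ)) (k : I) : Prop :=
  (sr k : I → ℤ) ∈ R ∨ (∃ j, (sr j : I → ℤ) ∈ R ∧ A j k = 0) ∨
  (∃ l, (∃ j, (sr j : I → ℤ) ∈ R ∧ A j l = 0) ∧ A l k = -1 ∧ A k l = -1) ∨
  ∃ i, (∀ l, l = i ∨ l = k) ∧ i ≠ k ∧ (sr i : I → ℤ) ∈ R ∧ A k i = -2 ∧ A i k = -1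

omit he hP hp2 [Fact p.Prime] [Finite Y] in
theorem form_sr_sr_zero {j k : I} (hA : A j k = 0) : form cs h (sr k) (sr j) = 0 := by
  have h1 := two_form cs h j (sr k)
  rw [Nodes.OrthRoot.pairing_sr, hA, zero_mul] at h1
  omega

omit hp2 he [Fact p.Prime] [Finite Y] in
theorem comm_orth_sr {j k : I} (hj : (sr j : I → ℤ) ∈ R) (hA : A j k = 0) {x : Y} (hx : x ∈ X (-sr k)) :
    x * e = e * x :=
  comm_of_orth C hP hj (isRoot_sr cs h k).neg (by rw [form_neg_left, form_sr_sr_zero C hA, neg_zero]) hx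

/-- **(CC3), chart part, level of root group data** -/
theorem comm_of_cases (hcase : ∀ k, Case A R k)
    (hty : ∀ r ∈ R, IsType (Z r ⊔ Z (-r)))
    (hun : ∀ r ∈ R, ∀ t ∈ Z r ⊔ Z (-r), orderOf t = 2 → t = zz (Z r ⊔ Z (-r)))
    (hOO : ∀ r ∈ R, OO (Z r ⊔ Z (-r)) = ⊥)
    (hcen : ∀ g ∈ GG cs h T X, (∀ k ∈ GG cs h T X, k * g = g * k) → g = 1) (hRne : R.Nonempty) {g : Y}
    (hg : g ∈ GG cs h T X) : g * e = e * g := by
  refine comm_gen C (fun t ht => comm_T C hP hRne ht) (comm_n C hP hRne) ?_ hg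
  intro k x hx
  rcases hcase k with h1 | ⟨j, hj, hA⟩ | ⟨l, ⟨j, hj, hA⟩, h1, h2⟩ | ⟨i, hij, hne, hi, h1, h2⟩
  · refine comm_neg C hp2 he hP h1 (form_pos cs h (isRoot_sr cs h k).ne_zero).ne' ?_ hx
    rw [rep_simple_sr]
    exact C.z_neg _ h1
  · exact comm_orth_sr C hP hj hA hx
  · -- conjugation by an element over `s_l s_k`
    obtain ⟨u, hu⟩ := exists_rp cs C.rgd.nsys (cs.simple l * cs.simple k)
    have e1 : rep cs h (cs.simple l * cs.simple k) (sr l) = sr k := by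
      rw [rep_mul_apply, rep_simple_eq cs h k, Nodes.OrthRoot.pairing_sr, h2, map_sub, map_smul, rep_simple_sr,
        rep_simple_eq cs h l, Nodes.OrthRoot.pairing_sr, h1]
      module
    have e2 : rep cs h (cs.simple l * cs.simple k) (-sr l) = -sr k := by rw [map_neg, e1]
    rw [← e2, ← C.rgd.conj_rp hu (isRoot_sr cs h l).neg, Nodes.Reps.mem_cj] at hx
    have h3 := comm_orth_sr C hP hj hA hx
    have h4 := comm_rp C hP hRne hu
    have h5 : u⁻¹ * e = e * u⁻¹ := by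
      calc u⁻¹ * e = u⁻¹ * (e * u) * u⁻¹ := by group
        _ = u⁻¹ * (u * e) * u⁻¹ := by rw [h4]
        _ = e * u⁻¹ := by group
    calc x * e = u * (u⁻¹ * x * u) * (u⁻¹ * e) := by group
      _ = u * (u⁻¹ * x * u) * (e * u⁻¹) := by rw [h5]
      _ = u * ((u⁻¹ * x * u) * e) * u⁻¹ := by group
      _ = u * (e * (u⁻¹ * x * u)) * u⁻¹ := by rw [h3]
      _ = u * e * (u⁻¹ * x) := by group
      _ = e * u * (u⁻¹ * x) := by rw [h4]
      _ = e * x := by group
  · have hpos := form_pos cs h (isRoot_sr cs h i).ne_zero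
    have h3 := two_form cs h i (sr k)
    rw [Nodes.OrthRoot.pairing_sr, h2] at h3
    have hf : form cs h (sr k) (sr i) ≠ 0 := by omega
    refine comm_C2 C hp2 he hP hij hne hi hf ?_ (hty _ hi) (hun _ hi) (hOO _ hi) hcen hx
    rw [rep_simple_eq cs h k, Nodes.OrthRoot.pairing_sr, h1, form_sub_left, form_smul_left]
    omega

end Cls

/-! ### Charts -/

variable {G : Type*} [Group G] {Om : Set (Subgroup G)} {p : ℕ} {L : Subgroup G}

theorem A_zero {n : ℕ} (i j : Fin n) (h1 : (i : ℕ) ≠ j) (h2 : (i : ℕ) + 1 ≠ j) (h3 : (j : ℕ) + 1 ≠ i) :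
    Nodes.TypeC.A n i j = 0 := by
  rw [Nodes.TypeC.A_apply, if_neg (fun h => h1 (congrArg Fin.val h)), if_neg h2, if_neg h3]

theorem A_one {n : ℕ} (i j : Fin n) (h1 : (i : ℕ) + 1 = j) (h2 : (j : ℕ) + 1 < n) : Nodes.TypeC.A n i j = -1 := by
  rw [Nodes.TypeC.A_apply, if_neg (fun h => by have := congrArg Fin.val h; omega), if_pos h1, if_pos h2]

theorem A_two {n : ℕ} (i j : Fin n) (h1 : (i : ℕ) + 1 = j) (h2 : ¬ (j : ℕ) + 1 < n) :
    Nodes.TypeC.A n i j = -2 := by
  rw [Nodes.TypeC.A_apply, if_neg (fun h => by have := congrArg Fin.val h; omega), if_pos h1, if_neg h2]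

theorem A_neg {n : ℕ} (i j : Fin n) (h1 : (j : ℕ) + 1 = i) : Nodes.TypeC.A n i j = -1 := by
  rw [Nodes.TypeC.A_apply, if_neg (fun h => by have := congrArg Fin.val h; omega), if_neg (by omega), if_pos h1]

theorem case_of_isTy (c : Chart Om p L) {τ : Nodes.Chart.Ty} (hτ : c.IsTy τ) (ok : KindOk τ) (k : c.I) :
    Case c.A c.R k := by
  obtain ⟨e, hA, hl⟩ := hτ
  have all : (∀ i, τ.long i) → Case c.A c.R k := fun h1 => Or.inl ((hl k).2 (h1 _))
  cases τ with
  | A n => exact all fun _ => trivial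
  | D n => exact all fun _ => trivial
  | E6 => exact all fun _ => trivial
  | E7 => exact all fun _ => trivial
  | E8 => exact all fun _ => trivial
  | G2 => exact ok.elim
  | F4 =>
    by_cases h1 : 2 ≤ ((e k : Fin 4) : ℕ)
    · exact Or.inl ((hl k).2 h1)
    · refine Or.inr (Or.inl ⟨e.symm (⟨3, by decide⟩ : Fin Nodes.Chart.Ty.F4.rk), (hl _).2 (by
        rw [e.apply_symm_apply]; change 2 ≤ 3; omega), ?_⟩)
      rw [hA, e.apply_symm_apply]
      have key : ∀ b : Fin 4, ¬ 2 ≤ (b : ℕ) →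
          ChevalleyStructure.CoxeterGeomTypes.cartanOf Cfsg.Lie.chevF4 4 3 b = 0 := by decide +kernel
      exact key (e k) h1
  | B n =>
    have hn : 3 ≤ n := ok
    have hk : ((e k : Fin n) : ℕ) < n := (e k).2
    by_cases h1 : ((e k : Fin n) : ℕ) + 1 < n
    · exact Or.inl ((hl k).2 h1)
    · refine Or.inr (Or.inl ⟨e.symm (⟨0, by change 0 < n; omega⟩ : Fin (Nodes.Chart.Ty.B n).rk), (hl _).2 (by
        rw [e.apply_symm_apply]; change 0 + 1 < n; omega), ?_⟩)
      rw [hA, e.apply_symm_apply]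
      exact A_zero _ _ (by change 0 ≠ ((e k : Fin n) : ℕ); omega) (by change 0 + 1 ≠ ((e k : Fin n) : ℕ); omega)
        (by change ((e k : Fin n) : ℕ) + 1 ≠ 0; omega)
  | C n =>
    have hn : 1 ≤ n := ok
    have hk : ((e k : Fin n) : ℕ) < n := (e k).2
    have hlast : (sr (e.symm (⟨n - 1, by change n - 1 < n; omega⟩ : Fin (Nodes.Chart.Ty.C n).rk)) : c.I → ℤ) ∈
        c.R := (hl _).2 (by rw [e.apply_symm_apply]; change n - 1 + 1 = n; omega)
    by_cases h1 : ((e k : Fin n) : ℕ) + 1 = n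
    · exact Or.inl ((hl k).2 h1)
    by_cases h2 : ((e k : Fin n) : ℕ) + 2 < n
    · refine Or.inr (Or.inl ⟨_, hlast, ?_⟩)
      rw [hA, e.apply_symm_apply]
      exact A_zero _ _ (by change n - 1 ≠ ((e k : Fin n) : ℕ); omega)
        (by change n - 1 + 1 ≠ ((e k : Fin n) : ℕ); omega) (by change ((e k : Fin n) : ℕ) + 1 ≠ n - 1; omega)
    have h3 : ((e k : Fin n) : ℕ) + 2 = n := by omega
    by_cases h4 : 3 ≤ n
    · refine Or.inr (Or.inr (Or.inl ⟨e.symm (⟨n - 3, by change n - 3 < n; omega⟩ :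
        Fin (Nodes.Chart.Ty.C n).rk), ⟨_, hlast, ?_⟩, ?_, ?_⟩))
      · rw [hA, e.apply_symm_apply, e.apply_symm_apply]
        exact A_zero _ _ (by change n - 1 ≠ n - 3; omega) (by change n - 1 + 1 ≠ n - 3; omega)
          (by change n - 3 + 1 ≠ n - 1; omega)
      · rw [hA, e.apply_symm_apply]
        exact A_one _ _ (by change n - 3 + 1 = ((e k : Fin n) : ℕ); omega)
          (by change ((e k : Fin n) : ℕ) + 1 < n; omega)
      · rw [hA, e.apply_symm_apply]
        exact A_neg _ _ (by change n - 3 + 1 = ((e k : Fin n) : ℕ); omega)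
    · have hn2 : n = 2 := by omega
      refine Or.inr (Or.inr (Or.inr ⟨_, ?_, ?_, hlast, ?_, ?_⟩))
      · intro l
        have hl' : ((e l : Fin n) : ℕ) < n := (e l).2
        rcases (show ((e l : Fin n) : ℕ) = n - 1 ∨ ((e l : Fin n) : ℕ) = ((e k : Fin n) : ℕ) by omega) with h5 | h5
        · left
          apply e.injective
          rw [e.apply_symm_apply]
          exact Fin.ext h5
        · right
          exact e.injective (Fin.ext h5)
      · intro h5
        have h6 := congrArg e h5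
        rw [e.apply_symm_apply] at h6
        have h7 := congrArg (fun x : Fin n => (x : ℕ)) h6
        change n - 1 = ((e k : Fin n) : ℕ) at h7
        omega
      · rw [hA, e.apply_symm_apply]
        exact A_two _ _ (by change ((e k : Fin n) : ℕ) + 1 = n - 1; omega) (by change ¬ (n - 1 + 1 < n); omega)
      · rw [hA, e.apply_symm_apply]
        exact A_neg _ _ (by change ((e k : Fin n) : ℕ) + 1 = n - 1; omega)

theorem GG_eq (C : Chart Om p L) : GG C.cs C.h C.T C.X = L := by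
  have h1 : G1 C.cs C.h C.X = L := C.gen
  unfold GG
  unfold G1 at h1
  rw [h1]
  exact sup_eq_right.2 C.T_le

/-- **(CC3), chart part**: `L` centreless with a chart, `e` normalises `L` and commutes with all `g ∈ L` such that
`z_K` and `g z_K g⁻¹` commute for some member `K ≤ L`.  Then `e` centralises `L`. -/
theorem comm_of_pair [Finite G] (hyp : Hyp Om) (c : Chart Om p L) {τ : Nodes.Chart.Ty} (hτ : c.IsTy τ)
    (ok : KindOk τ) (hL : L ∉ Om) (hcen : Subgroup.center L = ⊥) (hT : ∀ K ∈ Om, K ≤ L → IsType K)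
    (hO : ∀ K ∈ Om, K ≤ L → OO K = ⊥) {e : G} (he : e ∈ Subgroup.normalizer (L : Set G))
    (hP : ∀ K ∈ Om, K ≤ L → ∀ g ∈ L, zz K * (g * zz K * g⁻¹) = g * zz K * g⁻¹ * zz K → g * e = e * g) :
    ∀ x ∈ L, x * e = e * x := by
  haveI : Fact p.Prime := ⟨c.prime⟩
  have hGG := GG_eq c
  have hKL : ∀ r ∈ c.R, c.Z r ⊔ c.Z (-r) ≤ L := by
    intro r hr
    exact (sup_le_GG c.cls hr).trans hGG.le
  have hP' : ∀ r ∈ c.R, ∀ g ∈ GG c.cs c.h c.T c.X,
      c.z r * (g * c.z r * g⁻¹) = g * c.z r * g⁻¹ * c.z r → g * e = e * g := by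
    intro r hr g hg h1
    rw [hGG] at hg
    have h2 : zz (c.Z r ⊔ c.Z (-r)) = c.z r := (hyp.uniq _ (c.om r hr) _ (c.cls.z_mem r hr)
      (orderOf_eq_prime (by rw [pow_two, c.cls.z_sq r hr]) (FrameOfFr.z_ne_one c hL r hr))).symm
    refine hP _ (c.om r hr) (hKL r hr) g hg ?_
    rw [h2]; exact h1
  intro x hx
  rw [← hGG] at hx he
  refine comm_of_cases c.cls c.odd he hP' (case_of_isTy c hτ ok) (fun r hr => hT _ (c.om r hr) (hKL r hr))
    (fun r hr => hyp.uniq _ (c.om r hr)) (fun r hr => hO _ (c.om r hr) (hKL r hr)) ?_ c.Rne hx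
  intro g hg hgc
  rw [hGG] at hg hgc
  have h1 : (⟨g, hg⟩ : L) ∈ Subgroup.center L := by
    rw [Subgroup.mem_center_iff]
    intro k
    exact Subtype.ext (hgc k k.2)
  rw [hcen, Subgroup.mem_bot] at h1
  exact congrArg Subtype.val h1

end Cfsg.Agent.Cit.QTwo.ChartPart
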