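import Cfsg.Agent.Cit.SLThreeMain
import Cfsg.Agent.Cit.UseT
import Cfsg.Agent.Cit.TyTrans
import Cfsg.Agent.Cit.AutAct

/-!
# [Q2], part (CC): members of type `SL(2,3)` covered by `L`

helper149's [Q2] (bb R18 #10866), (CC1), (CC2), (P').

`CCHyp Om L` : `L ≠ G` is a simple nonabelian normal subgroup with trivial centraliser, `Om` is one class of
members of type `SL(2,3)` containing the odd core of the centraliser of their involution, all covered by `L`,
THEOREM T holds for smaller groups.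

* `inf_eq_bot` : `O(C(z)) ∩ L = 1`;
* `comm_of_mem` : `O(C(z))` centralises `C_L(z)`;
* `pair` : `O(C(z)) = O(C(t))` for commuting `z = zz K`, `t = zz K'`;
* `comm_of_conj` : if `z` and `g z g⁻¹` commute then `g` centralises `O(C(z))`.
-/

set_option autoImplicit false
set_option linter.dupNamespace false
set_option linter.unusedSectionVars false
set_option linter.style.haveILetI false

namespace Cfsg.Agent.Cit.QTwo.CC

open Subgroup Cfsg Cfsg.Agent.Cit SubCent SLThree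

universe u

variable {G : Type u} [Group G] {Om : Set (Subgroup G)} {L : Subgroup G}

/-- the setting of (CC) -/
structure CCHyp (Om : Set (Subgroup G)) (L : Subgroup G) : Prop where
  hyp : Hyp Om
  isT : ∀ K ∈ Om, SolvTwo.IsT K
  mem : ∀ K ∈ Om, Mem K (zz K)
  cls : ∀ K ∈ Om, ∀ J ∈ Om, ∃ g, J = cj g K
  normal : L.Normal
  simple : IsSimpleGroup L
  nab : ¬ IsMulCommutative L
  cent : centralizer (L : Set G) = ⊥
  ne_top : L ≠ ⊤
  cov : ∀ K ∈ Om, K ∈ SubCent.cov Om L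
  ind : TLt.{u} (Nat.card G)

section general

variable [Finite G]

/-- THEOREM T for `H`: the core of a member covered by `H` meets `H` in `O(H)` -/
theorem core_le (hyp : Hyp Om) (hT : ∀ K ∈ Om, SolvTwo.IsT K) (ind : TLt.{u} (Nat.card G))
    {H : Subgroup G} (hH : H ≠ ⊤) {K : Subgroup G} (hK : K ∈ SubCent.cov Om H) {x : G} (hx : x ∈ OO K)
    (hxH : x ∈ H) : (⟨x, hxH⟩ : H) ∈ pPrimeCore 2 H := by
  have hty : ∀ K ∈ Om, IsType K := fun K hK => Ty.isType (Or.inl (hT K hK))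
  have h1 := (UseT.fam_hasPieces hty hyp (Uni.of_isT hT) ind hH).core _ (UseT.tr_mem hK)
  have hT' : SolvTwo.IsT (K.subgroupOf H) := by
    obtain ⟨e⟩ := hT K hK.1
    exact ⟨(SubCent.quotEquiv hK).trans e⟩
  have hrd : rd (K.subgroupOf H) = K.subgroupOf H := RdOm.rd_eq_self (Or.inl hT')
  rw [UseT.tr, hrd, TyTrans.OO_map_odd (UseT.not_dvd_ker H), OO_subgroupOf hK] at h1
  have h2 : UseT.qm H ⟨x, hxH⟩ = 1 := by
    have h3 : UseT.qm H ⟨x, hxH⟩ ∈ ((OO K).subgroupOf H).map (UseT.qm H) := ⟨_, hx, rfl⟩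
    rwa [h1, mem_bot] at h3
  have h3 : (⟨x, hxH⟩ : H) ∈ (UseT.qm H).ker := h2
  rwa [UseT.ker_qm] at h3

/-- a subgroup `H ≥ L` has trivial odd core if `L` is simple nonabelian, normal, with trivial centraliser and of
even order -/
theorem core_eq_bot (hn : L.Normal) (hs : IsSimpleGroup L) (hc : centralizer (L : Set G) = ⊥) {t : G} (ht : t ∈ L)
    (ht2 : orderOf t = 2) {H : Subgroup G} (hLH : L ≤ H) : pPrimeCore 2 H = ⊥ := by
  obtain ⟨W, hW⟩ : ∃ W, W = (pPrimeCore 2 H).map H.subtype := ⟨_, rfl⟩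
  have hWH : W ≤ H := hW ▸ map_subtype_le _
  have hWn : ∀ h ∈ H, ∀ w ∈ W, h * w * h⁻¹ ∈ W := by
    rintro h hh w hw
    rw [hW] at hw ⊢
    obtain ⟨w, hw, rfl⟩ := hw
    have hn : (pPrimeCore 2 H).Normal := Lib.Cores.pPrimeCore_normal 2
    exact ⟨_, hn.conj_mem w hw ⟨h, hh⟩, rfl⟩
  have hodd : ¬ 2 ∣ Nat.card W := by
    rw [hW]; exact odd_OO H
  -- `W ∩ L = 1`
  have h1 : (W.subgroupOf L) = ⊥ := by
    have h2 : (W.subgroupOf L).Normal := by
      constructor
      intro w hw g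
      rw [mem_subgroupOf] at hw ⊢
      exact hWn _ (hLH g.2) _ hw
    rcases h2.eq_bot_or_eq_top with h3 | h3
    · exact h3
    · exfalso
      have h4 : (⟨t, ht⟩ : L) ∈ W.subgroupOf L := by rw [h3]; trivial
      apply hodd
      rw [← ht2, ← Nat.card_zpowers]
      exact card_dvd_of_le (by rw [zpowers_le]; exact h4)
  have h2 : W ≤ centralizer (L : Set G) := by
    intro w hw
    rw [mem_centralizer_iff]
    intro l hl
    have h3 : w * l * w⁻¹ * l⁻¹ ∈ L := L.mul_mem (hn.conj_mem l hl w) (L.inv_mem hl)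
    have h4 : w * l * w⁻¹ * l⁻¹ ∈ W := by
      have : w * l * w⁻¹ * l⁻¹ = w * (l * w⁻¹ * l⁻¹) := by group
      rw [this]
      exact W.mul_mem hw (hWn l (hLH hl) _ (W.inv_mem hw))
    have h5 : (⟨_, h3⟩ : L) ∈ W.subgroupOf L := h4
    rw [h1, mem_bot] at h5
    have h6 : w * l * w⁻¹ * l⁻¹ = 1 := congrArg Subtype.val h5
    rw [mul_inv_eq_one, mul_inv_eq_iff_eq_mul] at h6
    exact h6.symm
  rw [hc, le_bot_iff] at h2
  rw [eq_bot_iff]
  intro x hx
  have h3 : (x : G) ∈ W := by rw [hW]; exact ⟨x, hx, rfl⟩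
  rw [h2, mem_bot] at h3
  exact mem_bot.2 (Subtype.ext h3)

end general

namespace CCHyp

variable [Finite G] (h : CCHyp Om L) {K K' : Subgroup G}
include h

theorem zzL (hK : K ∈ Om) : zz K ∈ L := zz_mem_of_cov h.hyp (h.cov K hK)

theorem OO_eq (hK : K ∈ Om) : OO K = O (zz K) := by
  apply le_antisymm
  · have hle : K ≤ centralizer {zz K} := h.hyp.le_centralizer hK
    rintro _ ⟨x, hx, rfl⟩
    exact (SLThreeMain.mem_oddCore_iff hle (h.hyp.sub K hK) x).1 hx
  · exact le_OO (h.mem K hK).hO ((h.mem K hK).le.trans (cent_le _)) (odd_O _)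

theorem core_bot (hK : K ∈ Om) {H : Subgroup G} (hH : L ≤ H) : pPrimeCore 2 H = ⊥ :=
  core_eq_bot h.normal h.simple h.cent (h.zzL hK) (h.hyp.orderOf_zz hK) hH

/-- `O(C(z)) ∩ L = 1` -/
theorem eq_one (hK : K ∈ Om) {x : G} (hx : x ∈ O (zz K)) (hxL : x ∈ L) : x = 1 := by
  have h1 := core_le h.hyp h.isT h.ind h.ne_top (h.cov K hK) (by rw [h.OO_eq hK]; exact hx) hxL
  rw [h.core_bot hK le_rfl, mem_bot] at h1
  exact congrArg Subtype.val h1

theorem inf_eq_bot (hK : K ∈ Om) : O (zz K) ⊓ L = ⊥ := by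
  rw [eq_bot_iff]
  rintro x ⟨hx, hxL⟩
  exact mem_bot.2 (h.eq_one hK hx hxL)

/-- `O(C(z))` centralises `C_L(z)` -/
theorem comm_of_mem (hK : K ∈ Om) {e c : G} (he : e ∈ O (zz K)) (hcL : c ∈ L) (hc : c * zz K = zz K * c) :
    e * c = c * e := by
  have h1 : e * c * e⁻¹ * c⁻¹ = 1 := by
    apply h.eq_one hK
    · have e1 : e * c * e⁻¹ * c⁻¹ = e * (c * e⁻¹ * c⁻¹) := by group
      rw [e1]
      refine mul_mem he ?_
      have h2 := cent_le (zz K) (mem_centralizer_singleton_iff.2 hc)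
      exact (mem_normalizer_iff.1 h2 _).1 (inv_mem he)
    · exact mul_mem (h.normal.conj_mem c hcL e) (inv_mem hcL)
  rw [mul_inv_eq_one, mul_inv_eq_iff_eq_mul] at h1
  exact h1

/-- `G = L ⟨e⟩` -/
theorem sup_eq (hK : K ∈ Om) {e : G} (he : e ∈ O (zz K)) (he1 : e ≠ 1) : L ⊔ zpowers e = ⊤ := by
  by_contra hne
  have heH : e ∈ L ⊔ zpowers e := mem_sup_right (mem_zpowers e)
  have h1 := core_le h.hyp h.isT h.ind hne (cov_mono le_sup_left (h.cov K hK)) (by rw [h.OO_eq hK]; exact he) heH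
  rw [h.core_bot hK le_sup_left, mem_bot] at h1
  exact he1 (congrArg Subtype.val h1)

theorem exists_mul (hK : K ∈ Om) {e : G} (he : e ∈ O (zz K)) (he1 : e ≠ 1) (g : G) :
    ∃ a ∈ L, ∃ b ∈ O (zz K), g = a * b := by
  have hg : g ∈ L ⊔ zpowers e := by rw [h.sup_eq hK he he1]; trivial
  have := h.normal
  rw [← SetLike.mem_coe, Subgroup.normal_mul] at hg
  obtain ⟨a, ha, b, hb, rfl⟩ := hg
  exact ⟨a, ha, b, zpowers_le.2 he hb, rfl⟩

/-- `G / L` is abelian -/
theorem comm_mem (hK : K ∈ Om) {e : G} (he : e ∈ O (zz K)) (he1 : e ≠ 1) (g k : G) :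
    g * k * g⁻¹ * k⁻¹ ∈ L := by
  have := h.normal
  have key : ∀ g : G, ∃ n : ℤ, (QuotientGroup.mk' L) g = (QuotientGroup.mk' L e) ^ n := by
    intro g
    have hg : g ∈ L ⊔ zpowers e := by rw [h.sup_eq hK he he1]; trivial
    rw [← SetLike.mem_coe, Subgroup.normal_mul] at hg
    obtain ⟨a, ha, b, ⟨n, rfl⟩, rfl⟩ := hg
    refine ⟨n, ?_⟩
    have h1 : QuotientGroup.mk' L a = 1 := (QuotientGroup.eq_one_iff a).2 ha
    show QuotientGroup.mk' L (a * e ^ n) = _
    rw [map_mul, h1, one_mul, map_zpow]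
  obtain ⟨m, hm⟩ := key g
  obtain ⟨n, hn⟩ := key k
  have h1 : QuotientGroup.mk' L (g * k * g⁻¹ * k⁻¹) = 1 := by
    rw [map_mul, map_mul, map_mul, map_inv, map_inv, hm, hn]
    rw [mul_inv_eq_one, mul_inv_eq_iff_eq_mul]
    exact (Commute.zpow_zpow (Commute.refl _) m n).eq
  exact (QuotientGroup.eq_one_iff _).1 h1

/-- nontriviality of the cores is invariant -/
theorem exists_ne (hK : K ∈ Om) {e : G} (he : e ∈ O (zz K)) (he1 : e ≠ 1) (hK' : K' ∈ Om) :
    ∃ e' ∈ O (zz K'), e' ≠ 1 := by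
  obtain ⟨g, rfl⟩ := h.cls K hK K' hK'
  refine ⟨g * e * g⁻¹, ?_, ?_⟩
  · rw [h.hyp.zz_cj hK, O_cj]
    exact conj_mem_cj he
  · intro h1
    apply he1
    have : e = g⁻¹ * (g * e * g⁻¹) * g := by group
    rw [this, h1]; group

/-- the trace of a member on `L` is `SL(2,3)` -/
theorem t3 (hK : K ∈ Om) : SolvTwo.T3 (K ⊓ L) (zz K) := by
  obtain ⟨e0⟩ := h.isT K hK
  have e1 : ↥(K ⊓ L) ≃* ↥(K.subgroupOf L) := by
    have h2 : (K ⊓ L).subgroupOf L = K.subgroupOf L := inf_subgroupOf_right K L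
    exact (subgroupOfEquivOfLe (inf_le_right : K ⊓ L ≤ L)).symm.trans (MulEquiv.subgroupCongr h2)
  have h1 : oddCore ↥(K.subgroupOf L) = ⊥ := by
    have h2 : OO (K.subgroupOf L) = ⊥ := by
      rw [OO_subgroupOf (h.cov K hK), h.OO_eq hK, eq_bot_iff]
      intro x hx
      exact mem_bot.2 (Subtype.ext (h.eq_one hK hx x.2))
    rw [OO, Subgroup.map_eq_bot_iff, ker_subtype] at h2
    exact le_bot_iff.1 h2
  have e2 : ↥(K.subgroupOf L) ≃* SolvTwo.X :=
    (QuotientGroup.quotientBot.symm.trans (QuotientGroup.quotientMulEquivOfEq h1.symm)).trans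
      ((SubCent.quotEquiv (h.cov K hK)).trans e0)
  have h3 := SolvTwo.T3.of_equiv (e1.trans e2)
  have h4 := h.hyp.eq_zz hK h3.z_mem.1 h3.z_sq h3.z_ne
  rwa [h4] at h3

/-- 2-elements of `K` are in `L` -/
theorem two_mem (hK : K ∈ Om) {x : G} (hx : x ∈ K) {n : ℕ} (hx2 : x ^ 2 ^ n = 1) : x ∈ L := by
  have := h.normal
  obtain ⟨o, ho, y, hy, rfl⟩ := SubCent.exists_mul (h.cov K hK) hx
  have hyL : QuotientGroup.mk' L y = 1 := (QuotientGroup.eq_one_iff y).2 hy.2
  have h1 : (QuotientGroup.mk' L o) ^ 2 ^ n = 1 := by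
    have h2 : QuotientGroup.mk' L (o * y) = QuotientGroup.mk' L o := by rw [map_mul, hyL, mul_one]
    rw [← h2, ← map_pow, hx2, map_one]
  have h2 : orderOf (QuotientGroup.mk' L o) ∣ 2 ^ n := orderOf_dvd_of_pow_eq_one h1
  have h3 : orderOf (QuotientGroup.mk' L o) ∣ Nat.card (OO K) := by
    refine (orderOf_map_dvd _ o).trans ?_
    have := orderOf_dvd_natCard (⟨o, ho⟩ : OO K)
    rwa [Subgroup.orderOf_mk] at this
  have h4 : Nat.Coprime (2 ^ n) (Nat.card (OO K)) :=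
    Nat.Coprime.pow_left n ((Nat.Prime.coprime_iff_not_dvd Nat.prime_two).2 (odd_OO K))
  have h5 := Nat.dvd_gcd h2 h3
  rw [h4, Nat.dvd_one, orderOf_eq_one_iff] at h5
  exact L.mul_mem ((QuotientGroup.eq_one_iff o).1 h5) hy.2

/-- `NN t ⊓ L` is a 2-group (`t = zz K`) -/
theorem isPGroup_NN (hK : K ∈ Om) : IsPGroup 2 ↥(NN (zz K) ⊓ L) := by
  rintro ⟨x, hx⟩
  obtain ⟨k, hk⟩ := NN_pow hx.1
  exact ⟨k, Subtype.ext (h.eq_one hK hk (pow_mem hx.2 _))⟩

/-- (CC2), claim: `e` centralises `K' ∩ L` -/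
theorem claim (hK : K ∈ Om) (hK' : K' ∈ Om) (hzt : zz K * zz K' = zz K' * zz K) {e : G}
    (he : e ∈ O (zz K)) : ∀ x ∈ K' ⊓ L, e * x = x * e := by
  haveI : Fact (Nat.Prime 2) := ⟨Nat.prime_two⟩
  obtain ⟨z, hz⟩ : ∃ z, z = zz K := ⟨_, rfl⟩
  obtain ⟨t, ht⟩ : ∃ t, t = zz K' := ⟨_, rfl⟩
  rw [← hz, ← ht] at hzt
  have hzz : z * z = 1 := hz ▸ h.hyp.zz_mul hK
  have hzL : z ∈ L := hz ▸ h.zzL hK
  have htL : t ∈ L := ht ▸ h.zzL hK'
  have het : e * t = t * e := h.comm_of_mem hK he htL (by rw [← hz]; exact hzt.symm)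
  have hez : e * z = z * e := h.comm_of_mem hK he hzL (by rw [← hz])
  have heC : e ∈ centralizer ({t} : Set G) := mem_centralizer_singleton_iff.2 het
  have hzC : z ∈ centralizer ({t} : Set G) := mem_centralizer_singleton_iff.2 hzt
  obtain ⟨P, hP⟩ : ∃ P, P = NN t ⊓ L := ⟨_, rfl⟩
  have hP2 : IsPGroup 2 P := by rw [hP, ht]; exact h.isPGroup_NN hK'
  have hPn : ∀ c ∈ centralizer ({t} : Set G), ∀ x ∈ P, c * x * c⁻¹ ∈ P := by
    intro c hc x hx
    rw [hP] at hx ⊢
    exact ⟨conj_mem_NN hc hx.1, h.normal.conj_mem x hx.2 c⟩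
  have hPn' : ∀ c ∈ centralizer ({t} : Set G), c ∈ normalizer (P : Set G) := by
    intro c hc
    rw [mem_normalizer_iff]
    intro x
    refine ⟨hPn c hc x, fun h1 => ?_⟩
    have h2 := hPn c⁻¹ (inv_mem hc) _ h1
    have e1 : c⁻¹ * (c * x * c⁻¹) * c⁻¹⁻¹ = x := by group
    rwa [e1] at h2
  have hzp : IsPGroup 2 (zpowers z) := by
    rintro ⟨_, n, rfl⟩
    refine ⟨1, Subtype.ext ?_⟩
    show (z ^ n) ^ 2 ^ 1 = 1
    rw [← zpow_natCast, ← zpow_mul, mul_comm, zpow_mul, zpow_natCast, pow_one, pow_two, hzz, one_zpow]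
  have heodd : (Nat.card (zpowers e)).Coprime 2 := by
    rw [Nat.coprime_comm, Nat.Prime.coprime_iff_not_dvd Nat.prime_two]
    intro h1
    exact odd_O (zz K) (h1.trans (card_dvd_of_le (by rw [zpowers_le]; exact he)))
  have hAB : zpowers e ≤ centralizer (P : Set G) := by
    refine Lib.ThompsonPQ.thompson_p_times_q 2 (zpowers z) (zpowers e) P hzp heodd hP2 ?_ ?_ ?_ ?_
    · rw [zpowers_le, mem_centralizer_iff]
      rintro _ ⟨n, rfl⟩
      exact (Commute.zpow_left (show Commute e z from hez) n).eq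
    · rw [zpowers_le]; exact hPn' z hzC
    · rw [zpowers_le]; exact hPn' e heC
    · rintro x ⟨hxP, hxz⟩
      have hxz' : x * z = z * x := (mem_centralizer_iff.1 hxz z (mem_zpowers z)).symm
      rw [hP] at hxP
      have h1 := h.comm_of_mem hK he hxP.2 (by rw [← hz]; exact hxz')
      rw [mem_centralizer_iff]
      rintro _ ⟨n, rfl⟩
      exact (Commute.zpow_left (show Commute e x from h1) n).eq
  have heP : ∀ x ∈ P, e * x = x * e := fun x hx =>
    (mem_centralizer_iff.1 (hAB (mem_zpowers e)) x hx).symm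
  -- a Sylow 2-subgroup of `C(t)`
  have hM : Mem K' t := ht ▸ h.mem K' hK'
  obtain ⟨T, hT⟩ := Hyp.exists_syl (centralizer ({t} : Set G))
  have hQP : ∀ x ∈ K', x ∈ T → x ∈ P := by
    intro x hx hxT
    obtain ⟨n, hn⟩ := hT.2.1 ⟨x, hxT⟩
    rw [hP]
    exact ⟨hM.mem_NN hT hx hxT, h.two_mem hK' hx (n := n) (congrArg Subtype.val hn)⟩
  obtain ⟨i, j, d, hS, hq⟩ := hM.coords hT
  have hi : i ∈ P := hQP i (hq ▸ Qt.mem_i t i j : i ∈ K' ⊓ T).1 (hq ▸ Qt.mem_i t i j : i ∈ K' ⊓ T).2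
  have hj : j ∈ P := hQP j (hq ▸ Qt.mem_j t i j : j ∈ K' ⊓ T).1 (hq ▸ Qt.mem_j t i j : j ∈ K' ⊓ T).2
  have hiL : i ∈ L := by rw [hP] at hi; exact hi.2
  have hjL : j ∈ L := by rw [hP] at hj; exact hj.2
  -- `e` normalises `K'`
  have heN : cj e K' = K' := by
    have hcj : cj e K' ∈ Om := h.hyp.conj K' hK' e
    have hzc : zz (cj e K') = zz K' := by
      rw [h.hyp.zz_cj hK', ← ht, het, mul_inv_cancel_right]
    rcases h.hyp.h2 _ hcj _ hK' hzc with h1 | h1
    · exact h1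
    · exfalso
      have hi' : i ∈ cj e K' := by
        rw [mem_cj]
        have : e⁻¹ * i * e = i := by
          have h2 := heP i hi
          calc e⁻¹ * i * e = e⁻¹ * (i * e) := by group
            _ = e⁻¹ * (e * i) := by rw [h2]
            _ = i := by group
        rw [this]; exact hS.hi
      have h2 := (h1 (commutator_mem_commutator hi' hS.hj)).2
      rw [commutatorElement_def] at h2
      rw [h.OO_eq hK'] at h2
      have h3 := h.eq_one hK' h2 (L.mul_mem (L.mul_mem (L.mul_mem hiL hjL) (L.inv_mem hiL)) (L.inv_mem hjL))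
      rw [mul_inv_eq_one, mul_inv_eq_iff_eq_mul] at h3
      exact hS.q.not_comm h3
  -- `e` normalises `K' ∩ L`
  have heN' : e ∈ normalizer ((K' ⊓ L : Subgroup G) : Set G) := by
    rw [mem_normalizer_iff_cj, cj_inf, heN]
    congr 1
    rw [← mem_normalizer_iff_cj, mem_normalizer_iff]
    intro x
    refine ⟨fun hx => h.normal.conj_mem x hx e, fun hx => ?_⟩
    have h2 := h.normal.conj_mem _ hx e⁻¹
    have e1 : e⁻¹ * (e * x * e⁻¹) * e⁻¹⁻¹ = x := by group
    rwa [e1] at h2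
  refine (ht ▸ h.t3 hK' : SolvTwo.T3 (K' ⊓ L) t).comm ?_ heN' ?_
  · intro x hx
    exact hM.comm_s hx.1
  · intro y hy hyy
    -- `y` is a 2-element of `K'`; it lies in a Sylow 2-subgroup of `C(t)`
    have hy4 : y ^ 2 ^ 2 = 1 := by
      have e1 : y ^ 2 ^ 2 = (y * y) * (y * y) := by
        rw [show (2 : ℕ) ^ 2 = 2 + 2 from rfl, pow_add, pow_two]
      rw [e1, hyy, hM.s2]
    have hyp : IsPGroup 2 (zpowers y) := AutAct.isPGroup_zpowers hy4
    obtain ⟨T', hT', hyT'⟩ := exists_syl_ge hyp (zpowers_le.2 (hM.le hy.1))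
    apply heP
    rw [hP]
    exact ⟨hM.mem_NN hT' hy.1 (hyT' (mem_zpowers y)), hy.2⟩

/-- **(CC2)** `O(C(z)) ≤ O(C(t))` for commuting `z = zz K`, `t = zz K'` -/
theorem mem_of_comm (hK : K ∈ Om) (hK' : K' ∈ Om) (hzt : zz K * zz K' = zz K' * zz K) {e : G}
    (he : e ∈ O (zz K)) : e ∈ O (zz K') := by
  by_cases he1 : e = 1
  · rw [he1]; exact one_mem _
  obtain ⟨z, hz⟩ : ∃ z, z = zz K := ⟨_, rfl⟩
  obtain ⟨t, ht⟩ : ∃ t, t = zz K' := ⟨_, rfl⟩
  rw [← hz, ← ht] at hzt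
  have hzL : z ∈ L := hz ▸ h.zzL hK
  have htL : t ∈ L := ht ▸ h.zzL hK'
  have het : e * t = t * e := h.comm_of_mem hK he htL (by rw [← hz]; exact hzt.symm)
  have hez : e * z = z * e := h.comm_of_mem hK he hzL (by rw [← hz])
  obtain ⟨e', he', he'1⟩ := h.exists_ne hK he he1 hK'
  obtain ⟨a, haL, b, hb, hab⟩ := h.exists_mul hK' he' he'1 e
  have hbt : b * t = t * b := ht ▸ mem_centralizer_singleton_iff.1 (O_le _ hb)
  have hae : a = e * b⁻¹ := by rw [hab, mul_inv_cancel_right]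
  have hat : a * t = t * a := by
    rw [hae]
    exact (Commute.mul_left (show Commute e t from het) (Commute.inv_left (show Commute b t from hbt))).eq
  have hbz : b * z = z * b := h.comm_of_mem hK' hb hzL (by rw [← ht]; exact hzt)
  have haz : a * z = z * a := by
    rw [hae]
    exact (Commute.mul_left (show Commute e z from hez) (Commute.inv_left (show Commute b z from hbz))).eq
  -- `M = C(e)`
  have hMtop : centralizer ({e} : Set G) ≠ ⊤ := by
    intro h1
    apply he1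
    have h2 : e ∈ centralizer (L : Set G) := by
      rw [mem_centralizer_iff]
      intro x _
      have h3 : x ∈ centralizer ({e} : Set G) := by rw [h1]; trivial
      exact mem_centralizer_singleton_iff.1 h3
    rwa [h.cent, mem_bot] at h2
  -- `e` commutes with `O(t)`
  have heO : ∀ x ∈ O t, e * x = x * e := by
    intro x hx
    have h1 : e * x * e⁻¹ * x⁻¹ = 1 := by
      apply h.eq_one hK'
      · rw [← ht]
        refine mul_mem ?_ (inv_mem hx)
        have h2 := cent_le t (mem_centralizer_singleton_iff.2 het)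
        exact (mem_normalizer_iff.1 h2 _).1 hx
      · exact h.comm_mem hK he he1 e x
    rw [mul_inv_eq_one, mul_inv_eq_iff_eq_mul] at h1
    exact h1
  have hK'M : K' ≤ centralizer ({e} : Set G) := by
    intro x hx
    obtain ⟨o, ho, y, hy, rfl⟩ := SubCent.exists_mul (h.cov K' hK') hx
    rw [h.OO_eq hK', ← ht] at ho
    refine mul_mem (mem_centralizer_singleton_iff.2 (heO o ho).symm)
      (mem_centralizer_singleton_iff.2 (h.claim hK hK' (by rw [← hz, ← ht]; exact hzt) he y hy).symm)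
  have hbM : b ∈ centralizer ({e} : Set G) := mem_centralizer_singleton_iff.2 (heO b (ht ▸ hb)).symm
  have heM : e ∈ centralizer ({e} : Set G) := mem_centralizer_singleton_iff.2 rfl
  have hbO := core_le h.hyp h.isT h.ind hMtop (mem_cov_of_le hK' hK'M) (by rw [h.OO_eq hK']; exact hb) hbM
  have heO' : (⟨e, heM⟩ : centralizer ({e} : Set G)) ∈ pPrimeCore 2 (centralizer ({e} : Set G)) := by
    have hn : (zpowers (⟨e, heM⟩ : centralizer ({e} : Set G))).Normal := by
      constructor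
      rintro _ ⟨n, rfl⟩ g
      have h1 : Commute g (⟨e, heM⟩ : centralizer ({e} : Set G)) :=
        Subtype.ext (mem_centralizer_singleton_iff.1 g.2)
      have h2 := (Commute.zpow_right h1 n).eq
      show g * (⟨e, heM⟩ : centralizer ({e} : Set G)) ^ n * g⁻¹ ∈ _
      rw [h2, mul_inv_cancel_right]
      exact ⟨n, rfl⟩
    refine Lib.Cores.le_pPrimeCore hn ?_ (mem_zpowers _)
    rw [Nat.card_zpowers, Subgroup.orderOf_mk, Nat.coprime_comm, Nat.Prime.coprime_iff_not_dvd Nat.prime_two]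
    intro h1
    apply odd_O (zz K)
    rw [← Nat.card_zpowers] at h1
    exact h1.trans (card_dvd_of_le (by rw [zpowers_le]; exact he))
  have haM : a ∈ centralizer ({e} : Set G) := by rw [hae]; exact mul_mem heM (inv_mem hbM)
  have haO : (⟨a, haM⟩ : centralizer ({e} : Set G)) ∈ pPrimeCore 2 (centralizer ({e} : Set G)) := by
    have h1 : (⟨a, haM⟩ : centralizer ({e} : Set G)) = ⟨e, heM⟩ * ⟨b, hbM⟩⁻¹ := Subtype.ext hae
    rw [h1]
    exact mul_mem heO' (inv_mem hbO)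
  -- `C_L(z) ≤ M`
  have hCM : L ⊓ centralizer ({z} : Set G) ≤ centralizer ({e} : Set G) := by
    rintro x ⟨hxL, hxz⟩
    exact mem_centralizer_singleton_iff.2
      (h.comm_of_mem hK he hxL (by rw [← hz]; exact mem_centralizer_singleton_iff.1 hxz)).symm
  obtain ⟨W, hW⟩ : ∃ W, W = OO (centralizer ({e} : Set G)) ⊓ (L ⊓ centralizer ({z} : Set G)) := ⟨_, rfl⟩
  have hW1 : W ≤ OO (L ⊓ centralizer ({z} : Set G)) := by
    refine le_OO (hW ▸ inf_le_right) ?_ ?_
    · intro c hc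
      rw [mem_normalizer_iff_cj, hW, cj_inf, mem_normalizer_iff_cj.1 (le_normalizer_OO _ (hCM hc)),
        mem_normalizer_iff_cj.1 (le_normalizer hc)]
    · intro h1
      exact odd_OO (centralizer ({e} : Set G)) (h1.trans (card_dvd_of_le (hW ▸ inf_le_left)))
  have hLn : ∀ g : G, cj g L = L := fun g => by
    rw [← mem_normalizer_iff_cj]
    have := h.normal
    rw [normalizer_eq_top]; trivial
  have hW2 : OO (L ⊓ centralizer ({z} : Set G)) ≤ O z := by
    refine le_OO ((OO_le _).trans inf_le_right) ?_ (odd_OO _)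
    intro c hc
    rw [mem_normalizer_iff_cj, ← OO_cj, cj_inf, hLn, mem_normalizer_iff_cj.1 (le_normalizer hc)]
  have haW : a ∈ W := by
    rw [hW]
    exact ⟨⟨_, haO, rfl⟩, haL, mem_centralizer_singleton_iff.2 haz⟩
  have ha1 : a = 1 := h.eq_one hK (by rw [← hz]; exact hW2 (hW1 haW)) haL
  rw [hab, ha1, one_mul]
  exact hb

/-- **(CC2)** `O(C(z)) = O(C(t))` for commuting `z = zz K`, `t = zz K'` -/
theorem pair (hK : K ∈ Om) (hK' : K' ∈ Om) (hzt : zz K * zz K' = zz K' * zz K) : O (zz K) = O (zz K') :=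
  le_antisymm (fun _ he => h.mem_of_comm hK hK' hzt he) (fun _ he => h.mem_of_comm hK' hK hzt.symm he)

/-- **(P')** if `z` and `g z g⁻¹` commute then `g` centralises `O(C(z))` -/
theorem comm_of_conj (hK : K ∈ Om) {g : G} (hg : zz K * (g * zz K * g⁻¹) = (g * zz K * g⁻¹) * zz K) {e : G}
    (he : e ∈ O (zz K)) : g * e = e * g := by
  by_cases he1 : e = 1
  · rw [he1, mul_one, one_mul]
  have hK' : cj g K ∈ Om := h.hyp.conj K hK g
  have hz' := h.hyp.zz_cj hK g
  have h1 := h.pair hK hK' (by rw [hz']; exact hg)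
  have h2 : g * e * g⁻¹ ∈ O (zz K) := by
    rw [h1, hz', O_cj]
    exact conj_mem_cj he
  have h3 : g * e * g⁻¹ * e⁻¹ = 1 := h.eq_one hK (mul_mem h2 (inv_mem he)) (h.comm_mem hK he he1 g e)
  rw [mul_inv_eq_one, mul_inv_eq_iff_eq_mul] at h3
  exact h3

end CCHyp

end Cfsg.Agent.Cit.QTwo.CC
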