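import Cfsg.Agent.Cit.CloBen
import Cfsg.Agent.Cit.LemmaB
import Cfsg.Agent.Cit.CloEnd

/-!
# [Q2], (CC3): a strongly embedded subgroup

* `IC` : the elements of square one of a Sylow 2-subgroup are central, in the groups of Bender's list;
* `concl_of_pair` : if all involutions of `X` are conjugate to `z`, `C(z) ≤ C < X` and `g ∈ C` whenever `z` and `g z g⁻¹`
  commute, then `C` is strongly embedded in `X`.
-/

set_option autoImplicit false
set_option linter.style.haveILetI false

namespace Cfsg.Agent.Cit.QTwo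

open Cfsg Subgroup

section

open Cfsg.Agent.LieRecognition Cfsg.Agent.LieRecognition.HermHeis Cfsg.Agent.LieRecognition.PSUThreeSylow
open Cfsg.Agent.LieRecognition.SzMatrix Cfsg.Agent.BenderType.Inv Cfsg.Agent.BenderType.Classify

/-- the elements of square one are central -/
def IC (S : Type*) [Group S] : Prop := ∀ x y : S, x * x = 1 → x * y = y * x

theorem IC.congr {S T : Type*} [Group S] [Group T] (h : IC S) (e : S ≃* T) : IC T := by
  intro x y hx
  apply e.symm.injective
  rw [map_mul, map_mul]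
  refine h (e.symm x) _ ?_
  rw [← map_mul, hx, map_one]

theorem IC.of_comm {S : Type*} [Group S] (h : IsMulCommutative S) : IC S := fun x y _ => h.is_comm.comm x y

theorem ic_heis {F : Type*} [Field F] [CharP F 2] {σ : F →+* F} [hσ : Fact (∀ x, σ (σ x) = x)] :
    IC (Heis σ) := by
  intro x y hx
  rw [HermHeis.mul_self_eq_one_iff] at hx
  rw [commute_iff, hx, map_zero, zero_mul, mul_zero]

theorem ic_unip {F : Type*} [Field F] {θ : F →+* F} {e : ℕ} (H : Good F θ e) : IC H.unip := by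
  rintro ⟨x, hx⟩ ⟨y, hy⟩ h1
  obtain ⟨a, b, rfl⟩ := (H.mem_unip_iff x).1 hx
  obtain ⟨c, d, rfl⟩ := (H.mem_unip_iff y).1 hy
  have h2 : H.u a b * H.u a b = 1 := congrArg Subtype.val h1
  rw [H.u_mul, ← H.u_zero] at h2
  have h3 := (H.u_inj h2).2
  rw [add_comm, ← add_assoc] at h3
  have h4 : a * θ a = 0 := by
    have h5 : b + b = 0 := H.add_self b
    linear_combination h3 - h5
  have ha : a = 0 := by
    rcases mul_eq_zero.1 h4 with h5 | h5
    · exact h5
    · exact (map_eq_zero θ).1 h5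
  subst ha
  apply Subtype.ext
  show H.u 0 b * H.u c d = H.u c d * H.u 0 b
  rw [H.u_mul, H.u_mul]
  congr 1
  · ring
  · rw [map_zero]; ring

/-- `IC` for the Sylow 2-subgroups of the groups of Bender's list -/
theorem ic_of_concl {G : Type*} [Group G] [Finite G] (hG : Concl G) (S : Sylow 2 G) :
    IC (S : Subgroup G) := by
  have : Fact (Nat.Prime 2) := ⟨Nat.prime_two⟩
  rcases hG with ⟨F, i1, i2, ⟨k, -, hF⟩, ⟨e⟩⟩ | ⟨F, i1, i2, m, hm, hF, ⟨e⟩⟩ |
      ⟨F, i1, i2, k, hk, hF, ⟨e⟩⟩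
  · by_contra hcon
    refine not_psl S (fun hc => hcon (IC.of_comm hc)) hF e
  · have H := good hF
    have hcF : Nat.card F = 2 ^ (2 * m + 1) := by rw [Nat.card_eq_fintype_card, hF]
    have hodd : ¬ 2 ∣ H.unip.index := by
      have h1 := Subgroup.card_mul_index H.unip
      rw [(S1163.result hm hF).1, H.card_unip, hcF, mul_assoc] at h1
      have h2 := Nat.eq_of_mul_eq_mul_left (by positivity) h1
      rw [h2]
      intro h
      rcases (Nat.Prime.dvd_mul Nat.prime_two).mp h with h | h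
      · have h1 : 1 ≤ 2 ^ (2 * m + 1) := Nat.one_le_two_pow
        have h2 : 2 ∣ 2 ^ (2 * m + 1) := dvd_pow_self 2 (by omega)
        omega
      · have h2 : 2 ∣ (2 ^ (2 * m + 1)) ^ 2 := dvd_pow (dvd_pow_self 2 (by omega)) (by omega)
        omega
    have hpg : IsPGroup 2 H.unip := by
      apply IsPGroup.of_card (n := (2 * m + 1) * 2)
      rw [H.card_unip, hcF, ← pow_mul]
    have : Finite ↥(Cfsg.Lie.Sz F (2 ^ (m + 1))) := Finite.of_equiv G e.toEquiv
    let T : Sylow 2 ↥(Cfsg.Lie.Sz F (2 ^ (m + 1))) := S.mapSurjective (f := e.toMonoidHom) e.surjective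
    have h1 : IC (T : Subgroup ↥(Cfsg.Lie.Sz F (2 ^ (m + 1)))) :=
      (ic_unip H).congr ((hpg.toSylow hodd).equiv T)
    exact h1.congr (e.subgroupMap (S : Subgroup G)).symm
  · have hF' : Nat.card F = (2 ^ k) ^ 2 := by rw [Nat.card_eq_fintype_card, hF]
    obtain ⟨h2, σ, hσ, hs, -, h⟩ := exists_heis_equiv F (show 1 ≤ k by omega) hF'
    obtain ⟨f⟩ := h (S.mapSurjective (f := e.toMonoidHom) e.surjective)
    exact (ic_heis.congr f).congr (e.subgroupMap (S : Subgroup G)).symm

/-- in a group of Bender's list an involution of a 2-subgroup is central in it -/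
theorem comm_of_concl {G : Type*} [Group G] [Finite G] (hG : Concl G) {P : Subgroup G} (hP : IsPGroup 2 P)
    {x y : G} (hx : x ∈ P) (hy : y ∈ P) (hxx : x * x = 1) : x * y = y * x := by
  obtain ⟨S, hS⟩ := hP.exists_le_sylow
  have h := ic_of_concl hG S ⟨x, hS hx⟩ ⟨y, hS hy⟩ (Subtype.ext hxx)
  exact congrArg Subtype.val h

/-- the strongly embedded subgroup -/
theorem stronglyEmbedded {X : Type*} [Group X] [Finite X] {C : Subgroup X} (hC : C ≠ ⊤) {z : X}
    (hz : orderOf z = 2) (one : ∀ s t : X, orderOf s = 2 → orderOf t = 2 → IsConj s t)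
    (cz : centralizer {z} ≤ C) (pair : ∀ g, z * (g * z * g⁻¹) = (g * z * g⁻¹) * z → g ∈ C) :
    IsStronglyEmbedded C := by
  haveI : Fact (Nat.Prime 2) := ⟨Nat.prime_two⟩
  have hzC : z ∈ C := cz (mem_centralizer_singleton_iff.2 rfl)
  -- a Sylow 2-subgroup centralising `z`
  obtain ⟨T, hT, hTz⟩ : ∃ T : Subgroup X, Syl T ⊤ ∧ ∀ s ∈ T, s * z = z * s := by
    obtain ⟨P⟩ : Nonempty (Sylow 2 X) := inferInstance
    have hne : Nontrivial P := by
      rw [Subgroup.nontrivial_iff_ne_bot]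
      intro hb
      have h1 := P.not_dvd_index
      rw [hb, Subgroup.index_bot] at h1
      apply h1
      rw [← hz]; exact orderOf_dvd_natCard z
    have hcen : Nontrivial (center P) := IsPGroup.center_nontrivial P.isPGroup'
    have hcp : IsPGroup 2 (center P) := P.isPGroup'.to_subgroup _
    obtain ⟨n, hn⟩ := IsPGroup.iff_card.1 hcp
    have hn0 : n ≠ 0 := by
      rintro rfl
      rw [pow_zero] at hn
      exact (Finite.one_lt_card (α := center P)).ne' hn
    obtain ⟨w, hw⟩ := exists_prime_orderOf_dvd_card' (G := center P) 2 (by rw [hn]; exact dvd_pow_self 2 hn0)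
    have hw' : orderOf ((w : P) : X) = 2 := by
      rw [Subgroup.orderOf_coe, Subgroup.orderOf_coe, hw]
    obtain ⟨g, hg⟩ := isConj_iff.1 (one z _ hz hw')
    refine ⟨cj g⁻¹ P, ?_, ?_⟩
    · have h1 : Syl (P : Subgroup X) ⊤ :=
        ⟨le_top, P.isPGroup', by rw [relIndex_top_right]; exact P.not_dvd_index⟩
      have h2 := h1.cj g⁻¹
      have h3 : cj g⁻¹ (⊤ : Subgroup X) = ⊤ := by
        ext x; simp [mem_cj]
      rwa [h3] at h2
    · intro s hs
      rw [mem_cj, inv_inv] at hs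
      have h1 : (⟨g * s * g⁻¹, hs⟩ : P) * (w : P) = (w : P) * ⟨g * s * g⁻¹, hs⟩ :=
        mem_center_iff.1 w.2 _
      have h2 : (g * s * g⁻¹) * ((w : P) : X) = ((w : P) : X) * (g * s * g⁻¹) := congrArg Subtype.val h1
      rw [← hg] at h2
      calc s * z = g⁻¹ * ((g * s * g⁻¹) * (g * z * g⁻¹)) * g := by group
        _ = z * s := by rw [h2]; group
  have hTC : T ≤ C := fun s hs => cz (mem_centralizer_singleton_iff.2 (hTz s hs))
  have hTC' : Syl T C := LB.syl_of_le hT hTC le_top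
  have key : ∀ t ∈ T, orderOf t = 2 → ∀ h : X, h * t * h⁻¹ ∈ T → h ∈ C := by
    intro t ht ht2 h hh
    obtain ⟨k, hk⟩ := isConj_iff.1 (one z t hz ht2)
    have h1 : k ∈ C := pair k (by rw [hk]; exact (hTz t ht).symm)
    have h2 : h * k ∈ C := by
      refine pair _ ?_
      have h3 : h * k * z * (h * k)⁻¹ = h * t * h⁻¹ := by rw [← hk]; group
      rw [h3]
      exact (hTz _ hh).symm
    have h4 : h = h * k * k⁻¹ := by group
    rw [h4]
    exact C.mul_mem h2 (C.inv_mem h1)
  refine ⟨hC, ?_, ?_⟩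
  · rw [even_iff_two_dvd, ← hz, ← Subgroup.orderOf_mk z hzC]
    exact orderOf_dvd_natCard _
  · intro g hg
    rw [← Nat.not_even_iff_odd, even_iff_two_dvd]
    intro h2
    obtain ⟨s, hs⟩ := exists_prime_orderOf_dvd_card' (G := ↥(C ⊓ C.map (MulAut.conj g).toMonoidHom)) 2 h2
    have hs2 : orderOf (s : X) = 2 := by rw [Subgroup.orderOf_coe, hs]
    have hsC : (s : X) ∈ C := s.2.1
    have hsg : g⁻¹ * (s : X) * g ∈ C := mem_cj.1 s.2.2
    apply hg
    have hp : ∀ y : X, orderOf y = 2 → IsPGroup 2 (zpowers y) := fun y hy =>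
      IsPGroup.of_card (n := 1) (by rw [Nat.card_zpowers, hy, pow_one])
    have hs2' : orderOf (g⁻¹ * (s : X) * g) = 2 := by
      rw [← hs2]
      have := (MulAut.conj g⁻¹).orderOf_eq (s : X)
      simpa using this
    obtain ⟨c, hc, hct⟩ := LB.exists_conj_mem hTC' hsC (hp _ hs2)
    obtain ⟨c', hc', hct'⟩ := LB.exists_conj_mem hTC' hsg (hp _ hs2')
    have h3 : c * g * c'⁻¹ ∈ C := by
      refine key _ hct' ?_ _ ?_
      · rw [← hs2']
        have := (MulAut.conj c').orderOf_eq (g⁻¹ * (s : X) * g)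
        simpa using this
      · have h4 : c * g * c'⁻¹ * (c' * (g⁻¹ * (s : X) * g) * c'⁻¹) * (c * g * c'⁻¹)⁻¹ = c * s * c⁻¹ := by group
        rw [h4]; exact hct
    have h4 : g = c⁻¹ * (c * g * c'⁻¹) * c' := by group
    rw [h4]
    exact C.mul_mem (C.mul_mem (C.inv_mem hc) h3) hc'

end

end Cfsg.Agent.Cit.QTwo
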