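import Cfsg.Agent.Cit.QTwo.CCFam
import Cfsg.Agent.Cit.FrameOfFr
import Cfsg.Agent.Nodes.StdConn

/-!
# [Q2], part (CC): the element `e` of a chart

`CCHyp.exists_chart` : if `L` has a chart `c` (for the traces of the members) and some core `O(C(z))` is not trivial
then there is `e ≠ 1` with `e ∈ O(C(z_r))` for all `r ∈ c.R`, and `g e = e g` whenever `z_r` and `g z_r g⁻¹` commute for
some `r ∈ c.R`.
-/

set_option autoImplicit false
set_option linter.dupNamespace false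
set_option linter.unusedSectionVars false
set_option linter.style.haveILetI false

namespace Cfsg.Agent.Cit.QTwo.CC

open Subgroup Cfsg Cfsg.Agent.Cit SubCent SLThree Cfsg.Agent.Nodes.Chart

universe u

variable {G : Type u} [Group G] {Om : Set (Subgroup G)} {L : Subgroup G}

namespace CCHyp

variable [Finite G] (h : CCHyp Om L) {K : Subgroup G}
include h

theorem zz_chart {p : ℕ} (c : Chart (OmL Om L) p L) {r : c.I → ℤ} (hr : r ∈ c.R) :
    ∃ J ∈ Om, zz J = c.z r := by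
  obtain ⟨J, hJ, -, hz⟩ := h.exists_core_ne (c.om r hr)
  refine ⟨J, hJ, ?_⟩
  rw [← hz]
  exact Nodes.StdConn.zz_eq h.hyp_OmL c hr (FrameOfFr.z_ne_one c h.not_mem_OmL r hr)

theorem exists_chart (hK : K ∈ Om) {e : G} (he : e ∈ O (zz K)) (he1 : e ≠ 1) {p : ℕ}
    (c : Chart (OmL Om L) p L) :
    ∃ a, a ≠ 1 ∧ (∀ r ∈ c.R, a ∈ O (c.z r)) ∧
      ∀ r ∈ c.R, ∀ g : G, c.z r * (g * c.z r * g⁻¹) = (g * c.z r * g⁻¹) * c.z r → g * a = a * g := by
  obtain ⟨r0, hr0⟩ := c.Rne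
  obtain ⟨J0, hJ0, hz0⟩ := h.zz_chart c hr0
  obtain ⟨a, ha, ha1⟩ := h.exists_ne hK he he1 hJ0
  have key : ∀ r ∈ c.R, ∃ J ∈ Om, zz J = c.z r ∧ a ∈ O (zz J) := by
    intro r hr
    obtain ⟨J, hJ, hz⟩ := h.zz_chart c hr
    refine ⟨J, hJ, hz, ?_⟩
    rw [← h.pair hJ0 hJ]
    · exact ha
    · rw [hz0, hz]
      exact c.cls.z_T r0 hr0 _ (c.cls.z_torus r hr)
  refine ⟨a, ha1, ?_, ?_⟩
  · intro r hr
    obtain ⟨J, -, hz, haJ⟩ := key r hr
    rwa [← hz]
  · intro r hr g hg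
    obtain ⟨J, hJ, hz, haJ⟩ := key r hr
    rw [← hz] at hg
    exact h.comm_of_conj hJ hg haJ

/-- an element centralising `L` is trivial -/
theorem eq_one_of_comm {a : G} (ha : ∀ g ∈ L, g * a = a * g) : a = 1 := by
  have h1 : a ∈ centralizer (L : Set G) := mem_centralizer_iff.2 fun g hg => ha g hg
  rwa [h.cent, mem_bot] at h1

end CCHyp

end Cfsg.Agent.Cit.QTwo.CC
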