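import Cfsg.Agent.Cit.QTwo.CCChart
import Cfsg.Agent.Cit.QTwo.ChartPart

/-!
# [Q2], part (CC): the chart case

* `comm_of_roots` : helper126's `ChartPart.comm_of_pair` with the hypothesis only for the roots `r ∈ c.R`;
* `CCHyp.chart_false` : if `L` has a chart then all cores `O(C(z))` are trivial.
-/

set_option autoImplicit false
set_option linter.dupNamespace false
set_option linter.unusedSectionVars false
set_option linter.style.haveILetI false

namespace Cfsg.Agent.Cit.QTwo.CC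

open Subgroup Cfsg Cfsg.Agent.Cit SubCent SLThree Cfsg.Agent.Nodes.Chart
open Cfsg.Agent.Nodes.ChartLoc Cfsg.Agent.Nodes.LeviDec Cfsg.Agent.Nodes.ClsNorm Cfsg.Agent.Nodes.OppDec
  Cfsg.Agent.Nodes.RGDLib Cfsg.Agent.Nodes.Bruhat Cfsg.Agent.Nodes.StabComb

universe u

variable {G : Type u} [Group G] {Om : Set (Subgroup G)} {L : Subgroup G}

/-- **(CC3), chart part**, hypothesis for the roots of the chart only -/
theorem comm_of_roots [Finite G] {p : ℕ} (hyp : Hyp Om) (c : Chart Om p L) {τ : Nodes.Chart.Ty} (hτ : c.IsTy τ)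
    (ok : KindOk τ) (hL : L ∉ Om) (hcen : Subgroup.center L = ⊥) (hT : ∀ K ∈ Om, K ≤ L → IsType K)
    (hO : ∀ K ∈ Om, K ≤ L → OO K = ⊥) {e : G} (he : e ∈ Subgroup.normalizer (L : Set G))
    (hP : ∀ r ∈ c.R, ∀ g ∈ L, c.z r * (g * c.z r * g⁻¹) = g * c.z r * g⁻¹ * c.z r → g * e = e * g) :
    ∀ x ∈ L, x * e = e * x := by
  haveI : Fact p.Prime := ⟨c.prime⟩
  have hGG := ChartPart.GG_eq c
  have hKL : ∀ r ∈ c.R, c.Z r ⊔ c.Z (-r) ≤ L := by
    intro r hr
    exact (sup_le_GG c.cls hr).trans hGG.le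
  have hP' : ∀ r ∈ c.R, ∀ g ∈ GG c.cs c.h c.T c.X,
      c.z r * (g * c.z r * g⁻¹) = g * c.z r * g⁻¹ * c.z r → g * e = e * g := by
    intro r hr g hg h1
    rw [hGG] at hg
    exact hP r hr g hg h1
  intro x hx
  rw [← hGG] at hx he
  refine ChartPart.comm_of_cases c.cls c.odd he hP' (ChartPart.case_of_isTy c hτ ok)
    (fun r hr => hT _ (c.om r hr) (hKL r hr))
    (fun r hr => hyp.uniq _ (c.om r hr)) (fun r hr => hO _ (c.om r hr) (hKL r hr)) ?_ c.Rne hx
  intro g hg hgc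
  rw [hGG] at hg hgc
  have h1 : (⟨g, hg⟩ : L) ∈ Subgroup.center L := by
    rw [Subgroup.mem_center_iff]
    intro k
    exact Subtype.ext (hgc k k.2)
  rw [hcen, Subgroup.mem_bot] at h1
  exact congrArg Subtype.val h1

namespace CCHyp

variable [Finite G] (h : CCHyp Om L) {K : Subgroup G}
include h

/-- the chart case of (CC) -/
theorem chart_false (hK : K ∈ Om) {e : G} (he : e ∈ O (zz K)) {p : ℕ} (c : Chart (OmL Om L) p L)
    {τ : Nodes.Chart.Ty} (hτ : c.IsTy τ) (ok : KindOk τ) : e = 1 := by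
  by_contra he1
  obtain ⟨a, ha1, -, ha⟩ := h.exists_chart hK he he1 c
  refine ha1 (h.eq_one_of_comm ?_)
  exact comm_of_roots h.hyp_OmL c hτ ok h.not_mem_OmL h.center_eq_bot (fun J hJ _ => h.isType_OmL hJ)
    (fun J hJ _ => h.OO_OmL hJ) (h.le_normalizer_L a) (fun r hr g _ hg => ha r hr g hg)

end CCHyp

end Cfsg.Agent.Cit.QTwo.CC
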