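import Cfsg.Agent.Cit.QTwo.CCChartEnd

/-!
# [Q2], part (CC): the end

* `CExc`, `CMat` : the statements of part [C] (`L` is `G₂(q)`, `³D₄(q)`, `M₁₁`);
* `CCHyp.core_eq_bot_of` : all cores `O(C(z))` are trivial;
* `cc` : `MinG Om L`, all members of type `SL(2,3)`, `L ≠ G`, `K ∈ Om` covered by `L` modulo `O(C(z_K))` imply
  `O(C(z_K)) = 1`; `cc_le` : and `K ≤ L`.
-/

set_option autoImplicit false
set_option linter.dupNamespace false
set_option linter.unusedSectionVars false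
set_option linter.style.haveILetI false

namespace Cfsg.Agent.Cit.QTwo.CC

open Subgroup Cfsg Cfsg.Agent.Cit SubCent SLThree Cfsg.Agent.Nodes.Chart

universe u

/-- part [C], `G₂(q)` and `³D₄(q)` -/
def CExc : Prop :=
  ∀ (G : Type u) [Group G] [Finite G] (Om : Set (Subgroup G)) (L : Subgroup G), CCHyp Om L → ∀ K ∈ Om,
    ∀ e ∈ O (zz K), ∀ p : ℕ, p.Prime → p ≠ 2 → IsG2D4 p (↥L ⧸ center L) → e = 1

/-- part [C], `M₁₁` -/
def CMat : Prop :=
  ∀ (G : Type u) [Group G] [Finite G] (Om : Set (Subgroup G)) (L : Subgroup G), CCHyp Om L → ∀ K ∈ Om,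
    ∀ e ∈ O (zz K), Spor.IsoM11 (↥L ⧸ center L) → e = 1

variable {G : Type u} [Group G] [Finite G] {Om : Set (Subgroup G)} {L : Subgroup G}

theorem CCHyp.core_eq_bot_of (hE : CExc.{u}) (hM : CMat.{u}) (h : CCHyp Om L) {K : Subgroup G} (hK : K ∈ Om) :
    O (zz K) = ⊥ := by
  rw [eq_bot_iff]
  intro e he
  rw [mem_bot]
  rcases h.piece' hK with h1 | ⟨-, -, -, p, c, τ, kind, ok, -, -, -⟩ | ⟨-, -, p, prime, odd, iso, -, -, -⟩ |
    ⟨-, -, iso, -, -⟩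
  · exact absurd h1 h.not_mem_OmL
  · exact h.chart_false hK he c kind ok
  · exact hE G Om L h K hK e he p prime odd iso
  · exact hM G Om L h K hK e he iso

/-- **(CC)** -/
theorem cc (hE : CExc.{u}) (hM : CMat.{u}) (h : MinG Om L) (hT : ∀ K ∈ Om, SolvTwo.IsT K) (hne : L ≠ ⊤)
    {K : Subgroup G} (hK : K ∈ Om) (hcov : ∀ k ∈ K, ∃ o ∈ O (zz K), k * o ∈ L) : O (zz K) = ⊥ := by
  obtain ⟨h1, h2⟩ := of_minG h hT hne hK hcov
  rw [← h2]
  exact h1.core_eq_bot_of hE hM (self_mem_cls _)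

theorem cc_le (hE : CExc.{u}) (hM : CMat.{u}) (h : MinG Om L) (hT : ∀ K ∈ Om, SolvTwo.IsT K) (hne : L ≠ ⊤)
    {K : Subgroup G} (hK : K ∈ Om) (hcov : ∀ k ∈ K, ∃ o ∈ O (zz K), k * o ∈ L) : K ≤ L := by
  intro k hk
  obtain ⟨o, ho, hko⟩ := hcov k hk
  rw [cc hE hM h hT hne hK hcov, mem_bot] at ho
  rwa [ho, mul_one] at hko

/-- (CC) in the form of a contradiction with `G = ⟨Om⟩` -/
theorem cc_false (hE : CExc.{u}) (hM : CMat.{u}) (h : MinG Om L) (hT : ∀ K ∈ Om, SolvTwo.IsT K) (hne : L ≠ ⊤)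
    {K : Subgroup G} (hK : K ∈ Om) (hcov : ∀ k ∈ K, ∃ o ∈ O (zz K), k * o ∈ L) : False := by
  have h1 := cc_le hE hM h hT hne hK hcov
  apply hne
  rw [← top_le_iff, ← h.gen]
  refine sSup_le fun J hJ => ?_
  obtain ⟨g, rfl⟩ := h.cls K hK J hJ
  have hLn := h.normal
  have hg : cj g L = L := by
    rw [← mem_normalizer_iff_cj, normalizer_eq_top]; trivial
  rw [← hg]
  exact cj_mono g h1

end Cfsg.Agent.Cit.QTwo.CC
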