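import Cfsg.Agent.Cit.QTwo.CCExc
import Cfsg.Agent.Cit.QTwo.CCEnd
import Cfsg.Agent.Cit.HexFactB
import Cfsg.Agent.Cit.HexInv

/-!
# [Q2], (CC3): `L` is `G₂(q)` or `³D₄(q)`

`cExc` : part [C] of [Q2].
-/

set_option autoImplicit false
set_option linter.dupNamespace false
set_option linter.unusedSectionVars false
set_option linter.style.haveILetI false

namespace Cfsg.Agent.Cit.QTwo.CC

open Subgroup Cfsg Cfsg.Agent.Cit SubCent SLThree

universe u

/-- all involutions are conjugate -/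
def OneCls (X : Type*) [Group X] : Prop := ∀ s t : X, orderOf s = 2 → orderOf t = 2 → IsConj s t

theorem OneCls.congr {X Y : Type*} [Group X] [Group Y] (h : OneCls Y) (e : X ≃* Y) : OneCls X := by
  intro s t hs ht
  have h1 : IsConj (e s) (e t) := h _ _ (by rw [MulEquiv.orderOf_eq, hs]) (by rw [MulEquiv.orderOf_eq, ht])
  rw [isConj_iff] at h1 ⊢
  obtain ⟨c, hc⟩ := h1
  refine ⟨e.symm c, e.injective ?_⟩
  rw [map_mul, map_mul, map_inv, e.apply_symm_apply, hc]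

theorem sq_ne {X : Type*} [Group X] {s : X} (hs : orderOf s = 2) : s * s = 1 ∧ s ≠ 1 := by
  refine ⟨by rw [← pow_two, ← hs, pow_orderOf_eq_one], ?_⟩
  rintro rfl
  rw [orderOf_one] at hs
  omega

/-- `G₂(q)` and `³D₄(q)` have one class of involutions -/
theorem oneCls_of_isG2D4 {X : Type*} [Group X] [Finite X] {p : ℕ} (hp : p.Prime) (hp2 : p ≠ 2) (h : IsG2D4 p X) :
    OneCls X := by
  obtain ⟨F, i1, i2, i3, h⟩ := h
  have h2 : (2 : F) ≠ 0 := HexBase.two_ne_of_char hp hp2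
  rcases h with ⟨⟨e⟩⟩ | ⟨q, hq, hc, ⟨e⟩⟩
  · have : Finite ↥(Lie.chevG2.group F) := Finite.of_equiv _ e.toEquiv
    refine OneCls.congr ?_ e
    intro s t hs ht
    obtain ⟨hs1, hs2⟩ := sq_ne hs
    obtain ⟨ht1, ht2⟩ := sq_ne ht
    exact (HexG2.g2 F h2).isConj_invol h2 hs1 hs2 ht1 ht2
  · have : Finite ↥(Lie.twistedD4 F q) := Finite.of_equiv _ e.toEquiv
    obtain ⟨σ, -, ⟨c⟩⟩ := HexD4.exists_d4 hc
    refine OneCls.congr ?_ e
    intro s t hs ht
    obtain ⟨hs1, hs2⟩ := sq_ne hs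
    obtain ⟨ht1, ht2⟩ := sq_ne ht
    exact c.isConj_invol h2 hs1 hs2 ht1 ht2

/-- `X ≃ X / Z(X)` if `Z(X) = 1` -/
noncomputable def quotCenter {X : Type*} [Group X] (h : center X = ⊥) : X ≃* X ⧸ center X :=
  QuotientGroup.quotientBot.symm.trans (QuotientGroup.quotientMulEquivOfEq h.symm)

variable {G : Type u} [Group G] [Finite G] {Om : Set (Subgroup G)} {L : Subgroup G}

theorem CCHyp.eq_one_of_oneCls (h : CCHyp Om L) (hB : CloEnd.Bend ↥L) {K : Subgroup G} (hK : K ∈ Om) {e : G}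
    (he : e ∈ O (zz K)) (h1 : OneCls (↥L ⧸ center L)) : e = 1 := by
  by_contra he1
  exact h.false_of_one hB hK he he1 (h1.congr (quotCenter h.center_eq_bot))

/-- **part [C], `G₂(q)` and `³D₄(q)`**, given Bender's theorem -/
theorem cExc_of (hB : ∀ (X : Type u) [Group X] [Finite X] [IsSimpleGroup X], CloEnd.Bend X) : CExc.{u} :=
  fun _ _ _ _ _ h _ hK _ he _ hp hp2 iso =>
    haveI := h.simple
    h.eq_one_of_oneCls (hB _) hK he (oneCls_of_isG2D4 hp hp2 iso)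

end Cfsg.Agent.Cit.QTwo.CC
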