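import Cfsg.Agent.Cit.QTwo.CCEnd
import Cfsg.Agent.Cit.Eleven

/-!
# [Q2], part (CC): `L ≅ M₁₁`

`e ∈ O(C(z))` centralises `C_L(z) ≥ Q`, so `e ∈ C(L) ∪ C(L) z` ((H5) of the fact sheet of `M₁₁`): `e = 1`.
-/

set_option autoImplicit false
set_option linter.dupNamespace false
set_option linter.unusedSectionVars false
set_option linter.style.haveILetI false

namespace Cfsg.Agent.Cit.QTwo.CC

open Subgroup Cfsg Cfsg.Agent.Cit SubCent SLThree

universe u

variable {G : Type u} [Group G] [Finite G] {Om : Set (Subgroup G)} {L : Subgroup G}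

theorem CCHyp.center_bot (h : CCHyp Om L) : center L = ⊥ := by
  rw [eq_bot_iff]
  intro x hx
  have h1 : (x : G) ∈ centralizer (L : Set G) :=
    mem_centralizer_iff.2 fun y hy => congrArg Subtype.val (mem_center_iff.1 hx ⟨y, hy⟩)
  rw [h.cent, mem_bot] at h1
  exact Subtype.ext h1

/-- `L ≃* L / Z(L)` -/
noncomputable def CCHyp.equivQuot (h : CCHyp Om L) : L ≃* ↥L ⧸ center L :=
  (QuotientGroup.quotientBot.symm).trans (QuotientGroup.quotientMulEquivOfEq h.center_bot.symm)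

theorem CCHyp.eq_one_of_sq (h : CCHyp Om L) {K : Subgroup G} (hK : K ∈ Om) {e : G} (he : e ∈ O (zz K))
    (hc : e ∈ centralizer (L : Set G) ∨ (zz K)⁻¹ * e ∈ centralizer (L : Set G)) : e = 1 := by
  rw [h.cent, mem_bot, mem_bot] at hc
  rcases hc with hc | hc
  · exact hc
  · rw [inv_mul_eq_one] at hc
    exact h.eq_one hK he (by rw [← hc]; exact h.zzL hK)

theorem cMat : CMat.{u} := by
  intro G _ _ Om L h K hK e he iso
  obtain ⟨f⟩ := iso
  have h11 : Spor.IsoM11 L := ⟨h.equivQuot.trans f⟩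
  have hzL := h.zzL hK
  have hz : orderOf (⟨zz K, hzL⟩ : L) = 2 := by
    rw [← Subgroup.orderOf_coe]
    exact h.hyp.orderOf_zz hK
  haveI := h.normal
  refine h.eq_one_of_sq hK he (Eleven.mem_or_mem h11 hz (by rw [normalizer_eq_top]; trivial) fun y hy => ?_)
  refine h.comm_of_mem hK he y.2 ?_
  have h1 : Eleven.QQ (⟨zz K, hzL⟩ : L) ≤ centralizer {(⟨zz K, hzL⟩ : L)} := by
    rw [Eleven.QQ, closure_le]
    intro x hx
    rw [SetLike.mem_coe, mem_centralizer_singleton_iff]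
    have hx' : x * x = ⟨zz K, hzL⟩ := hx
    rw [← hx', mul_assoc]
  exact congrArg Subtype.val (mem_centralizer_singleton_iff.1 (h1 hy))

end Cfsg.Agent.Cit.QTwo.CC
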