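import Cfsg.Agent.Cit.QTwo.CC
import Cfsg.Agent.Cit.CoresClose

/-!
# [Q2], part (CC): the setting from `MinG`, and THEOREM T for `L`

* `of_minG` : `MinG Om L`, all members of type `SL(2,3)`, `L ≠ G`, `K ∈ Om` covered by `L` modulo `O(C(z_K))` give
  `CCHyp (cls (K ⊔ O(C(z)))) L` and `zz (K ⊔ O(C(z))) = zz K`;
* `CCHyp.hasPieces` : `HasPieces (restrX Om L)`;
* `CCHyp.piece` : `L` is a piece, `CCHyp.top_not_mem` : not a single member;
* `CCHyp.piece'`: the same in `G` for the family `OmL Om L = {K ⊓ L : K ∈ Om}`.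
-/

set_option autoImplicit false
set_option linter.dupNamespace false
set_option linter.unusedSectionVars false
set_option linter.style.haveILetI false

namespace Cfsg.Agent.Cit.QTwo.CC

open Subgroup Cfsg Cfsg.Agent.Cit SubCent SLThree

universe u

variable {G : Type u} [Group G] {Om : Set (Subgroup G)} {L : Subgroup G}

section

variable [Finite G]

theorem of_minG (h : MinG Om L) (hT : ∀ K ∈ Om, SolvTwo.IsT K) (hne : L ≠ ⊤) {K : Subgroup G} (hK : K ∈ Om)
    (hcov : ∀ k ∈ K, ∃ o ∈ O (zz K), k * o ∈ L) :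
    CCHyp (cls (K ⊔ O (zz K))) L ∧ zz (K ⊔ O (zz K)) = zz K := by
  have hz := h.hyp.orderOf_zz hK
  have hKC : K ≤ centralizer {zz K} := h.hyp.le_centralizer hK
  have hM : Mem (K ⊔ O (zz K)) (zz K) := by
    haveI : Fact (Nat.Prime 3) := ⟨Nat.prime_three⟩
    exact SLThreeMain.mem_sup (F := ZMod 3) hz hKC (h.hyp.zz_mem hK) (h.hyp.sub K hK) (ZMod.card 3) (hT K hK)
  obtain ⟨hyp, hzz⟩ := SLThreeMain.hyp_of_mem hz hM
  have hself : K ⊔ O (zz K) ∈ cls (K ⊔ O (zz K)) := self_mem_cls _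
  -- the type
  have hT0 : SolvTwo.IsT (K ⊔ O (zz K)) := by
    obtain ⟨e⟩ := hT K hK
    obtain ⟨e1⟩ := SLThreeMain.quotEquiv hKC (h.hyp.sub K hK)
    obtain ⟨e2⟩ := SLThreeMain.quotEquiv hM.le (SLThreeMain.subnormal_sup hKC (h.hyp.sub K hK))
    have h3 := SLThreeMain.map_sup_eq hKC
    exact ⟨(e2.trans (MulEquiv.subgroupCongr h3)).trans (e1.symm.trans e)⟩
  -- covered
  have hOO : OO (K ⊔ O (zz K)) = O (zz K) := by
    apply le_antisymm
    · have hle : K ⊔ O (zz K) ≤ centralizer {zz K} := hM.le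
      rintro _ ⟨x, hx, rfl⟩
      exact (SLThreeMain.mem_oddCore_iff hle (SLThreeMain.subnormal_sup hKC (h.hyp.sub K hK)) x).1 hx
    · exact le_OO hM.hO (hM.le.trans (cent_le _)) (odd_O _)
  have hcov0 : K ⊔ O (zz K) ∈ SubCent.cov (cls (K ⊔ O (zz K))) L := by
    refine ⟨hself, ?_⟩
    rw [hOO]
    -- the elements `x` with `x * o ∈ L` for some `o ∈ O(C(z))` form a subgroup of `C(z)`
    let E : Subgroup G :=
      { carrier := {x | x ∈ centralizer {zz K} ∧ ∃ o ∈ O (zz K), x * o ∈ L}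
        one_mem' := ⟨one_mem _, 1, one_mem _, by rw [one_mul]; exact one_mem _⟩
        mul_mem' := by
          rintro a b ⟨ha, o, ho, hao⟩ ⟨hb, o', ho', hbo⟩
          refine ⟨mul_mem ha hb, (b⁻¹ * o * b) * o', mul_mem ?_ ho', ?_⟩
          · have h2 := (mem_normalizer_iff.1 (cent_le (zz K) (inv_mem hb)) o).1 ho
            rwa [inv_inv] at h2
          · have e1 : a * b * (b⁻¹ * o * b * o') = (a * o) * (b * o') := by group
            rw [e1]; exact mul_mem hao hbo
        inv_mem' := by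
          rintro a ⟨ha, o, ho, hao⟩
          refine ⟨inv_mem ha, a * o⁻¹ * a⁻¹, ?_, ?_⟩
          · exact (mem_normalizer_iff.1 (cent_le (zz K) ha) _).1 (inv_mem ho)
          · have e1 : a⁻¹ * (a * o⁻¹ * a⁻¹) = (a * o)⁻¹ := by group
            rw [e1]; exact inv_mem hao }
    have hE : K ⊔ O (zz K) ≤ E := by
      refine sup_le (fun k hk => ⟨hKC hk, hcov k hk⟩) fun o ho => ⟨O_le _ ho, o⁻¹, inv_mem ho, ?_⟩
      rw [mul_inv_cancel]; exact one_mem _
    intro k hk
    exact (hE hk).2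
  refine ⟨⟨hyp, ?_, ?_, ?_, h.normal, h.simple, h.nab, h.cent, hne, ?_, h.ind⟩, hzz⟩
  · rintro _ ⟨g, rfl⟩
    exact RdOm.isT_cj g |>.2 hT0
  · rintro _ ⟨g, rfl⟩
    have h1 := hM.cj g
    have h2 : zz (cj g (K ⊔ O (zz K))) = g * zz K * g⁻¹ := by rw [hyp.zz_cj hself g, hzz]
    rwa [← h2] at h1
  · rintro _ ⟨g, rfl⟩ _ ⟨k, rfl⟩
    refine ⟨k * g⁻¹, ?_⟩
    rw [← cj_mul]
    congr 1
    group
  · rintro _ ⟨g, rfl⟩
    have hLn : L.Normal := h.normal
    have hg : g ∈ normalizer (L : Set G) := by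
      rw [normalizer_eq_top]; trivial
    exact cj_mem_cov_of_mem (fun A hA g => cj_mem_cls hA g) hg hcov0

end

namespace CCHyp

variable [Finite G] (h : CCHyp Om L) {K K' : Subgroup G}
include h

theorem isType (hK : K ∈ Om) : IsType K := Ty.isType (Or.inl (h.isT K hK))

theorem hyp_restrX : Hyp (restrX Om L) := SubCent.hyp_restrX h.hyp L

theorem isT_restrX {J : Subgroup L} (hJ : J ∈ restrX Om L) : SolvTwo.IsT J := by
  obtain ⟨K, hK, rfl⟩ := hJ
  obtain ⟨e⟩ := h.isT K hK.1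
  exact ⟨(SubCent.quotEquiv hK).trans e⟩

theorem mem_restr (hK : K ∈ Om) : K.subgroupOf L ∈ restrX Om L := ⟨K, h.cov K hK, rfl⟩

/-- **T(L)** -/
theorem hasPieces (hK : K ∈ Om) : HasPieces (restrX Om L) := by
  have h1 := RdOm.tt_of_lt h.hyp (fun K hK => h.isType hK) (Uni.of_conj h.cls) h.ind h.ne_top
  rw [RdOm.OmIn_eq, RdOm.rd_image_eq (fun J hJ => Or.inl (h.isT_restrX hJ))] at h1
  exact (tt_iff_hasPieces h.hyp_restrX (h.core_bot hK le_rfl)).1 h1

/-- `L` is not a member -/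
theorem top_not_mem : (⊤ : Subgroup L) ∉ restrX Om L := by
  rintro ⟨K, hK, hKL⟩
  have hz := h.zzL hK.1
  have hle : L ≤ K := by
    have h1 : K.subgroupOf L = ⊤ := hKL
    exact subgroupOf_eq_top.1 h1
  have h1 : zz K ∈ centralizer (L : Set G) := by
    rw [mem_centralizer_iff]
    intro x hx
    exact h.hyp.comm_zz hK.1 (le_normalizer (hle hx))
  rw [h.cent, mem_bot] at h1
  exact h.hyp.zz_ne hK.1 h1

/-- the piece of a member is `L` -/
theorem pc_eq_top (hK : K ∈ Om) : pc (restrX Om L) (K.subgroupOf L) = ⊤ := by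
  haveI := h.simple
  have hOm := h.hyp_restrX
  have hn : (pc (restrX Om L) (K.subgroupOf L)).Normal := by
    have h1 : (sSup (restrX Om L)).Normal := by
      constructor
      intro x hx g
      have h2 : cj g (sSup (restrX Om L)) ≤ sSup (restrX Om L) := by
        rw [Cit.cj_le_iff]
        refine sSup_le fun J hJ => ?_
        rw [← Cit.cj_le_iff]
        exact le_sSup (hOm.conj J hJ g)
      exact h2 (conj_mem_cj hx)
    have h2 : sSup (restrX Om L) = ⊤ := by
      rcases h1.eq_bot_or_eq_top with h3 | h3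
      · exfalso
        have h4 : (⟨zz K, h.zzL hK⟩ : L) ∈ sSup (restrX Om L) :=
          le_sSup (h.mem_restr hK) (show zz K ∈ K from h.hyp.zz_mem hK)
        rw [h3, mem_bot] at h4
        exact h.hyp.zz_ne hK (congrArg Subtype.val h4)
      · exact h3
    have h3 := sSup_le_normalizer_pc (h.mem_restr hK)
    rw [h2, top_le_iff] at h3
    exact normalizer_eq_top_iff.1 h3
  rcases hn.eq_bot_or_eq_top with h3 | h3
  · exfalso
    have h4 : (⟨zz K, h.zzL hK⟩ : L) ∈ pc (restrX Om L) (K.subgroupOf L) :=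
      le_pc (show zz K ∈ K from h.hyp.zz_mem hK)
    rw [h3, mem_bot] at h4
    exact h.hyp.zz_ne hK (congrArg Subtype.val h4)
  · exact h3

/-- `L` is a piece -/
theorem piece (hK : K ∈ Om) : Piece (restrX Om L) (⊤ : Subgroup L) := by
  have h1 := (h.hasPieces hK).piece h.hyp_restrX (h.mem_restr hK)
  rwa [h.pc_eq_top hK] at h1

omit [Finite G] h in
/-- the family of the traces in `G` -/
def _root_.Cfsg.Agent.Cit.QTwo.CC.OmL (Om : Set (Subgroup G)) (L : Subgroup G) : Set (Subgroup G) :=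
  img L.subtype (restrX Om L)

theorem mem_OmL {J : Subgroup G} : J ∈ OmL Om L ↔ ∃ K ∈ Om, J = K ⊓ L := by
  constructor
  · rintro ⟨_, ⟨K, hK, rfl⟩, rfl⟩
    exact ⟨K, hK.1, subgroupOf_map_subtype K L⟩
  · rintro ⟨K, hK, rfl⟩
    exact ⟨_, h.mem_restr hK, subgroupOf_map_subtype K L⟩

/-- `L` is a piece for the family of the traces -/
theorem piece' (hK : K ∈ Om) : Piece (OmL Om L) L := by
  have h1 := (h.piece hK).map' h.hyp_restrX L.subtype L.subtype_injective
    (Om' := OmL Om L) (fun K _ => (mem_img_iff L.subtype_injective).symm)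
  rwa [← MonoidHom.range_eq_map, range_subtype] at h1

theorem not_mem_OmL : L ∉ OmL Om L := by
  rintro ⟨J, hJ, hJL⟩
  apply h.top_not_mem
  have : J = ⊤ := by
    apply Subgroup.map_injective L.subtype_injective
    rw [hJL, ← MonoidHom.range_eq_map, range_subtype]
  rwa [this] at hJ

theorem zz_inf (hK : K ∈ Om) : zz (K ⊓ L) = zz K := SubCent.zz_inf h.hyp (h.cov K hK)

end CCHyp

end Cfsg.Agent.Cit.QTwo.CC
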