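import Cfsg.Agent.Cit.QTwo.CaseIType
import Cfsg.Agent.Cit.TwoP.WWEnd
import Cfsg.Agent.Cit.CoresCore

/-!
# Case (I) of [Q2]: the set-up

`Dat Om phi`: `|Om(S)| = 2` with equal involutions, all members of type `SL₂(3)` with the linear character `phi`.
`f3`, `f6`: `z_K ∈ N(L)` implies `z_K = z_L`.
`Cfg`: two commuting involutions `z_K ≠ z_J` of members, Sylow 2-subgroups `T ≤ S, S'` of `C(z, y)`, `C(z)`, `C(y)`.
`Fr`: a configuration with `{x x^y : x ∈ K ⊓ S} = {x x^z : x ∈ J ⊓ S'}`.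
-/

set_option autoImplicit false
set_option linter.style.haveILetI false
set_option linter.unusedSectionVars false
set_option linter.unusedVariables false

namespace Cfsg.Agent.Cit.QTwo.CI

open Subgroup Cfsg Cit OneBasic SolvTwo TwoFK Cfsg.Agent.Cit.TwoP

variable {G : Type*} [Group G] [Finite G] {Om : Set (Subgroup G)} {A : Type*} [CommGroup A] {phi : G →* A}

/-- the data of case (I) -/
structure Dat (Om : Set (Subgroup G)) (phi : G →* A) : Prop where
  b : TwoEq Om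
  ft : ∀ K ∈ Om, FT phi K
  xphi : ∀ K ∈ Om, ∀ x ∈ XX (zz K), phi x = 1

namespace Dat

variable (d : Dat Om phi) {K K' L J J' Q : Subgroup G}

include d

theorem hyp : Hyp Om := d.b.hyp

theorem ty (hK : K ∈ Om) : IsT K := (d.ft K hK).ty

theorem zz_mem_syl (hK : K ∈ Om) (hQ : Syl Q K) : zz K ∈ Q := by
  obtain ⟨c, v, n, hc⟩ := d.hyp.exists_gq hK hQ
  exact hc.z_mem

theorem qz (hK : K ∈ Om) (hQ : Syl Q K) : QZ K Q (zz K) :=
  ⟨d.ty hK, hQ, d.zz_mem_syl hK hQ, d.hyp.zz_ne hK, d.hyp.zz_mul hK⟩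

/-- a 2-element `g ∈ N(K) ∩ N(Q)` acts on `Q` as an element of `Q` -/
theorem f1 (hK : K ∈ Om) (hQ : Syl Q K) {g : G} (hgK : g ∈ normalizer (K : Set G))
    (hgQ : g ∈ normalizer (Q : Set G)) (hg2 : IsPGroup 2 (zpowers g)) :
    ∃ x ∈ Q, ∀ q ∈ Q, g * q * g⁻¹ = x * q * x⁻¹ := (d.ft K hK).f_one hQ hgK hgQ hg2

/-- the square of a 2-element of `N(K)` is `⊥ K` -/
theorem perp_sq (hK : K ∈ Om) {g : G} (hgK : g ∈ normalizer (K : Set G)) (hg2 : IsPGroup 2 (zpowers g)) :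
    Perp (g * g) K := by
  obtain ⟨Q, hQ, hgQ⟩ := exists_syl_normalized hg2 (zpowers_le.2 hgK)
  obtain ⟨x, hx, hx'⟩ := d.f1 hK hQ hgK (zpowers_le.1 hgQ) hg2
  refine ⟨isP_of_mem hg2 (mul_mem (mem_zpowers g) (mem_zpowers g)), mul_mem hgK hgK, Q, hQ, fun q hq => ?_⟩
  have hz := d.qz hK hQ
  have h1 : g * g * q * (g * g)⁻¹ = q := by
    have h2 : x * q * x⁻¹ ∈ Q := Q.mul_mem (Q.mul_mem hx hq) (Q.inv_mem hx)
    calc g * g * q * (g * g)⁻¹ = g * (g * q * g⁻¹) * g⁻¹ := by group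
      _ = x * (x * q * x⁻¹) * x⁻¹ := by rw [hx' q hq, hx' _ h2]
      _ = (x * x) * q * (x * x)⁻¹ := by group
      _ = q := by
          rcases hz.sq_or hx with h3 | h3
          · rw [h3]; group
          · rw [h3, (d.hyp.comm_zz hK (le_normalizer (hQ.1 hq))).symm, mul_inv_cancel_right]
  rwa [mul_inv_eq_iff_eq_mul] at h1

/-- the elements of `Q` of order 4 -/
theorem exists_four (hK : K ∈ Om) (hQ : Syl Q K) : ∃ x ∈ Q, x * x = zz K := by
  obtain ⟨i, hi, -, -, h, -⟩ := (d.qz hK hQ).exists_ij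
  exact ⟨i, hi, h⟩

theorem orderOf_four (hK : K ∈ Om) {x : G} (hx : x * x = zz K) : orderOf x = 4 :=
  GQ.orderOf_of_sq hx (d.hyp.zz_mul hK) (d.hyp.zz_ne hK)

/-- `(H3)` -/
theorem mem_of_four (hK : K ∈ Om) (hL : L ∈ Om) {x : G} (hx : x ∈ K) (hxx : x * x = zz K)
    (hc : x * zz L = zz L * x) : x ∈ normalizer (L : Set G) := by
  have h1 := d.orderOf_four hK hxx
  refine d.hyp.h3 K hK L hL x hx ?_ (by rw [h1]) hc
  exact isP_iff.2 ⟨2, by rw [show (2 : ℕ) ^ 2 = 4 from rfl, ← h1, pow_orderOf_eq_one]⟩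

/-- `(H3)` with `zz K ∈ N(L)` -/
theorem zz_mem_of_four (hK : K ∈ Om) (hL : L ∈ Om) {x : G} (hx : x ∈ K) (hxx : x * x = zz K)
    (hc : x * zz L = zz L * x) : zz K ∈ normalizer (L : Set G) := by
  rw [← hxx]
  exact mul_mem (d.mem_of_four hK hL hx hxx hc) (d.mem_of_four hK hL hx hxx hc)

/-- **(F6)** `z_K ∈ N(L)` implies `z_K = z_L` -/
theorem f6 (hK : K ∈ Om) (hL : L ∈ Om) (h : zz K ∈ normalizer (L : Set G)) : zz K = zz L := by
  -- `z_K ⊥ L` suffices
  have key : ∀ K ∈ Om, ∀ L ∈ Om, Perp (zz K) L → zz K = zz L := by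
    intro K hK L hL hp
    obtain ⟨h1, h2, Q, hQ, h3⟩ := hp
    exact d.b.zz_eq_of_cent hL hK hQ h3
  have hp : IsPGroup 2 (zpowers (zz K)) := isP_of_sq (d.hyp.zz_mul hK)
  obtain ⟨Q, hQ, hzQ⟩ := exists_syl_normalized hp (zpowers_le.2 h)
  have hzQ := zpowers_le.1 hzQ
  obtain ⟨x, hx, hx'⟩ := d.f1 hL hQ h hzQ hp
  have hq := d.qz hL hQ
  by_cases h4 : x * x = zz L
  · -- `x` of order 4 commutes with `z_K`
    have h5 : x * zz K = zz K * x := by
      have h6 := hx' x hx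
      rw [mul_inv_cancel_right, mul_inv_eq_iff_eq_mul] at h6
      exact h6.symm
    have h7 := d.mem_of_four hL hK (hQ.1 hx) h4 h5
    have h8 := d.perp_sq hK h7 (isP_of_mem hQ.2.1 hx)
    rw [h4] at h8
    exact (key L hL K hK h8).symm
  · have h5 : x = 1 ∨ x = zz L := hq.eq_or hx ((hq.sq_or hx).resolve_right h4)
    refine key K hK L hL ⟨hp, h, Q, hQ, fun q hq' => ?_⟩
    have h6 := hx' q hq'
    have h7 : x * q * x⁻¹ = q := by
      rcases h5 with h5 | h5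
      · rw [h5]; group
      · rw [h5, (d.hyp.comm_zz hL (le_normalizer (hQ.1 hq'))).symm, mul_inv_cancel_right]
    rw [h7, mul_inv_eq_iff_eq_mul] at h6
    exact h6

/-- commuting different involutions of members: swap -/
theorem swap (mJ : Mate Om J J') (hK : K ∈ Om) (hne : zz K ≠ zz J) (hc : zz K * zz J = zz J * zz K) :
    cj (zz K) J = J' :=
  (d.b.norm_or mJ hc).resolve_left fun h => hne (d.f6 hK mJ.hK h)

end Dat

/-- two commuting involutions of members -/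
structure Cfg (Om : Set (Subgroup G)) (K K' J J' T S S' : Subgroup G) : Prop where
  mK : Mate Om K K'
  mJ : Mate Om J J'
  ne : zz K ≠ zz J
  comm : zz K * zz J = zz J * zz K
  hT : Syl T (centralizer {zz K} ⊓ centralizer {zz J})
  hS : Syl S (centralizer {zz K})
  hS' : Syl S' (centralizer {zz J})
  TS : T ≤ S
  TS' : T ≤ S'

/-- a configuration with coordinates: `i, j` generate `K ⊓ S`, `p, q` generate `J ⊓ S'`, `i i^y = p p^z`, `j j^y = q q^z` -/
structure Fr (Om : Set (Subgroup G)) (K K' J J' T S S' : Subgroup G) (i j p q : G) : Prop extends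
    Cfg Om K K' J J' T S S' where
  hi : i ∈ K ⊓ S
  hj : j ∈ K ⊓ S
  hp : p ∈ J ⊓ S'
  hq : q ∈ J ⊓ S'
  i2 : i * i = zz K
  j2 : j * j = zz K
  ji : j ≠ i
  ji' : j ≠ zz K * i
  p2 : p * p = zz J
  q2 : q * q = zz J
  qp : q ≠ p
  qp' : q ≠ zz J * p
  ip : i * (zz J * i * (zz J)⁻¹) = p * (zz K * p * (zz K)⁻¹)
  jq : j * (zz J * j * (zz J)⁻¹) = q * (zz K * q * (zz K)⁻¹)

namespace Cfg

variable {K K' J J' T S S' : Subgroup G}

theorem symm (c : Cfg Om K K' J J' T S S') : Cfg Om J J' K K' T S' S :=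
  ⟨c.mJ, c.mK, c.ne.symm, c.comm.symm, by rw [inf_comm]; exact c.hT, c.hS', c.hS, c.TS', c.TS⟩

/-- exchange `K` and its mate -/
theorem mate (c : Cfg Om K K' J J' T S S') : Cfg Om K' K J J' T S S' :=
  ⟨c.mK.symm, c.mJ, by rw [← c.mK.zz]; exact c.ne, by rw [← c.mK.zz]; exact c.comm,
    by rw [← c.mK.zz]; exact c.hT, by rw [← c.mK.zz]; exact c.hS, c.hS', c.TS, c.TS'⟩

theorem hSt (d : Dat Om phi) (c : Cfg Om K K' J J' T S S') : Syl S ⊤ := d.b.syl_top c.mK.hK c.hS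

/-- a 2-element central in `C` lies in the Sylow 2-subgroups -/
theorem mem_of_central {C R : Subgroup G} (hR : Syl R C) {a : G} (ha : a ∈ C) (ha2 : IsPGroup 2 (zpowers a))
    (hc : ∀ x ∈ C, x * a = a * x) : a ∈ R := by
  have h1 : zpowers a ≤ R := by
    refine syl_le_of_normalizes hR ha2 (zpowers_le.2 ha) ?_
    intro x hx
    apply mem_normalizer_of_cent
    rintro _ ⟨k, rfl⟩
    exact ((show Commute x a from hc x (hR.1 hx)).zpow_right k).eq
  exact h1 (mem_zpowers _)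

theorem zmem_T (d : Dat Om phi) (c : Cfg Om K K' J J' T S S') : zz K ∈ T := by
  refine mem_of_central c.hT ⟨mem_centralizer_singleton_iff.2 rfl, mem_centralizer_singleton_iff.2 c.comm⟩
    (isP_of_sq (d.hyp.zz_mul c.mK.hK)) ?_
  intro x hx
  exact mem_centralizer_singleton_iff.1 hx.1

theorem ymem_T (d : Dat Om phi) (c : Cfg Om K K' J J' T S S') : zz J ∈ T := c.symm.zmem_T d

theorem comm_T (c : Cfg Om K K' J J' T S S') {x : G} (hx : x ∈ T) : x * zz K = zz K * x ∧ x * zz J = zz J * x :=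
  ⟨mem_centralizer_singleton_iff.1 (c.hT.1 hx).1, mem_centralizer_singleton_iff.1 (c.hT.1 hx).2⟩

theorem comm_S (c : Cfg Om K K' J J' T S S') {x : G} (hx : x ∈ S) : x * zz K = zz K * x :=
  mem_centralizer_singleton_iff.1 (c.hS.1 hx)

/-- `T = C_S(y)` -/
theorem mem_T (c : Cfg Om K K' J J' T S S') {x : G} (hx : x ∈ S) (hc : x * zz J = zz J * x) : x ∈ T := by
  have h1 : T = S ⊓ centralizer {zz J} := by
    refine syl_eq_of_le c.hT (c.hS.2.1.to_le inf_le_left) (inf_le_inf_right _ c.hS.1) ?_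
    exact le_inf c.TS (c.hT.1.trans inf_le_right)
  rw [h1]
  exact ⟨hx, mem_centralizer_singleton_iff.2 hc⟩

theorem sylK (d : Dat Om phi) (c : Cfg Om K K' J J' T S S') : Syl (K ⊓ S) K := d.b.syl_inf c.mK.hK c.hS

theorem sylK' (d : Dat Om phi) (c : Cfg Om K K' J J' T S S') : Syl (K' ⊓ S) K' := c.mate.sylK d

/-- `y` exchanges `K` and `K'` -/
theorem swapK (d : Dat Om phi) (c : Cfg Om K K' J J' T S S') : cj (zz J) K = K' :=
  d.swap c.mK c.mJ.hK c.ne.symm c.comm.symm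

theorem swapJ (d : Dat Om phi) (c : Cfg Om K K' J J' T S S') : cj (zz K) J = J' := c.symm.swapK d

/-- `Q₂ = Q₁ ^ y` -/
theorem cj_inf_S (d : Dat Om phi) (c : Cfg Om K K' J J' T S S') : cj (zz J) (K ⊓ S) = K' ⊓ S := by
  rw [cj_inf, c.swapK d, mem_normalizer_iff_cj.1 (le_normalizer (c.TS (c.ymem_T d)))]

theorem conj_mem (d : Dat Om phi) (c : Cfg Om K K' J J' T S S') {x : G} (hx : x ∈ K ⊓ S) :
    zz J * x * (zz J)⁻¹ ∈ K' ⊓ S := by
  rw [← c.cj_inf_S d]; exact conj_mem_cj hx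

/-- the two Sylow subgroups commute -/
theorem commQ (d : Dat Om phi) (c : Cfg Om K K' J J' T S S') {a b : G} (ha : a ∈ K ⊓ S) (hb : b ∈ K' ⊓ S) :
    a * b = b * a := c.mK.comm d.hyp c.hS.2.1 ha.1 ha.2 hb.1 hb.2

/-- the square of the involution `y` -/
theorem yy (d : Dat Om phi) (c : Cfg Om K K' J J' T S S') : zz J * zz J = 1 := d.hyp.zz_mul c.mJ.hK

/-- **(I1)** no member is centralised by `x x^y` -/
theorem not_perp (d : Dat Om phi) (c : Cfg Om K K' J J' T S S') {x : G} (hx : x ∈ K ⊓ S) (hxx : x * x = zz K)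
    {M : Subgroup G} (hM : M ∈ Om) : ¬ Perp (x * (zz J * x * (zz J)⁻¹)) M := by
  intro hp
  obtain ⟨x', hx'⟩ : ∃ x', x' = zz J * x * (zz J)⁻¹ := ⟨_, rfl⟩
  have hx'm : x' ∈ K' ⊓ S := by rw [hx']; exact c.conj_mem d hx
  rw [← hx'] at hp
  have hcm : x * x' = x' * x := c.commQ d hx hx'm
  obtain ⟨hp1, hp2, Q, hQ, hc⟩ := hp
  have hxt : x * (x * x') = (x * x') * x := by rw [mul_assoc, ← hcm]
  -- a Sylow 2-subgroup of `C(t)` containing `x`
  obtain ⟨R, hR, hxR⟩ := OneBasic.exists_syl_ge (A := zpowers x) (M := centralizer {x * x'})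
    (isP_of_mem c.hS.2.1 hx.2) (by rw [zpowers_le, mem_centralizer_singleton_iff]; exact hxt)
  obtain ⟨g, hg, hgR⟩ := OneF.exists_conj_le (A := Q) hR hQ.2.1 (by
    intro a ha; rw [mem_centralizer_singleton_iff]; exact (hc a ha).symm)
  have hM' := d.hyp.conj M hM g
  have hQ' : Syl (cj g Q) (cj g M) := hQ.cj g
  have hRz := le_centralizer_zz d.b hM' hQ' hgR hR.2.1
  have h1 : x * zz (cj g M) = zz (cj g M) * x :=
    mem_centralizer_singleton_iff.1 (hRz (hxR (mem_zpowers x)))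
  have h2 := d.zz_mem_of_four c.mK.hK hM' hx.1 hxx h1
  have h3 := d.f6 c.mK.hK hM' h2
  have hp' : Perp (x * x') (cj g M) := by
    have h4 : Perp (x * x') M := ⟨hp1, hp2, Q, hQ, hc⟩
    exact h4.cj_comm hg
  have hSx : x * x' ∈ S := S.mul_mem hx.2 hx'm.2
  have hq := d.qz c.mK.hK (c.sylK d)
  -- an element of `Q₁` not commuting with `x`
  have key : ∀ (K K' : Subgroup G), Cfg Om K K' J J' T S S' → ∀ x x', x ∈ K ⊓ S → x * x = zz K → x' ∈ K' ⊓ S →
      ¬ Perp (x * x') K := by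
    intro K K' c x x' hx hxx hx' hp
    have hq := d.qz c.mK.hK (c.sylK d)
    have h5 : x * x' ∈ normalizer ((K ⊓ S : Subgroup G) : Set G) := by
      rw [mem_normalizer_iff_cj, cj_inf, mem_normalizer_iff_cj.1 hp.mem,
        mem_normalizer_iff_cj.1 (le_normalizer (S.mul_mem hx.2 hx'.2))]
    have h6 := hp.cent d.hyp c.mK.hK (c.sylK d) h5
    obtain ⟨i, hi, j, hj, hi2, hj2, hji, hji'⟩ := hq.exists_ij
    have h7 : ∀ a ∈ K ⊓ S, x * a = a * x := by
      intro a ha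
      have h8 := h6 a ha
      rw [mul_assoc, ← c.commQ d ha hx', ← mul_assoc, ← mul_assoc] at h8
      exact mul_right_cancel h8
    -- `x` is central in `Q`
    have h9 : ∀ a ∈ K ⊓ S, a * a = zz K → a = x ∨ a = zz K * x := by
      intro a ha haa
      by_contra hcon
      push Not at hcon
      have h10 := hq.anti hx ha hxx haa hcon.1 hcon.2
      rw [h7 a ha] at h10
      exact hq.ne (by
        have := mul_right_cancel (b := a * x) (a := (1 : G)) (c := zz K) (by rw [one_mul]; exact h10)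
        exact this.symm)
    rcases h9 i hi hi2 with h10 | h10 <;> rcases h9 j hj hj2 with h11 | h11
    · exact hji (h11.trans h10.symm)
    · exact hji' (by rw [h11, h10])
    · exact hji' (by rw [h11, h10, ← mul_assoc, hq.sq, one_mul])
    · exact hji (h11.trans h10.symm)
  rcases d.b.eq_or c.mK hM' h3.symm with h4 | h4
  · rw [h4] at hp'
    exact key K K' c x x' hx hxx hx'm hp'
  · rw [h4, hcm] at hp'
    refine key K' K c.mate x' x hx'm ?_ hx hp'
    rw [hx', ← c.mK.zz]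
    calc zz J * x * (zz J)⁻¹ * (zz J * x * (zz J)⁻¹) = zz J * (x * x) * (zz J)⁻¹ := by group
      _ = zz K := by rw [hxx, ← c.comm, mul_inv_cancel_right]

end Cfg

end Cfsg.Agent.Cit.QTwo.CI
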