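import Cfsg.Agent.Cit.QTwo.NnK

/-!
# R18, leaf [Q2], part (N): the situation, classes of 2-elements, the faithful action

`NW Om` : what is used from the World ((F1), (F3), (KL), (F6) of helper149's text).
`Mv Om S y` : `y = zz J ∈ S` moves all members of `Om(S)`.
`vv y q = q * (y * q * y⁻¹)`.
-/

set_option autoImplicit false
set_option linter.unusedSectionVars false

namespace Cfsg.Agent.Cit.QTwo.NnMove

open Subgroup Cfsg Cfsg.Agent.Cit SolvTwo AutAct NnK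

variable {G : Type*} [Group G]

/-- the facts from the World used in part (N) -/
structure NW (Om : Set (Subgroup G)) : Prop where
  hyp : Hyp Om
  ty : ∀ K ∈ Om, IsT K
  cls : ∀ K ∈ Om, ∀ J ∈ Om, ∃ g, J = cj g K
  f1 : ∀ K ∈ Om, ∀ Q, Syl Q K → ∀ g ∈ normalizer (K : Set G), IsPGroup 2 (zpowers g) →
    ∃ q ∈ Q, Triv (q⁻¹ * g) K
  f3 : ∀ K ∈ Om, ∀ J ∈ Om, zz J ∈ normalizer (K : Set G) → zz K ∈ normalizer (J : Set G)
  kl : ∀ (S : Sylow 2 G), ∀ v ∈ DD Om (S : Subgroup G), v * v = 1 → v ≠ 1 → ∀ K ∈ OmS Om (S : Subgroup G),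
    (∀ x ∈ K ⊓ (S : Subgroup G), v * x = x * v) → ∀ J ∈ Om, v ∈ normalizer (J : Set G) → Triv v J → zz J ∈ S →
      zz J ∈ normalizer (K : Set G)
  f6 : ∀ (S : Sylow 2 G), ∀ K ∈ OmS Om (S : Subgroup G), ∀ J ∈ Om, zz J ∈ S → zz J ∈ normalizer (K : Set G) →
    ∃ K' ∈ OmS Om (S : Subgroup G), zz K' = zz J

/-! ### trivial action -/

section Triv

variable {J : Subgroup G}

theorem triv_mul {a b : G} (ha : a ∈ normalizer (J : Set G)) (hb : b ∈ normalizer (J : Set G)) (h1 : Triv a J)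
    (h2 : Triv b J) : Triv (a * b) J := by
  rw [← act_eq_one_iff (mul_mem ha hb)]
  have h3 : (⟨a * b, mul_mem ha hb⟩ : ↥(normalizer (J : Set G))) = ⟨a, ha⟩ * ⟨b, hb⟩ := rfl
  rw [h3, map_mul, (act_eq_one_iff ha).2 h1, (act_eq_one_iff hb).2 h2, one_mul]

theorem triv_inv {a : G} (ha : a ∈ normalizer (J : Set G)) (h1 : Triv a J) : Triv a⁻¹ J := by
  rw [← act_eq_one_iff (inv_mem ha)]
  have h3 : (⟨a⁻¹, inv_mem ha⟩ : ↥(normalizer (J : Set G))) = (⟨a, ha⟩ : ↥(normalizer (J : Set G)))⁻¹ := rfl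
  rw [h3, map_inv, (act_eq_one_iff ha).2 h1, inv_one]

theorem triv_pow {a : G} (ha : a ∈ normalizer (J : Set G)) (h1 : Triv a J) (n : ℕ) : Triv (a ^ n) J := by
  rw [← act_eq_one_iff (pow_mem ha n)]
  have h3 : (⟨a ^ n, pow_mem ha n⟩ : ↥(normalizer (J : Set G))) = (⟨a, ha⟩ : ↥(normalizer (J : Set G))) ^ n := rfl
  rw [h3, map_pow, (act_eq_one_iff ha).2 h1, one_pow]

theorem triv_conj {a d : G} (ha : a ∈ normalizer (J : Set G)) (hd : d ∈ normalizer (J : Set G)) (h1 : Triv a J) :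
    Triv (d * a * d⁻¹) J := by
  have hm : d * a * d⁻¹ ∈ normalizer (J : Set G) := mul_mem (mul_mem hd ha) (inv_mem hd)
  rw [← act_eq_one_iff hm]
  have h3 : (⟨d * a * d⁻¹, hm⟩ : ↥(normalizer (J : Set G))) = ⟨d, hd⟩ * ⟨a, ha⟩ * (⟨d, hd⟩ : ↥(normalizer (J : Set G)))⁻¹ := rfl
  rw [h3, map_mul, map_mul, map_inv, (act_eq_one_iff ha).2 h1, mul_one, mul_inv_cancel]

theorem triv_of_OO {u : G} (hu : u ∈ OO J) : Triv u J := by
  intro k hk
  have h1 := (mem_normalizer_iff.1 (le_normalizer_OO J hk) _).1 (inv_mem hu)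
  have h2 : u * k * u⁻¹ * k⁻¹ = u * (k * u⁻¹ * k⁻¹) := by group
  rw [h2]
  exact mul_mem hu h1

theorem triv_of_comm {u : G} (hu : ∀ k ∈ J, u * k = k * u) : Triv u J := by
  intro k hk
  rw [hu k hk, mul_inv_cancel_right, mul_inv_cancel]
  exact one_mem _

end Triv

/-- an involution among the powers of a 2-element -/
theorem exists_inv_pow {w : G} {n : ℕ} (hn : w ^ 2 ^ n = 1) (hw : w ≠ 1) :
    ∃ j : ℕ, w ^ 2 ^ j ≠ 1 ∧ w ^ 2 ^ j * w ^ 2 ^ j = 1 := by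
  classical
  have hex : ∃ n, w ^ 2 ^ n = 1 := ⟨n, hn⟩
  have h0 : Nat.find hex ≠ 0 := by
    intro h
    have := Nat.find_spec hex
    rw [h, pow_zero, pow_one] at this
    exact hw this
  obtain ⟨j, hj⟩ := Nat.exists_eq_succ_of_ne_zero h0
  refine ⟨j, Nat.find_min hex (by omega), ?_⟩
  have := Nat.find_spec hex
  rw [hj, Nat.succ_eq_add_one, pow_succ, pow_mul, pow_two] at this
  exact this

theorem isP_zpowers_of {w : G} {S : Subgroup G} (hS : IsPGroup 2 S) (hw : w ∈ S) : IsPGroup 2 (zpowers w) :=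
  hS.to_le (zpowers_le.2 hw)

/-! ### classes of 2-elements of `N(J)` -/

/-- representatives of the Sylow 2-subgroup of `SL₂(3)` modulo its centre -/
def rep : Fin 4 → X := ![1, iX, jX, iX * jX]

set_option maxRecDepth 100000 in
theorem X_rep : ∀ p : X, Two p → ∃ i, p = rep i ∨ p = rep i * zX := by decide +kernel

set_option maxRecDepth 100000 in
theorem X_rep_two : ∀ i, Two (rep i) := by decide +kernel

set_option maxRecDepth 100000 in
theorem X_rep_inj : ∀ i j, ((rep i)⁻¹ * rep j = 1 ∨ (rep i)⁻¹ * rep j = zX) → i = j := by decide +kernel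

/-- `g` acts on `J / O(J)` as `r ∈ SL₂(3)` -/
def Acts (J : Subgroup G) (f : J →* X) (g : G) (r : X) : Prop :=
  ∃ x, ∃ hx : x ∈ J, f ⟨x, hx⟩ = r ∧ Triv (x⁻¹ * g) J

variable {Om : Set (Subgroup G)}

theorem exists_acts [Finite G] (w : NW Om) {J : Subgroup G} (hJ : J ∈ Om) {f : J →* X} (hf : FX J f) {g : G}
    (hg : g ∈ normalizer (J : Set G)) (h2 : IsPGroup 2 (zpowers g)) : ∃ i, Acts J f g (rep i) := by
  obtain ⟨Q, hQ⟩ := Hyp.exists_syl J
  obtain ⟨x, hx, hT⟩ := w.f1 J hJ Q hQ g hg h2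
  have hxJ : x ∈ J := hQ.1 hx
  have hQJ : Q = J ⊓ Q := (inf_eq_right.2 hQ.1).symm
  obtain ⟨i, hi⟩ := X_rep _ (hf.two w.hyp hJ hQ.2.1 (x := x) ⟨hxJ, hx⟩)
  refine ⟨i, ?_⟩
  rcases hi with hi | hi
  · exact ⟨x, hxJ, hi, hT⟩
  · have hz := w.hyp.zz_mem hJ
    refine ⟨x * zz J, J.mul_mem hxJ hz, ?_, ?_⟩
    · have h3 : (⟨x * zz J, J.mul_mem hxJ hz⟩ : J) = ⟨x, hxJ⟩ * ⟨zz J, hz⟩ := rfl
      rw [h3, map_mul, hi, hf.zz w.hyp hJ, mul_assoc, X_rel.2.2.2.2.1, mul_one]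
    · rw [mul_inv_rev, mul_assoc]
      have h4 : zz J ∈ normalizer (J : Set G) := le_normalizer hz
      refine triv_mul (inv_mem h4) (mul_mem (inv_mem (le_normalizer hxJ)) hg) (triv_inv h4 ?_) hT
      apply triv_of_comm
      intro k hk
      exact (w.hyp.comm_zz hJ (le_normalizer hk)).symm

theorem triv_of_acts {J : Subgroup G} {f : J →* X} (hf : FX J f) {g g' : G} {r : X}
    (hg : g ∈ normalizer (J : Set G)) (hg' : g' ∈ normalizer (J : Set G)) (h : Acts J f g r) (h' : Acts J f g' r) :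
    Triv (g⁻¹ * g') J := by
  obtain ⟨x, hx, hfx, hT⟩ := h
  obtain ⟨x', hx', hfx', hT'⟩ := h'
  have hu : x⁻¹ * x' ∈ OO J := by
    rw [← hfx', hf.eq_iff] at hfx
    exact hfx
  have hxN : x ∈ normalizer (J : Set G) := le_normalizer hx
  have hxN' : x' ∈ normalizer (J : Set G) := le_normalizer hx'
  have h1 : g⁻¹ * g' = (x⁻¹ * g)⁻¹ * ((x⁻¹ * x') * (x'⁻¹ * g')) := by group
  rw [h1]
  have m1 : x⁻¹ * g ∈ normalizer (J : Set G) := mul_mem (inv_mem hxN) hg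
  have m2 : x'⁻¹ * g' ∈ normalizer (J : Set G) := mul_mem (inv_mem hxN') hg'
  have m3 : x⁻¹ * x' ∈ normalizer (J : Set G) := mul_mem (inv_mem hxN) hxN'
  exact triv_mul (inv_mem m1) (mul_mem m3 m2) (triv_inv m1 hT) (triv_mul m3 m2 (triv_of_OO hu) hT')

/-- squares of 2-elements of `N(J)` act trivially -/
theorem triv_sq [Finite G] (w : NW Om) {J : Subgroup G} (hJ : J ∈ Om) {g : G}
    (hg : g ∈ normalizer (J : Set G)) (h2 : IsPGroup 2 (zpowers g)) : Triv (g * g) J := by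
  obtain ⟨Q, hQ⟩ := Hyp.exists_syl J
  obtain ⟨x, hx, hT⟩ := w.f1 J hJ Q hQ g hg h2
  have hxJ : x ∈ J := hQ.1 hx
  obtain ⟨f, hf⟩ := exists_fx (w.ty J hJ)
  have hxN : x ∈ normalizer (J : Set G) := le_normalizer hxJ
  have m1 : x⁻¹ * g ∈ normalizer (J : Set G) := mul_mem (inv_mem hxN) hg
  have h1 : g * g = (x * x) * ((x⁻¹ * (x⁻¹ * g) * x) * (x⁻¹ * g)) := by group
  have hxx : Triv (x * x) J := by
    have h3 := hf.two w.hyp hJ hQ.2.1 (x := x) ⟨hxJ, hx⟩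
    have h4 : f ⟨x * x, J.mul_mem hxJ hxJ⟩ = 1 ∨ f ⟨x * x, J.mul_mem hxJ hxJ⟩ = f ⟨zz J, w.hyp.zz_mem hJ⟩ := by
      have h5 : f ⟨x * x, J.mul_mem hxJ hxJ⟩ = f ⟨x, hxJ⟩ * f ⟨x, hxJ⟩ := by rw [← map_mul]; rfl
      rw [h5, hf.zz w.hyp hJ]
      rcases h3 with h | h | h
      · exact Or.inr h
      · left; rw [h, one_mul]
      · left; rw [h]; exact X_rel.2.2.2.2.1
    rcases h4 with h4 | h4
    · rw [hf.ker] at h4
      exact triv_of_OO h4
    · rw [hf.eq_iff] at h4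
      have h5 : Triv ((x * x)⁻¹ * zz J) J := triv_of_OO h4
      have h6 : zz J ∈ normalizer (J : Set G) := le_normalizer (w.hyp.zz_mem hJ)
      have h7 : Triv (zz J) J := by
        apply triv_of_comm
        intro k hk
        exact (w.hyp.comm_zz hJ (le_normalizer hk)).symm
      have h8 : x * x = zz J * ((x * x)⁻¹ * zz J)⁻¹ := by rw [mul_inv_rev, inv_inv, mul_inv_cancel_left]
      rw [h8]
      have h9 : (x * x)⁻¹ * zz J ∈ normalizer (J : Set G) := mul_mem (inv_mem (mul_mem hxN hxN)) h6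
      exact triv_mul h6 (inv_mem h9) h7 (triv_inv h9 h5)
  rw [h1]
  have m2 : x⁻¹ * (x⁻¹ * g) * x ∈ normalizer (J : Set G) := mul_mem (mul_mem (inv_mem hxN) m1) hxN
  have h2' : Triv (x⁻¹ * (x⁻¹ * g) * x) J := by
    have := triv_conj m1 (inv_mem hxN) hT
    rwa [inv_inv] at this
  exact triv_mul (mul_mem hxN hxN) (mul_mem m2 m1) hxx (triv_mul m2 m1 h2' hT)

/-! ### the situation -/

/-- `y ∈ S` is `zz J` for some `J ∈ Om` and moves all members of `Om(S)` -/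
structure Mv (Om : Set (Subgroup G)) (S : Sylow 2 G) (y : G) : Prop where
  yS : y ∈ (S : Subgroup G)
  ex : ∃ J ∈ Om, zz J = y
  mv : ∀ K ∈ OmS Om (S : Subgroup G), cj y K ≠ K

/-- `q q^y` -/
def vv (y q : G) : G := q * (y * q * y⁻¹)

namespace Mv

variable [Finite G] {S : Sylow 2 G} {y : G}

theorem yy (m : Mv Om S y) (w : NW Om) : y * y = 1 := by
  obtain ⟨J, hJ, rfl⟩ := m.ex
  exact w.hyp.zz_mul hJ

theorem y_inv (m : Mv Om S y) (w : NW Om) : y⁻¹ = y := inv_eq_of_mul_eq_one_right (m.yy w)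

theorem cj_mem (m : Mv Om S y) (w : NW Om) {K : Subgroup G} (hK : K ∈ OmS Om (S : Subgroup G)) :
    cj y K ∈ OmS Om (S : Subgroup G) := cj_mem_OmS' w.hyp.conj (le_normalizer m.yS) hK

theorem cj_cj (m : Mv Om S y) (w : NW Om) (K : Subgroup G) : cj y (cj y K) = K := by
  rw [← cj_mul, m.yy w, cj_one]

theorem conj_mem (m : Mv Om S y) {K : Subgroup G} {q : G} (hq : q ∈ K ⊓ (S : Subgroup G)) :
    y * q * y⁻¹ ∈ cj y K ⊓ (S : Subgroup G) :=
  ⟨conj_mem_cj hq.1, (S : Subgroup G).mul_mem ((S : Subgroup G).mul_mem m.yS hq.2) ((S : Subgroup G).inv_mem m.yS)⟩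

theorem conj_mem' (m : Mv Om S y) (w : NW Om) {K : Subgroup G} {q : G} (hq : q ∈ cj y K ⊓ (S : Subgroup G)) :
    y * q * y⁻¹ ∈ K ⊓ (S : Subgroup G) := by
  have := m.conj_mem hq
  rwa [m.cj_cj w] at this

theorem conj_conj (m : Mv Om S y) (w : NW Om) (q : G) : y * (y * q * y⁻¹) * y⁻¹ = q := by
  have h1 : y * (y * q * y⁻¹) * y⁻¹ = (y * y) * q * (y * y)⁻¹ := by group
  rw [h1, m.yy w]; group

/-- members of `Om(S)` commute on `S` -/
theorem comm (_m : Mv Om S y) (w : NW Om) {K L : Subgroup G} (hK : K ∈ OmS Om (S : Subgroup G))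
    (hL : L ∈ OmS Om (S : Subgroup G)) (hne : K ≠ L) {a b : G} (ha : a ∈ K ⊓ (S : Subgroup G))
    (hb : b ∈ L ⊓ (S : Subgroup G)) : a * b = b * a := w.hyp.comm S.isPGroup' hK hL hne ha hb

theorem comm_conj (m : Mv Om S y) (w : NW Om) {K : Subgroup G} (hK : K ∈ OmS Om (S : Subgroup G)) {a b : G}
    (ha : a ∈ K ⊓ (S : Subgroup G)) (hb : b ∈ K ⊓ (S : Subgroup G)) : a * (y * b * y⁻¹) = (y * b * y⁻¹) * a :=
  m.comm w hK (m.cj_mem w hK) (fun h => m.mv K hK h.symm) ha (m.conj_mem hb)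

theorem vv_mul (m : Mv Om S y) (w : NW Om) {K : Subgroup G} (hK : K ∈ OmS Om (S : Subgroup G)) {a b : G}
    (ha : a ∈ K ⊓ (S : Subgroup G)) (hb : b ∈ K ⊓ (S : Subgroup G)) : vv y (a * b) = vv y a * vv y b := by
  have h := m.comm_conj w hK hb ha
  unfold vv
  calc a * b * (y * (a * b) * y⁻¹) = a * (b * (y * a * y⁻¹)) * (y * b * y⁻¹) := by group
    _ = a * ((y * a * y⁻¹) * b) * (y * b * y⁻¹) := by rw [h]
    _ = a * (y * a * y⁻¹) * (b * (y * b * y⁻¹)) := by group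

theorem vv_one : vv y (1 : G) = 1 := by unfold vv; group

theorem vv_inv (m : Mv Om S y) (w : NW Om) {K : Subgroup G} (hK : K ∈ OmS Om (S : Subgroup G)) {a : G}
    (ha : a ∈ K ⊓ (S : Subgroup G)) : vv y a⁻¹ = (vv y a)⁻¹ := by
  have h := m.vv_mul w hK (inv_mem ha) ha
  rw [inv_mul_cancel, vv_one] at h
  exact eq_inv_of_mul_eq_one_left h.symm

theorem vv_comm_y (m : Mv Om S y) (w : NW Om) {K : Subgroup G} (hK : K ∈ OmS Om (S : Subgroup G)) {a : G}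
    (ha : a ∈ K ⊓ (S : Subgroup G)) : vv y a * y = y * vv y a := by
  have h := m.comm_conj w hK ha ha
  have h2 : y * vv y a * y⁻¹ = vv y a := by
    unfold vv
    calc y * (a * (y * a * y⁻¹)) * y⁻¹ = (y * a * y⁻¹) * (y * (y * a * y⁻¹) * y⁻¹) := by group
      _ = (y * a * y⁻¹) * a := by rw [m.conj_conj w]
      _ = a * (y * a * y⁻¹) := h.symm
  calc vv y a * y = (y * vv y a * y⁻¹) * y := by rw [h2]
    _ = y * vv y a := by group

theorem vv_mem (m : Mv Om S y) (w : NW Om) {K : Subgroup G} (hK : K ∈ OmS Om (S : Subgroup G)) {a : G}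
    (ha : a ∈ K ⊓ (S : Subgroup G)) : vv y a ∈ DD Om (S : Subgroup G) :=
  mul_mem (inf_le_DD hK ha) (inf_le_DD (m.cj_mem w hK) (m.conj_mem ha))

theorem vv_comm_other (m : Mv Om S y) (w : NW Om) {K L : Subgroup G} (hK : K ∈ OmS Om (S : Subgroup G))
    (hL : L ∈ OmS Om (S : Subgroup G)) (h1 : L ≠ K) (h2 : L ≠ cj y K) {a b : G}
    (ha : a ∈ K ⊓ (S : Subgroup G)) (hb : b ∈ L ⊓ (S : Subgroup G)) : vv y a * b = b * vv y a := by
  have e1 := m.comm w hK hL h1.symm ha hb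
  have e2 := m.comm w (m.cj_mem w hK) hL h2.symm (m.conj_mem ha) hb
  unfold vv
  calc a * (y * a * y⁻¹) * b = a * ((y * a * y⁻¹) * b) := by group
    _ = (a * b) * (y * a * y⁻¹) := by rw [e2]; group
    _ = b * (a * (y * a * y⁻¹)) := by rw [e1]; group

/-- `vv q` acts on `K ⊓ S` as `q` -/
theorem vv_conj (m : Mv Om S y) (w : NW Om) {K : Subgroup G} (hK : K ∈ OmS Om (S : Subgroup G)) {a b : G}
    (ha : a ∈ K ⊓ (S : Subgroup G)) (hb : b ∈ K ⊓ (S : Subgroup G)) :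
    vv y a * b * (vv y a)⁻¹ = a * b * a⁻¹ := by
  have e := m.comm_conj w hK hb ha
  unfold vv
  calc a * (y * a * y⁻¹) * b * (a * (y * a * y⁻¹))⁻¹ = a * ((y * a * y⁻¹) * b) * (y * a * y⁻¹)⁻¹ * a⁻¹ := by group
    _ = a * (b * (y * a * y⁻¹)) * (y * a * y⁻¹)⁻¹ * a⁻¹ := by rw [e]
    _ = _ := by group

theorem comm_of_vv_comm (m : Mv Om S y) (w : NW Om) {K : Subgroup G} (hK : K ∈ OmS Om (S : Subgroup G)) {a b : G}
    (ha : a ∈ K ⊓ (S : Subgroup G)) (hb : b ∈ K ⊓ (S : Subgroup G)) (h : vv y a * b = b * vv y a) :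
    a * b = b * a := by
  have h1 := m.vv_conj w hK ha hb
  rw [h, mul_inv_cancel_right] at h1
  calc a * b = (a * b * a⁻¹) * a := by group
    _ = b * a := by rw [← h1]

/-- `vv q = 1` implies `q² = 1` -/
theorem sq_of_vv_eq_one (m : Mv Om S y) (w : NW Om) {K : Subgroup G} (hK : K ∈ OmS Om (S : Subgroup G)) {a : G}
    (ha : a ∈ K ⊓ (S : Subgroup G)) (h : vv y a = 1) : a = 1 ∨ a = zz K := by
  obtain ⟨f, hf⟩ := exists_fx (w.ty K hK.1)
  have hc : ∀ b ∈ K ⊓ (S : Subgroup G), a * b = b * a := fun b hb =>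
    m.comm_of_vv_comm w hK ha hb (by rw [h, one_mul, mul_one])
  obtain ⟨i, hi, hfi⟩ := hf.lift w.hyp S.isPGroup' hK (p := iX) (Or.inl X_rel.1)
  obtain ⟨j, hj, hfj⟩ := hf.lift w.hyp S.isPGroup' hK (p := jX) (Or.inl X_rel.2.1)
  have e1 : f ⟨a, ha.1⟩ * iX = iX * f ⟨a, ha.1⟩ := by
    rw [← hfi, ← map_mul, ← map_mul]
    congr 1
    exact Subtype.ext (hc i hi)
  have e2 : f ⟨a, ha.1⟩ * jX = jX * f ⟨a, ha.1⟩ := by
    rw [← hfj, ← map_mul, ← map_mul]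
    congr 1
    exact Subtype.ext (hc j hj)
  rcases X_cen _ e1 e2 with h1 | h1
  · left
    refine hf.inj S.isPGroup' ha (one_mem _) ?_
    rw [h1]
    exact (map_one f).symm
  · right
    refine hf.inj S.isPGroup' ha (w.hyp.zz_mem_inf S.isPGroup' hK) ?_
    rw [h1]
    exact (hf.zz w.hyp hK.1).symm

/-- **(N1)**: elements of `D(S)` centralising some `K ⊓ S` act faithfully on `J` if `zz J = y` -/
theorem faith (m : Mv Om S y) (w : NW Om) {K : Subgroup G} (hK : K ∈ OmS Om (S : Subgroup G)) {g : G}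
    (hg : g ∈ DD Om (S : Subgroup G)) (hc : ∀ x ∈ K ⊓ (S : Subgroup G), g * x = x * g) {J : Subgroup G}
    (hJ : J ∈ Om) (hJy : zz J = y) (hN : g ∈ normalizer (J : Set G)) (hT : Triv g J) : g = 1 := by
  by_contra hne
  obtain ⟨n, hn⟩ := S.isPGroup' ⟨g, DD_le hg⟩
  obtain ⟨j, hj1, hj2⟩ := exists_inv_pow (w := g) (n := n) (congrArg Subtype.val hn) hne
  have h1 := w.kl S _ (pow_mem hg (2 ^ j)) hj2 hj1 K hK (fun x hx => (Commute.pow_left (show Commute g x from hc x hx) _).eq)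
    J hJ (pow_mem hN _) (triv_pow hN hT _) (by rw [hJy]; exact m.yS)
  rw [hJy, mem_normalizer_iff_cj] at h1
  exact m.mv K hK h1

end Mv

end Cfsg.Agent.Cit.QTwo.NnMove
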