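import Cfsg.Agent.Cit.QTwo.Ori
import Cfsg.Agent.Cit.CloseFus
import Cfsg.Agent.Cit.RdOm

/-!
# The world of [Q2] (THEOREM T): `K ≰ L = F*(G)`, `K/O(K) ≅ SL₂(3)`

`Wd Om L φ`, `φ : G →* A` a homomorphism to a commutative group, trivial on 2-elements and on all `O(C(z_K))`, but
not trivial on the members.

* (F1) `ori`, `ori_two`, `triv_sq` : 2-elements of `N(K)` act on `K / O(K)` as elements of a Sylow 2-subgroup of `K`;
* (F3) `triv_zz`, `zz_mem_normalizer`, `exists_common` : `z_J ∈ N(K)` acts trivially on `K / O(K)`.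
-/

set_option autoImplicit false
set_option linter.style.haveILetI false
set_option linter.unusedSectionVars false

namespace Cfsg.Agent.Cit.QTwo

open Subgroup Cfsg SubCent AutAct

universe u

/-- the world of [Q2] -/
structure Wd {G : Type u} [Group G] (Om : Set (Subgroup G)) (L : Subgroup G) {A : Type*} [CommGroup A]
    (φ : G →* A) : Prop where
  hyp : Hyp Om
  ty : ∀ K ∈ Om, SolvTwo.IsT K
  ne : Om.Nonempty
  cls : ∀ K ∈ Om, ∀ J ∈ Om, ∃ g, J = cj g K
  normal : L.Normal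
  simple : IsSimpleGroup L
  nab : ¬ IsMulCommutative L
  cent : centralizer (L : Set G) = ⊥
  core : pPrimeCore 2 G = ⊥
  odd : ¬ 2 ∣ L.index
  ind : TLt.{u} (Nat.card G)
  two : ∀ g : G, IsPGroup 2 (zpowers g) → φ g = 1
  kphi : ∀ K ∈ Om, ∃ k ∈ K, φ k ≠ 1
  xphi : ∀ K ∈ Om, ∀ x ∈ XX (zz K), φ x = 1

variable {G : Type u} [Group G] [Finite G] {Om : Set (Subgroup G)} {L : Subgroup G} {A : Type*} [CommGroup A]
  {φ : G →* A} {K J Q P S : Subgroup G}

/-! ### Tools -/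

theorem exists_pow_of_zpowers {g : G} (h : IsPGroup 2 (zpowers g)) : ∃ b : ℕ, g ^ 2 ^ b = 1 := by
  obtain ⟨b, hb⟩ := h ⟨g, mem_zpowers g⟩
  exact ⟨b, congrArg Subtype.val hb⟩

theorem zpowers_of_pow {g : G} {b : ℕ} (h : g ^ 2 ^ b = 1) : IsPGroup 2 (zpowers g) :=
  AutAct.isPGroup_zpowers h

theorem zpowers_of_sq {g : G} (h : g * g = 1) : IsPGroup 2 (zpowers g) :=
  zpowers_of_pow (b := 1) (by rw [pow_one, pow_two, h])

theorem zpowers_of_mem (hP : IsPGroup 2 P) {g : G} (hg : g ∈ P) : IsPGroup 2 (zpowers g) :=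
  hP.to_le ((zpowers_le).2 hg)

/-- a 2-element of `O(K)` is trivial -/
theorem eq_one_of_OO' {x : G} (hx : x ∈ OO K) (h : IsPGroup 2 (zpowers x)) : x = 1 := by
  obtain ⟨b, hb⟩ := exists_pow_of_zpowers h
  exact AutAct.eq_one_of_OO hx hb

/-- an element of a 2-group acting trivially on `K / O(K)` centralises `K ⊓ P` -/
theorem comm_of_triv (hP : IsPGroup 2 P) {g x : G} (hg : g ∈ P) (hT : Triv g K) (hx : x ∈ K ⊓ P) :
    g * x = x * g := by
  have h1 : g * x * g⁻¹ * x⁻¹ ∈ P := P.mul_mem (P.mul_mem (P.mul_mem hg hx.2) (P.inv_mem hg)) (P.inv_mem hx.2)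
  have h2 := eq_one_of_OO' (hT x hx.1) (zpowers_of_mem hP h1)
  rw [mul_inv_eq_one, mul_inv_eq_iff_eq_mul] at h2
  exact h2

/-- `K ∈ Om[C(v)]` iff the 2-element `v` acts trivially on `K / O(K)` -/
theorem mem_cov_iff_triv (h : Hyp Om) (hK : K ∈ Om) {v : G} (hv : IsPGroup 2 (zpowers v)) :
    K ∈ cov Om (centralizer {v}) ↔ v ∈ normalizer (K : Set G) ∧ Triv v K := by
  rw [← PairComm.centralizer_zpowers, mem_cov_centralizer h hv]
  constructor
  · rintro ⟨-, h1⟩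
    have h2 : v ∈ normalizer (K : Set G) :=
      le_normalizer_of_comm (h1.trans (OO_le K)) (mem_zpowers v)
    refine ⟨h2, fun k hk => ?_⟩
    have h3 := h1 (commutator_mem_commutator hk (mem_zpowers v))
    rw [commutatorElement_def] at h3
    have h4 := (OO K).inv_mem h3
    convert h4 using 1
    group
  · rintro ⟨h1, h2⟩
    refine ⟨hK, ?_⟩
    have h3 : zpowers v ≤ normalizer (K : Set G) := (zpowers_le).2 h1
    -- the elements acting trivially form a subgroup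
    have h4 : ∀ a ∈ zpowers v, ∀ k ∈ K, k * a * k⁻¹ * a⁻¹ ∈ OO K := by
      intro a ha
      have h5 : (⟨a, h3 ha⟩ : ↥(normalizer (K : Set G))) ∈ (act K).ker := by
        obtain ⟨n, rfl⟩ := mem_zpowers_iff.1 ha
        have h6 : (⟨v, h1⟩ : ↥(normalizer (K : Set G))) ∈ (act K).ker := (act_eq_one_iff h1).2 h2
        have h7 := (act K).ker.zpow_mem h6 n
        convert h7 using 1
        exact Subtype.ext (by rw [SubgroupClass.coe_zpow])
      have h6 := (act_eq_one_iff (h3 ha)).1 h5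
      intro k hk
      have h7 := (OO K).inv_mem (h6 k hk)
      convert h7 using 1
      group
    rw [commutator_le]
    intro k hk a ha
    rw [commutatorElement_def]
    exact h4 a ha k hk

theorem mem_cov_of_triv (h : Hyp Om) (hK : K ∈ Om) {v : G} (hv : IsPGroup 2 (zpowers v))
    (h1 : v ∈ normalizer (K : Set G)) (h2 : Triv v K) : K ∈ cov Om (centralizer {v}) :=
  (mem_cov_iff_triv h hK hv).2 ⟨h1, h2⟩

/-- a 2-element acting trivially on `K / O(K)` centralises a Sylow 2-subgroup of `K`; a 2-group containing it -/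
theorem exists_syl_comm (h1 : P ≤ normalizer (K : Set G)) (hP : IsPGroup 2 P) :
    ∃ R : Subgroup G, IsPGroup 2 R ∧ P ≤ R ∧ Syl (K ⊓ R) K := by
  obtain ⟨R, hR, hPR, hs⟩ := LB.exists_two_sup hP h1
  exact ⟨R, hR, hPR, by rwa [inf_comm]⟩

namespace Wd

variable (w : Wd Om L φ)

include w

theorem isType : ∀ K ∈ Om, IsType K := by
  intro K hK
  have := Ty.isType (K := K) (Or.inl (w.ty K hK))
  exact this

theorem Ty' : ∀ K ∈ Om, Ty K := fun K hK => Or.inl (w.ty K hK)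

theorem phi_OO (hK : K ∈ Om) : ∀ x ∈ OO K, φ x = 1 := fun x hx => w.xphi K hK x (CloseFus.OO_le_XX w.hyp hK hx)

/-- **(F1)** -/
theorem ori (hK : K ∈ Om) (hQ : Syl Q K) {g : G} (hg : g ∈ normalizer (K : Set G)) (h2 : IsPGroup 2 (zpowers g)) :
    ∃ q ∈ Q, Triv (q⁻¹ * g) K := by
  obtain ⟨b, hb⟩ := exists_pow_of_zpowers h2
  exact (exists_triv (w.ty K hK) φ (w.phi_OO hK) w.two (w.kphi K hK) hQ hg hb).1

/-- **(F1)** : squares of 2-elements of `N(K)` are trivial on `K / O(K)` -/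
theorem triv_sq (hK : K ∈ Om) {g : G} (hg : g ∈ normalizer (K : Set G)) (h2 : IsPGroup 2 (zpowers g)) :
    Triv (g * g) K := by
  obtain ⟨b, hb⟩ := exists_pow_of_zpowers h2
  obtain ⟨Q, hQ⟩ := Hyp.exists_syl K
  exact (exists_triv (w.ty K hK) φ (w.phi_OO hK) w.two (w.kphi K hK) hQ hg hb).2

theorem syl_inf (hP : IsPGroup 2 P) (hK : K ∈ OmS Om P) : Syl (K ⊓ P) K := Cit.syl_inf hP hK

/-- **(F1)** in a 2-group -/
theorem ori_two (hP : IsPGroup 2 P) (hK : K ∈ OmS Om P) {g : G} (hg : g ∈ P) (hgK : g ∈ normalizer (K : Set G)) :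
    ∃ q ∈ K ⊓ P, ∀ x ∈ K ⊓ P, g * x * g⁻¹ = q * x * q⁻¹ := by
  obtain ⟨q, hq, hT⟩ := w.ori hK.1 (w.syl_inf hP hK) hgK (zpowers_of_mem hP hg)
  refine ⟨q, hq, fun x hx => ?_⟩
  have h1 := comm_of_triv hP (P.mul_mem (P.inv_mem hq.2) hg) hT hx
  calc g * x * g⁻¹ = q * ((q⁻¹ * g) * x) * g⁻¹ := by group
    _ = q * (x * (q⁻¹ * g)) * g⁻¹ := by rw [h1]
    _ = q * x * q⁻¹ := by group

/-- elements of `K ⊓ P` of order 4 -/
theorem sq_cases (hP : IsPGroup 2 P) (hK : K ∈ OmS Om P) {x : G} (hx : x ∈ K ⊓ P) :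
    x * x = zz K ∨ x = 1 ∨ x = zz K := by
  by_cases h1 : x * x = 1
  · right
    by_cases h2 : x = 1
    · exact Or.inl h2
    · exact Or.inr (w.hyp.eq_zz hK.1 hx.1 h1 h2)
  · left
    have h2 : Triv (x * x) K := w.triv_sq hK.1 (le_normalizer hx.1) (zpowers_of_mem hP hx.2)
    -- `x * x` is central in `K ⊓ P`, of order 2
    obtain ⟨c, v, n, hq⟩ := w.hyp.exists_gq hK.1 (w.syl_inf hP hK)
    have h3 : ∀ y ∈ K ⊓ P, (x * x) * y = y * (x * x) := fun y hy =>
      comm_of_triv hP (P.mul_mem hx.2 hx.2) h2 hy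
    have h4 : x * x * (x * x) = 1 := by
      by_contra h5
      -- the centre of a quaternion group has order 2
      rcases hq.cov (x * x) (mul_mem hx hx) with ⟨i, hi⟩ | ⟨i, hi⟩
      · have h7 := h3 v hq.v_mem
        have h8 := hq.conj_pow i
        rw [← hi] at h8
        have h9 : x * x = (x * x)⁻¹ := by
          have h10 : v * (x * x) = (x * x) * v := h7.symm
          rw [h8] at h10
          exact (mul_right_cancel h10).symm
        exact h5 (by nth_rw 2 [h9]; exact mul_inv_cancel _)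
      · have h8 := h3 c hq.c_mem
        rw [hi] at h8
        refine hq.not_comm ?_
        have h9 : v * c * c ^ i = c * v * c ^ i := by
          calc v * c * c ^ i = v * c ^ i * c := by
                rw [mul_assoc, mul_assoc, ← pow_succ, ← pow_succ']
            _ = c * (v * c ^ i) := h8
            _ = c * v * c ^ i := by group
        exact mul_right_cancel h9
    exact w.hyp.eq_zz hK.1 (mul_mem hx.1 hx.1) h4 h1

theorem orderOf_four (hK : K ∈ Om) {x : G} (hx : x * x = zz K) : orderOf x = 4 :=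
  GQ.orderOf_of_sq hx (w.hyp.zz_mul hK) (w.hyp.zz_ne hK)

theorem exists_four (hP : IsPGroup 2 P) (hK : K ∈ OmS Om P) : ∃ x ∈ K ⊓ P, x * x = zz K := by
  obtain ⟨c, v, n, hq⟩ := w.hyp.exists_gq hK.1 (w.syl_inf hP hK)
  refine ⟨v, hq.v_mem, ?_⟩
  have := hq.sq_out 0
  rwa [pow_zero, mul_one] at this

/-- a Sylow 2-subgroup of `J` centralised by `z_K` normalises `K` -/
theorem le_normalizer_of_comm (hK : K ∈ Om) (hJ : J ∈ Om) (hQ : Syl Q J) (hc : ∀ x ∈ Q, x * zz K = zz K * x) :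
    Q ≤ normalizer (K : Set G) := by
  obtain ⟨c, v, n, hq⟩ := w.hyp.exists_gq hJ hQ
  exact hq.le_of_four fun y hy hy4 =>
    w.hyp.h3 J hJ K hK y (hQ.1 hy) (zpowers_of_mem hQ.2.1 hy) (by omega) (hc y hy)

/-- `z_K ∈ N(J)` trivial on `J / O(J)`: a Sylow 2-subgroup of `J` normalises `K` -/
theorem exists_syl_of_triv (hK : K ∈ Om) (hJ : J ∈ Om) (h1 : zz K ∈ normalizer (J : Set G)) (h2 : Triv (zz K) J) :
    ∃ Q, Syl Q J ∧ (∀ x ∈ Q, x * zz K = zz K * x) ∧ Q ≤ normalizer (K : Set G) := by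
  obtain ⟨R, hR, hPR, hs⟩ := exists_syl_comm (P := zpowers (zz K)) (zpowers_le.2 h1)
    (zpowers_of_sq (w.hyp.zz_mul hK))
  have h3 : ∀ x ∈ J ⊓ R, x * zz K = zz K * x := fun x hx => (comm_of_triv hR (hPR (mem_zpowers _)) h2 hx).symm
  exact ⟨J ⊓ R, hs, h3, w.le_normalizer_of_comm hK hJ hs h3⟩

/-- `z_K ∈ N(J)` trivial on `J / O(J)`: `z_J ∈ N(K)` is trivial on `K / O(K)` -/
theorem triv_symm (hK : K ∈ Om) (hJ : J ∈ Om) (h1 : zz K ∈ normalizer (J : Set G)) (h2 : Triv (zz K) J) :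
    zz J ∈ normalizer (K : Set G) ∧ Triv (zz J) K := by
  obtain ⟨Q, hQ, -, hn⟩ := w.exists_syl_of_triv hK hJ h1 h2
  obtain ⟨c, v, n, hq⟩ := w.hyp.exists_gq hJ hQ
  have h3 : v * v = zz J := by
    have := hq.sq_out 0
    rwa [pow_zero, mul_one] at this
  have h4 := hn hq.v_mem
  rw [← h3]
  exact ⟨mul_mem h4 h4, w.triv_sq hK h4 (zpowers_of_mem hQ.2.1 hq.v_mem)⟩

theorem comm_zz' (hK : K ∈ Om) {x : G} (hx : x ∈ K) : zz K * x = x * zz K :=
  (w.hyp.comm_zz hK (le_normalizer hx)).symm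

/-- **(F3)** -/
theorem triv_zz (hK : K ∈ Om) (hJ : J ∈ Om) (h : zz J ∈ normalizer (K : Set G)) : Triv (zz J) K := by
  obtain ⟨R, hR, hPR, hs⟩ := exists_syl_comm (P := zpowers (zz J)) (zpowers_le.2 h)
    (zpowers_of_sq (w.hyp.zz_mul hJ))
  have hzR : zz J ∈ R := hPR (mem_zpowers _)
  have hKR : K ∈ OmS Om R := mem_OmS_of_le hK hs inf_le_right
  obtain ⟨q, hq, hx⟩ := w.ori_two hR hKR hzR h
  have hcent : (∀ x ∈ K ⊓ R, zz J * x = x * zz J) → Triv (zz J) K := fun hc =>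
    triv_of_cent (w.isType K hK) hs h (b := 1) (by rw [pow_one, pow_two, w.hyp.zz_mul hJ]) hc
  rcases w.sq_cases hR hKR hq with h1 | h1 | h1
  · have h2 : q * zz J = zz J * q := by
      have := hx q hq
      rw [mul_inv_cancel_right, mul_inv_eq_iff_eq_mul] at this
      exact this.symm
    have h3 : q ∈ normalizer (J : Set G) := w.hyp.h3 K hK J hJ q hq.1 (zpowers_of_mem hR hq.2)
      (by rw [w.orderOf_four hK h1]) h2
    have h4 : Triv (zz K) J := by
      rw [← h1]; exact w.triv_sq hJ h3 (zpowers_of_mem hR hq.2)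
    have h5 : zz K ∈ normalizer (J : Set G) := by rw [← h1]; exact mul_mem h3 h3
    exact (w.triv_symm hK hJ h5 h4).2
  · refine hcent fun x hx' => ?_
    have := hx x hx'
    rw [h1, one_mul, inv_one, mul_one, mul_inv_eq_iff_eq_mul] at this
    exact this
  · refine hcent fun x hx' => ?_
    have := hx x hx'
    rw [h1, w.comm_zz' hK hx'.1, mul_inv_cancel_right, mul_inv_eq_iff_eq_mul] at this
    exact this

theorem zz_mem_normalizer (hK : K ∈ Om) (hJ : J ∈ Om) (h : zz J ∈ normalizer (K : Set G)) :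
    zz K ∈ normalizer (J : Set G) :=
  (w.triv_symm hJ hK h (w.triv_zz hK hJ h)).1

theorem zz_mem_normalizer_iff (hK : K ∈ Om) (hJ : J ∈ Om) :
    zz J ∈ normalizer (K : Set G) ↔ zz K ∈ normalizer (J : Set G) :=
  ⟨w.zz_mem_normalizer hK hJ, w.zz_mem_normalizer hJ hK⟩

/-- `z_J ∈ N(K)`: every Sylow 2-subgroup of `K` centralised by `z_J` is contained in a 2-group `R` with
`J ∈ Om(R)` -/
theorem exists_common_ge (hK : K ∈ Om) (hJ : J ∈ Om) (hQ : Syl Q K) (hc : ∀ x ∈ Q, x * zz J = zz J * x) :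
    ∃ R : Subgroup G, IsPGroup 2 R ∧ Q ≤ R ∧ K ∈ OmS Om R ∧ J ∈ OmS Om R := by
  have h1 := w.le_normalizer_of_comm hJ hK hQ hc
  obtain ⟨R, hR, hQR, hs⟩ := exists_syl_comm h1 hQ.2.1
  exact ⟨R, hR, hQR, mem_OmS_of_le hK hQ hQR, mem_OmS_of_le hJ hs inf_le_right⟩

theorem exists_common (hK : K ∈ Om) (hJ : J ∈ Om) (h : zz J ∈ normalizer (K : Set G)) :
    ∃ R : Subgroup G, IsPGroup 2 R ∧ K ∈ OmS Om R ∧ J ∈ OmS Om R := by
  obtain ⟨Q, hQ, hc, -⟩ := w.exists_syl_of_triv hJ hK h (w.triv_zz hK hJ h)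
  obtain ⟨R, hR, -, h1, h2⟩ := w.exists_common_ge hK hJ hQ hc
  exact ⟨R, hR, h1, h2⟩

end Wd

end Cfsg.Agent.Cit.QTwo
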