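import Cfsg.Agent.Cit.QTwo.CaseICfg
import Cfsg.Agent.Cit.QTwo.NnMove
import Cfsg.Agent.Cit.QTwo.World
import Mathlib.GroupTheory.Transfer

/-!
# Case (I) of [Q2], (I6): elements of odd order centralising `z`, `y` and all `x x^y`

`phi_eq_one` : `g` of odd order centralising `z`, `y`, `x x^y` (`x ∈ K ⊓ S` of order 4) lies in `O(C(z))`, so
`phi g = 1`, provided `C_S((K ⊓ S)(K' ⊓ S)) = ⟨z⟩`.
-/

set_option autoImplicit false
set_option linter.style.haveILetI false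
set_option linter.unusedSectionVars false
set_option linter.unusedVariables false

namespace Cfsg.Agent.Cit.QTwo.CI

open Subgroup Cfsg Cit OneBasic SolvTwo TwoFK Cfsg.Agent.Cit.TwoP

/-! ### `SL₂(3)` -/

set_option maxRecDepth 100000 in
theorem eq_cX_aux : ∀ b : X, b * b * b = 1 → b * iX * b⁻¹ = zX * jX → b * jX * b⁻¹ = zX * (iX * jX) → b = cX := by
  decide +kernel

set_option maxRecDepth 100000 in
theorem cX_conj : cX * iX * cX⁻¹ = zX * jX ∧ cX * jX * cX⁻¹ = zX * (iX * jX) := by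
  decide +kernel

/-- an automorphism of `SL₂(3)` fixing `i` and `j` -/
theorem aut_eq_id (β : X ≃* X) (hi : β iX = iX) (hj : β jX = jX) (y : X) : β y = y := by
  obtain ⟨h1, h2, hc, hc1, hz, hz1, hij⟩ := X_rel
  obtain ⟨k1, k2⟩ := cX_conj
  have hβz : β zX = zX := by rw [← h1, map_mul, hi]
  have hβc : β cX = cX := by
    apply eq_cX_aux
    · rw [← map_mul, ← map_mul, hc, map_one]
    · have := congrArg β k1
      rwa [map_mul, map_mul, map_mul, map_inv, hi, hj, hβz] at this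
    · have := congrArg β k2
      rwa [map_mul, map_mul, map_mul, map_mul, map_inv, hi, hj, hβz] at this
  obtain ⟨n, m, k, rfl⟩ := gen_aux y
  rw [map_mul, map_mul, map_pow, map_pow, map_pow, map_mul, map_mul, map_inv, hi, hβc]

/-! ### odd elements of a group with a central Sylow 2-subgroup -/

/-- odd elements of a group with a central Sylow 2-subgroup -/
theorem mem_core_of_central {H : Type*} [Group H] [Finite H] (P : Sylow 2 H)
    (hP : ∀ x ∈ (P : Subgroup H), ∀ h : H, x * h = h * x) {g : H} (hg : Odd (orderOf g)) :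
    g ∈ pPrimeCore 2 H := by
  haveI : Fact (Nat.Prime 2) := ⟨Nat.prime_two⟩
  have hPc : normalizer ((P : Subgroup H) : Set H) ≤ centralizer ((P : Subgroup H) : Set H) := by
    intro x _
    rw [mem_centralizer_iff]
    intro y hy
    exact hP y hy x
  set K := (MonoidHom.transferSylow P hPc).ker with hK
  have hKodd : (Nat.card K).Coprime 2 := by
    rw [Nat.coprime_comm]
    exact (Nat.prime_two.coprime_iff_not_dvd).2 (MonoidHom.not_dvd_card_ker_transferSylow P hPc)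
  have hKle : K ≤ pPrimeCore 2 H := Lib.Cores.le_pPrimeCore (MonoidHom.normal_ker _) hKodd
  apply hKle
  rw [hK, MonoidHom.mem_ker]
  set w := MonoidHom.transferSylow P hPc g with hw
  obtain ⟨n, hn⟩ := P.isPGroup' w
  have h1 : orderOf w ∣ 2 ^ n := orderOf_dvd_of_pow_eq_one hn
  have h2 : orderOf w ∣ orderOf g := orderOf_map_dvd _ g
  have h3 : Nat.Coprime (2 ^ n) (orderOf g) := Nat.Coprime.pow_left n (Nat.coprime_two_left.mpr hg)
  exact orderOf_eq_one_iff.mp (Nat.eq_one_of_dvd_coprimes h3 h1 h2)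

variable {G : Type*} [Group G] [Finite G] {Om : Set (Subgroup G)} {A : Type*} [CommGroup A] {phi : G →* A}
  {K K' J J' T S S' Q : Subgroup G}

/-- `g²` acts trivially on `K / O(K)` if `g` acts trivially on `Q ⟨z⟩ O(K) / ⟨z⟩ O(K)` -/
theorem triv_sq_of {z g : G} (hq : QZ K Q z) (hgK : g ∈ normalizer (K : Set G))
    (h : ∀ x ∈ Q, x * x = z → x⁻¹ * (g * x * g⁻¹) ∈ OO K ∨ z * (x⁻¹ * (g * x * g⁻¹)) ∈ OO K) :
    AutAct.Triv (g * g) K := by
  obtain ⟨e⟩ := hq.ty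
  obtain ⟨α, hα⟩ := exists_alpha e hgK
  obtain ⟨r1, r2, -, -, hz, hz1, -⟩ := X_rel
  have hαz : α zX = zX := by
    refine (sq_one _ ?_).resolve_left ?_
    · rw [← map_mul, hz, map_one]
    · intro h1
      rw [← map_one α] at h1
      exact hz1 (α.injective h1)
  have hzK := hq.syl.1 hq.mem
  have hpz : psi e ⟨z, hzK⟩ = zX := psi_zz e hq.syl hq.mem hq.ne hq.sq
  have key : ∀ a : X, a * a = zX → α (α a) = a := by
    intro a ha
    obtain ⟨q, hqQ, hqa⟩ := exists_psi e hq.syl (show a ∈ E8 from Or.inr ha)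
    have hqq : (q : G) * q = z := by
      have h3 : rho e hq.syl (⟨q, hqQ⟩ * ⟨q, hqQ⟩) = rho e hq.syl ⟨z, hq.mem⟩ := by
        rw [map_mul, hq.rho_z e]
        have h4 : rho e hq.syl ⟨q, hqQ⟩ = a := hqa
        rw [h4, ha]
      exact congrArg Subtype.val (rho_inj e hq.syl h3)
    have h5 : α a = a ∨ α a = zX * a := by
      rw [← hqa, hα]
      rcases h q hqQ hqq with h6 | h6
      · left
        exact ((psi_eq e).2 h6).symm
      · right
        have h7 : psi e (⟨z, hzK⟩ * (q⁻¹ * ⟨g * q * g⁻¹, conj_mem_of hgK q.2⟩)) = 1 := (psi_eq_one e).2 h6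
        rw [map_mul, map_mul, map_inv, hpz] at h7
        have hzc : zX * psi e q = psi e q * zX := by
          rw [hqa, ← ha, mul_assoc]
        have h8 : psi e ⟨g * q * g⁻¹, conj_mem_of hgK q.2⟩ = psi e q * zX⁻¹ := by
          rw [eq_mul_inv_iff_mul_eq, ← mul_right_inj (psi e q)⁻¹, ← mul_assoc, inv_mul_cancel]
          calc (psi e q)⁻¹ * psi e ⟨g * q * g⁻¹, conj_mem_of hgK q.2⟩ * zX
              = zX⁻¹ * (zX * ((psi e q)⁻¹ * psi e ⟨g * q * g⁻¹, conj_mem_of hgK q.2⟩)) * zX := by group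
            _ = 1 := by rw [h7]; group
        rw [h8, inv_eq_of_mul_eq_one_right hz, hzc]
    rcases h5 with h5 | h5
    · rw [h5, h5]
    · rw [h5, map_mul, hαz, h5, ← mul_assoc, hz, one_mul]
  have hβ := aut_eq_id (α.trans α) (key _ r1) (key _ r2)
  intro k hk
  have h1 := hβ (psi e ⟨k, hk⟩)
  rw [MulEquiv.trans_apply, hα, hα] at h1
  have h2 : psi e ⟨g * (g * k * g⁻¹) * g⁻¹, conj_mem_of hgK (conj_mem_of hgK hk)⟩ * (psi e ⟨k, hk⟩)⁻¹ = 1 := by
    rw [mul_inv_eq_one]; exact h1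
  rw [← map_inv, ← map_mul, psi_eq_one] at h2
  have h3 : g * g * k * (g * g)⁻¹ * k⁻¹ = g * (g * k * g⁻¹) * g⁻¹ * k⁻¹ := by group
  rw [h3]
  exact h2

/-- odd elements are powers of their squares -/
theorem eq_sq_pow_of_odd {g : G} (hg : Odd (orderOf g)) : ∃ n : ℕ, g = (g * g) ^ n := by
  obtain ⟨m, hm⟩ := hg
  refine ⟨m + 1, ?_⟩
  rw [← pow_two, ← pow_mul, show 2 * (m + 1) = (2 * m + 1) + 1 by ring, pow_succ, ← hm, pow_orderOf_eq_one, one_mul]

/-- an element of odd order centralising `z` normalises `K` -/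
theorem odd_mem_normalizer (b : TwoEq Om) (m : Mate Om K K') {g : G} (hg : Odd (orderOf g))
    (hz : g * zz K = zz K * g) : g ∈ normalizer (K : Set G) := by
  obtain ⟨n, hn⟩ := eq_sq_pow_of_odd hg
  rw [hn]
  exact pow_mem (b.sq_norm m hz) n

/-- elements of `K ∩ K'` -/
theorem mem_or_of_inf (d : Dat Om phi) (m : Mate Om K K') (hQ : Syl Q K) {w : G} (hw : w ∈ K) (hw' : w ∈ K') :
    w ∈ OO K ∨ zz K * w ∈ OO K := by
  have hq := d.qz m.hK hQ
  refine mem_OO_or hq.ty hQ hq.mem hq.ne hq.sq hw fun q hqQ => ?_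
  have hcom := (d.hyp.h2 K' m.hL K m.hK m.zz.symm).resolve_left m.ne.symm
  exact (hcom (commutator_mem_commutator hw' (hQ.1 hqQ))).2

/-- `g` acts trivially on `K / O(K)` -/
theorem triv_of_vv (d : Dat Om phi) (c : Cfg Om K K' J J' T S S') {g : G} (hg : Odd (orderOf g))
    (hz : g * zz K = zz K * g)
    (hV : ∀ x ∈ K ⊓ S, x * x = zz K →
      g * (x * (zz J * x * (zz J)⁻¹)) = x * (zz J * x * (zz J)⁻¹) * g) : AutAct.Triv g K := by
  have hgK := odd_mem_normalizer d.b c.mK hg hz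
  have hgK' := d.b.mem_normalizer_mate c.mK hgK
  have h1 : AutAct.Triv (g * g) K := by
    refine triv_sq_of (d.qz c.mK.hK (c.sylK d)) hgK fun x hx hxx => ?_
    refine mem_or_of_inf d c.mK (c.sylK d) (K.mul_mem (K.inv_mem hx.1) (conj_mem_of hgK hx.1)) ?_
    have hx' := c.conj_mem d hx
    have h2 := hV x hx hxx
    have h3 : x⁻¹ * (g * x * g⁻¹) = (zz J * x * (zz J)⁻¹) * (g * (zz J * x * (zz J)⁻¹) * g⁻¹)⁻¹ := by
      rw [← mul_inv_eq_iff_eq_mul] at h2
      generalize zz J * x * (zz J)⁻¹ = x' at *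
      calc x⁻¹ * (g * x * g⁻¹) = x⁻¹ * (g * (x * x') * g⁻¹) * (g * x' * g⁻¹)⁻¹ := by group
        _ = x⁻¹ * (x * x') * (g * x' * g⁻¹)⁻¹ := by rw [h2]
        _ = x' * (g * x' * g⁻¹)⁻¹ := by group
    rw [h3]
    exact K'.mul_mem hx'.1 (K'.inv_mem (conj_mem_of hgK' hx'.1))
  obtain ⟨n, hn⟩ := eq_sq_pow_of_odd hg
  rw [hn]
  exact NnMove.triv_pow (mul_mem hgK hgK) h1 n

/-- the condition on `x x^y` is symmetric in `K` and `K'` -/
theorem vv_mate (d : Dat Om phi) (c : Cfg Om K K' J J' T S S') {g : G}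
    (hV : ∀ x ∈ K ⊓ S, x * x = zz K →
      g * (x * (zz J * x * (zz J)⁻¹)) = x * (zz J * x * (zz J)⁻¹) * g) :
    ∀ x ∈ K' ⊓ S, x * x = zz K' →
      g * (x * (zz J * x * (zz J)⁻¹)) = x * (zz J * x * (zz J)⁻¹) * g := by
  intro x hx hxx
  have hyi : (zz J)⁻¹ = zz J := inv_eq_of_mul_eq_one_right (c.yy d)
  have h1 : zz J * x * (zz J)⁻¹ ∈ K ⊓ S := c.mate.conj_mem d hx
  have h2 : zz J * x * (zz J)⁻¹ * (zz J * x * (zz J)⁻¹) = zz K := by
    calc zz J * x * (zz J)⁻¹ * (zz J * x * (zz J)⁻¹) = zz J * (x * x) * (zz J)⁻¹ := by group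
      _ = zz K := by rw [hxx, ← c.mK.zz, ← c.comm, mul_inv_cancel_right]
  have h3 := hV _ h1 h2
  have h4 : zz J * (zz J * x * (zz J)⁻¹) * (zz J)⁻¹ = x := by
    rw [hyi, ← mul_assoc, ← mul_assoc, c.yy d, one_mul, mul_assoc, c.yy d, mul_one]
  rw [h4, c.commQ d h1 hx] at h3
  exact h3

/-- the elements of `C(z)` acting trivially on `K / O(K)` and `K' / O(K')` -/
def C0 (K K' : Subgroup G) : Subgroup G where
  carrier := {h | h ∈ normalizer (K : Set G) ∧ h ∈ normalizer (K' : Set G) ∧ AutAct.Triv h K ∧ AutAct.Triv h K'}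
  one_mem' := ⟨one_mem _, one_mem _, NnMove.triv_of_comm (by simp), NnMove.triv_of_comm (by simp)⟩
  mul_mem' := fun {a b} ha hb => ⟨mul_mem ha.1 hb.1, mul_mem ha.2.1 hb.2.1,
    NnMove.triv_mul ha.1 hb.1 ha.2.2.1 hb.2.2.1, NnMove.triv_mul ha.2.1 hb.2.1 ha.2.2.2 hb.2.2.2⟩
  inv_mem' := fun {a} ha => ⟨inv_mem ha.1, inv_mem ha.2.1, NnMove.triv_inv ha.1 ha.2.2.1,
    NnMove.triv_inv ha.2.1 ha.2.2.2⟩

theorem mem_C0 {h : G} : h ∈ C0 K K' ↔
    h ∈ normalizer (K : Set G) ∧ h ∈ normalizer (K' : Set G) ∧ AutAct.Triv h K ∧ AutAct.Triv h K' := Iff.rfl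

/-- transport of the trivial action -/
theorem triv_cj {a h : G} (h1 : AutAct.Triv h K) : AutAct.Triv (a * h * a⁻¹) (cj a K) := by
  intro k hk
  rw [mem_cj] at hk
  have h2 := h1 _ hk
  rw [OO_cj, mem_cj]
  have h3 : a⁻¹ * (a * h * a⁻¹ * k * (a * h * a⁻¹)⁻¹ * k⁻¹) * a = h * (a⁻¹ * k * a) * h⁻¹ * (a⁻¹ * k * a)⁻¹ := by
    group
  rw [h3]
  exact h2

theorem norm_cj {a h : G} (h1 : h ∈ normalizer (K : Set G)) : a * h * a⁻¹ ∈ normalizer (cj a K : Set G) := by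
  rw [mem_normalizer_iff_cj] at h1 ⊢
  rw [cj_mul, cj_mul, cj_inv_cj, h1]

theorem conj_mem_C0 (b : TwoEq Om) (m : Mate Om K K') {a h : G} (ha : a * zz K = zz K * a) (hh : h ∈ C0 K K') :
    a * h * a⁻¹ ∈ C0 K K' := by
  obtain ⟨h1, h2, h3, h4⟩ := hh
  rcases b.cj_or m ha with ⟨e1, e2⟩ | ⟨e1, e2⟩
  · refine ⟨?_, ?_, ?_, ?_⟩
    · have := norm_cj (a := a) h1; rwa [e1] at this
    · have := norm_cj (a := a) h2; rwa [e2] at this
    · have := triv_cj (a := a) h3; rwa [e1] at this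
    · have := triv_cj (a := a) h4; rwa [e2] at this
  · refine ⟨?_, ?_, ?_, ?_⟩
    · have := norm_cj (a := a) h2; rwa [e2] at this
    · have := norm_cj (a := a) h1; rwa [e1] at this
    · have := triv_cj (a := a) h4; rwa [e2] at this
    · have := triv_cj (a := a) h3; rwa [e1] at this

theorem C0_le (d : Dat Om phi) (m : Mate Om K K') : C0 K K' ≤ centralizer {zz K} := fun _ hh =>
  mem_centralizer_singleton_iff.2 (d.hyp.comm_zz m.hK hh.1)

theorem zz_mem_C0 (d : Dat Om phi) (m : Mate Om K K') : zz K ∈ C0 K K' := by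
  have h1 : ∀ k ∈ K, zz K * k = k * zz K := fun k hk => (d.hyp.comm_zz m.hK (le_normalizer hk)).symm
  have h2 : ∀ k ∈ K', zz K * k = k * zz K := fun k hk => by
    rw [m.zz]; exact (d.hyp.comm_zz m.hL (le_normalizer hk)).symm
  refine ⟨le_normalizer (d.hyp.zz_mem m.hK), ?_, NnMove.triv_of_comm h1, NnMove.triv_of_comm h2⟩
  rw [m.zz]
  exact le_normalizer (d.hyp.zz_mem m.hL)

/-- **(I6)** -/
theorem Cfg.phi_eq_one (d : Dat Om phi) (c : Cfg Om K K' J J' T S S')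
    (hR : ∀ s ∈ S, (∀ x ∈ K ⊓ S, s * x = x * s) → (∀ x ∈ K' ⊓ S, s * x = x * s) → s = 1 ∨ s = zz K)
    {g : G} (hg : Odd (orderOf g)) (hz : g * zz K = zz K * g) (hy : g * zz J = zz J * g)
    (hV : ∀ x ∈ K ⊓ S, x * x = zz K →
      g * (x * (zz J * x * (zz J)⁻¹)) = x * (zz J * x * (zz J)⁻¹) * g) : phi g = 1 := by
  have hgK := odd_mem_normalizer d.b c.mK hg hz
  have hgK' := d.b.mem_normalizer_mate c.mK hgK
  have hgC : g ∈ C0 K K' := by
    refine ⟨hgK, hgK', triv_of_vv d c hg hz hV, ?_⟩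
    exact triv_of_vv d c.mate hg (by rw [← c.mK.zz]; exact hz) (vv_mate d c hV)
  have hle := C0_le d c.mK
  have hn : centralizer {zz K} ≤ normalizer (C0 K K' : Set G) := by
    intro a ha
    rw [mem_normalizer_iff_cj]
    have h1 : cj a (C0 K K') ≤ C0 K K' := by
      intro x hx
      rw [mem_cj] at hx
      have h2 := conj_mem_C0 d.b c.mK (mem_centralizer_singleton_iff.1 ha) hx
      rwa [show a * (a⁻¹ * x * a) * a⁻¹ = x by group] at h2
    exact eq_of_le_of_card_ge h1 (by rw [card_cj])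
  have hsyl : Syl (S ⊓ C0 K K') (C0 K K') := LB.syl_inf_normal c.hS hle hn
  -- the Sylow 2-subgroup is `⟨z⟩`
  have hcen : ∀ x ∈ S ⊓ C0 K K', ∀ h ∈ C0 K K', x * h = h * x := by
    rintro x ⟨hxS, h1, h2, h3, h4⟩ h hh
    have h5 := hR x hxS (fun q hq => comm_of_triv c.hS.2.1 hxS h3 hq) (fun q hq => comm_of_triv c.hS.2.1 hxS h4 hq)
    rcases h5 with rfl | rfl
    · rw [one_mul, mul_one]
    · exact (d.hyp.comm_zz c.mK.hK hh.1).symm
  obtain ⟨P, hP⟩ := hsyl.exists_sylow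
  have h1 : (⟨g, hgC⟩ : C0 K K') ∈ pPrimeCore 2 (C0 K K') := by
    refine mem_core_of_central P ?_ (by rwa [Subgroup.orderOf_mk])
    rintro ⟨x, hx⟩ hxP ⟨h, hh⟩
    rw [hP, mem_subgroupOf] at hxP
    exact Subtype.ext (hcen x hxP h hh)
  have h2 : g ∈ OO (C0 K K') := ⟨_, h1, rfl⟩
  have h3 : OO (C0 K K') ≤ XX (zz K) := by
    refine le_OO ((OO_le _).trans hle) (fun a ha => ?_) (odd_OO _)
    rw [mem_normalizer_iff_cj, ← OO_cj, mem_normalizer_iff_cj.1 (hn ha)]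
  exact d.xphi K c.mK.hK g (h3 h2)

end Cfsg.Agent.Cit.QTwo.CI
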