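import Cfsg.Agent.Cit.QTwo.CaseICfg

/-!
# Case (I) of [Q2]: the element `c`

`Cfg.exists_c`: an element `c` of odd order in `K K'` commuting with `y = zz J`, normalising `K ⊓ S`, with
`phi c ≠ 1`, acting without fixed points on `(K ⊓ S) / ⟨z⟩`.
-/

set_option autoImplicit false
set_option linter.style.haveILetI false
set_option linter.unusedSectionVars false
set_option linter.unusedVariables false

namespace Cfsg.Agent.Cit.QTwo.CI

open Subgroup Cfsg Cit OneBasic SolvTwo TwoFK Cfsg.Agent.Cit.TwoP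

variable {G : Type*} [Group G] [Finite G] {Om : Set (Subgroup G)} {A : Type*} [CommGroup A] {phi : G →* A}

/-- an element of `K` normalising `Q`, centralising `B` -/
theorem Dat.exists_k (d : Dat Om phi) {K Q B : Subgroup G} (hK : K ∈ Om) (hQ : Syl Q K) (hB : IsPGroup 2 B)
    (hBK : B ≤ normalizer (K : Set G)) (hBQ : ∀ b ∈ B, ∀ x ∈ Q, b * x = x * b) :
    ∃ k ∈ K, k ∈ normalizer (Q : Set G) ∧ (∀ b ∈ B, b * k = k * b) ∧ phi k ≠ 1 := by
  have h1 : K ∈ SubCent.cov Om (centralizer (B : Set G)) :=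
    (SubCent.mem_cov_centralizer d.hyp hB).2 ⟨hK, Trivial.commutator_le d.hyp hK hQ hB hBK hBQ⟩
  obtain ⟨k0, hk0, h0⟩ := (d.ft K hK).ex
  obtain ⟨o, ho, x, ⟨hxK, hxB⟩, rfl⟩ := SubCent.exists_mul h1 hk0
  have hx0 : phi x ≠ 1 := by
    intro h2
    apply h0
    rw [map_mul, h2, mul_one, (d.ft K hK).core o ho]
  have hQB : Q ≤ centralizer (B : Set G) := fun q hq => by
    rw [mem_centralizer_iff]; exact fun b hb => hBQ b hb q hq
  have hodd : ¬ 2 ∣ Nat.card (OO K ⊓ centralizer (B : Set G) : Subgroup G) := fun h =>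
    odd_OO K (h.trans (card_dvd_of_le inf_le_left))
  have hn : Q ≤ normalizer ((OO K ⊓ centralizer (B : Set G) : Subgroup G) : Set G) := by
    intro q hq
    rw [mem_normalizer_iff_cj, cj_inf, mem_normalizer_iff_cj.1 (le_normalizer_OO K (hQ.1 hq)),
      mem_normalizer_iff_cj.1 (le_normalizer (hQB hq))]
  -- conjugates of elements of `Q` under `x`
  have h2 : ∀ q ∈ Q, ∃ q' ∈ Q, x * q * x⁻¹ * q'⁻¹ ∈ OO K ⊓ centralizer (B : Set G) := by
    intro q hq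
    have h3 : x * q * x⁻¹ ∈ K := K.mul_mem (K.mul_mem hxK (hQ.1 hq)) (K.inv_mem hxK)
    have h4 : IsPGroup 2 (zpowers (x * q * x⁻¹)) := by
      have := isPGroup_cj (g := x) (isP_of_mem hQ.2.1 hq)
      rw [cj_def, MonoidHom.map_zpowers] at this
      exact this
    obtain ⟨q', hq', n, hn', h5⟩ := exists_mul_of_two (d.ty hK) hQ h3 h4
    refine ⟨q', hq', mem_inf.2 ⟨?_, ?_⟩⟩
    · rw [h5]
      exact (mem_normalizer_iff.1 (le_normalizer_OO K (hQ.1 hq')) n).1 hn'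
    · exact mul_mem (mul_mem (mul_mem hxB (hQB hq)) (inv_mem hxB)) (inv_mem (hQB hq'))
  obtain ⟨n, hn', h3⟩ := conj_mod_odd (N := OO K ⊓ centralizer (B : Set G)) (A := Q) (B := cj x Q) hodd hQ.2.1 hn
    (isPGroup_cj hQ.2.1) (by
      rintro _ ⟨q, hq, rfl⟩
      obtain ⟨q', hq', h4⟩ := h2 q hq
      have h5 := mul_mem (mem_sup_right h4 : _ ∈ Q ⊔ (OO K ⊓ centralizer (B : Set G))) (mem_sup_left hq')
      rwa [inv_mul_cancel_right] at h5)
  refine ⟨n * x, K.mul_mem (OO_le K hn'.1) hxK, ?_, ?_, ?_⟩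
  · rw [mem_normalizer_iff_cj]
    refine eq_of_le_of_card_ge ?_ (by rw [card_cj])
    rintro _ ⟨q, hq, rfl⟩
    obtain ⟨q', hq', h4⟩ := h2 q hq
    have h5 := h3 _ (conj_mem_cj hq) q' hq' h4
    change n * x * q * (n * x)⁻¹ ∈ Q
    rw [show n * x * q * (n * x)⁻¹ = n * (x * q * x⁻¹) * n⁻¹ by group, h5]
    exact hq'
  · intro b hb
    exact mem_centralizer_iff.1 (mul_mem hn'.2 hxB) b hb
  · rw [map_mul, (d.ft K hK).core n hn'.1, one_mul]
    exact hx0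

/-- an element of odd order: `g ^ 2 ^ n` -/
theorem exists_two_pow (g : G) : ∃ n : ℕ, Odd (orderOf (g ^ 2 ^ n)) := by
  obtain ⟨k, m, hm, h1⟩ := Nat.exists_eq_two_pow_mul_odd (orderOf_pos g).ne'
  refine ⟨k, ?_⟩
  rw [orderOf_pow, h1, Nat.gcd_eq_right (Dvd.intro _ rfl), Nat.mul_div_cancel_left _ (by positivity)]
  exact hm

theorem phi_two_pow {K : Subgroup G} (h : FT phi K) {g : G} (hg : phi g ≠ 1) (n : ℕ) : phi (g ^ 2 ^ n) ≠ 1 := by
  induction n with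
  | zero => rwa [pow_zero, pow_one]
  | succ n ih =>
    rw [pow_succ, pow_mul, pow_two, map_mul]
    exact h.phi_sq_ne ih

namespace Cfg

variable {K K' J J' T S S' : Subgroup G}

theorem conj_conj (d : Dat Om phi) (c : Cfg Om K K' J J' T S S') (x : G) :
    zz J * (zz J * x * (zz J)⁻¹) * (zz J)⁻¹ = x := by
  calc zz J * (zz J * x * (zz J)⁻¹) * (zz J)⁻¹ = (zz J * zz J) * x * (zz J * zz J)⁻¹ := by group
    _ = x := by rw [c.yy d]; group

/-- **the element `c`** -/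
theorem exists_c (d : Dat Om phi) (c : Cfg Om K K' J J' T S S') :
    ∃ a ∈ K ⊔ K', a * zz J = zz J * a ∧ a ∈ normalizer ((K ⊓ S : Subgroup G) : Set G) ∧ Odd (orderOf a) ∧
      phi a ≠ 1 ∧ ∀ x ∈ K ⊓ S, x * x = zz K → a * x * a⁻¹ ≠ x ∧ a * x * a⁻¹ ≠ zz K * x := by
  have hK := c.mK.hK
  have hK' := c.mK.hL
  have hQ := c.sylK d
  have hQ' := c.sylK' d
  have hyi : (zz J)⁻¹ = zz J := d.hyp.zz_inv c.mJ.hK
  obtain ⟨k, hkK, hkQ, hkB, hk1⟩ := d.exists_k hK hQ hQ'.2.1 ((inf_le_left).trans (c.mK.symm.le_normalizer d.hyp))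
    (fun b hb x hx => (c.commQ d hx hb).symm)
  obtain ⟨k', hk'⟩ : ∃ k', k' = zz J * k * (zz J)⁻¹ := ⟨_, rfl⟩
  have hk'K : k' ∈ K' := by rw [hk', ← c.swapK d]; exact conj_mem_cj hkK
  have hk'k : zz J * k' * (zz J)⁻¹ = k := by rw [hk', c.conj_conj d]
  have hcjS' : cj (zz J) (K' ⊓ S) = K ⊓ S := c.mate.cj_inf_S d
  -- `k'` commutes with `Q₁`
  have hk'c : ∀ a ∈ K ⊓ S, a * k' = k' * a := by
    intro a ha
    have h1 := hkB _ (c.conj_mem d ha)
    have h2 : zz J * (zz J * a * (zz J)⁻¹ * k) * (zz J)⁻¹ = zz J * (k * (zz J * a * (zz J)⁻¹)) * (zz J)⁻¹ := by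
      rw [h1]
    calc a * k' = (zz J * (zz J * a * (zz J)⁻¹) * (zz J)⁻¹) * (zz J * k * (zz J)⁻¹) := by
          rw [c.conj_conj d, hk']
      _ = zz J * (zz J * a * (zz J)⁻¹ * k) * (zz J)⁻¹ := by group
      _ = zz J * (k * (zz J * a * (zz J)⁻¹)) * (zz J)⁻¹ := h2
      _ = (zz J * k * (zz J)⁻¹) * (zz J * (zz J * a * (zz J)⁻¹) * (zz J)⁻¹) := by group
      _ = k' * a := by rw [c.conj_conj d, hk']
  have cent_norm : ∀ (R : Subgroup G) (g : G), (∀ a ∈ R, a * g = g * a) → g ∈ normalizer (R : Set G) :=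
    fun R g h => mem_normalizer_of_cent fun a ha => (h a ha).symm
  have hkQ' : k ∈ normalizer ((K' ⊓ S : Subgroup G) : Set G) := cent_norm _ _ hkB
  have hk'Q : k' ∈ normalizer ((K ⊓ S : Subgroup G) : Set G) := cent_norm _ _ hk'c
  have hk'Q' : k' ∈ normalizer ((K' ⊓ S : Subgroup G) : Set G) := by
    rw [mem_normalizer_iff_cj]
    have h1 := mem_normalizer_iff_cj.1 hkQ
    calc cj k' (K' ⊓ S) = cj (k' * zz J) (K ⊓ S) := by rw [cj_mul, c.cj_inf_S d]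
      _ = cj (zz J * k) (K ⊓ S) := by rw [hk', inv_mul_cancel_right]
      _ = K' ⊓ S := by rw [cj_mul, h1, c.cj_inf_S d]
  -- the odd group
  obtain ⟨M, hM⟩ : ∃ M : Subgroup G, M = OO K ⊓ OO K' ⊓ (normalizer ((K ⊓ S : Subgroup G) : Set G) ⊓
    normalizer ((K' ⊓ S : Subgroup G) : Set G)) := ⟨_, rfl⟩
  have hMK : M ≤ OO K := by rw [hM]; exact inf_le_left.trans inf_le_left
  have hMK' : M ≤ OO K' := by rw [hM]; exact inf_le_left.trans inf_le_right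
  have hMQ : M ≤ normalizer ((K ⊓ S : Subgroup G) : Set G) := by rw [hM]; exact inf_le_right.trans inf_le_left
  have hMo : ¬ 2 ∣ Nat.card M := fun h => odd_OO K (h.trans (card_dvd_of_le hMK))
  have hcj_norm : ∀ (g : G) (R : Subgroup G), cj g (normalizer (R : Set G)) = normalizer ((cj g R : Subgroup G) : Set G) := by
    intro g R
    ext x
    rw [mem_cj, mem_normalizer_iff_cj, mem_normalizer_iff_cj, cj_mul, cj_mul]
    constructor
    · intro h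
      have h2 := congrArg (cj g) h
      rwa [cj_cj_inv] at h2
    · intro h
      rw [h, ← cj_mul, inv_mul_cancel, cj_one]
  have hyM : zz J ∈ normalizer (M : Set G) := by
    rw [mem_normalizer_iff_cj, hM, cj_inf, cj_inf, cj_inf, hcj_norm, hcj_norm, c.cj_inf_S d, hcjS', ← OO_cj,
      ← OO_cj, c.swapK d, c.mate.swapK d, inf_comm (OO K'), inf_comm (normalizer ((K' ⊓ S : Subgroup G) : Set G))]
  have hcom := (d.hyp.h2 K hK K' hK' c.mK.zz).resolve_left c.mK.ne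
  have hkk : k'⁻¹ * k⁻¹ * k' * k ∈ M := by
    have h2 := hcom (inv_mem (commutator_mem_commutator (K.inv_mem hkK) (K'.inv_mem hk'K)))
    rw [commutatorElement_def, show (k⁻¹ * k'⁻¹ * k⁻¹⁻¹ * k'⁻¹⁻¹)⁻¹ = k'⁻¹ * k⁻¹ * k' * k by group] at h2
    rw [hM]
    refine mem_inf.2 ⟨h2, mem_inf.2 ⟨?_, ?_⟩⟩
    · exact mul_mem (mul_mem (mul_mem (inv_mem hk'Q) (inv_mem hkQ)) hk'Q) hkQ
    · exact mul_mem (mul_mem (mul_mem (inv_mem hk'Q') (inv_mem hkQ')) hk'Q') hkQ'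
  -- `g = k k'`
  have hyp2 : IsPGroup 2 (zpowers (zz J)) := isP_of_sq (c.yy d)
  have hgy : (k * k')⁻¹ * zz J * (k * k') * (zz J)⁻¹ ∈ M := by
    have h1 : (k * k')⁻¹ * zz J * (k * k') * (zz J)⁻¹ = k'⁻¹ * k⁻¹ * k' * k := by
      calc (k * k')⁻¹ * zz J * (k * k') * (zz J)⁻¹
          = k'⁻¹ * k⁻¹ * (zz J * k * (zz J)⁻¹) * (zz J * k' * (zz J)⁻¹) := by group
        _ = _ := by rw [hk'k, ← hk']
    rw [h1]; exact hkk
  obtain ⟨n, hn, h3⟩ := conj_mod_odd (N := M) (A := zpowers (zz J)) (B := cj (k * k')⁻¹ (zpowers (zz J))) hMo hyp2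
    (zpowers_le.2 hyM) (isPGroup_cj hyp2) (by
      rw [cj_def, MonoidHom.map_zpowers, zpowers_le]
      change (k * k')⁻¹ * zz J * ((k * k')⁻¹)⁻¹ ∈ _
      rw [inv_inv]
      have h1 := mul_mem (mem_sup_right hgy : _ ∈ zpowers (zz J) ⊔ M) (mem_sup_left (mem_zpowers _))
      rwa [inv_mul_cancel_right] at h1)
  have h4 := h3 ((k * k')⁻¹ * zz J * (k * k')) (by
    have := conj_mem_cj (g := (k * k')⁻¹) (mem_zpowers (zz J))
    rwa [inv_inv] at this) (zz J) (mem_zpowers _) hgy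
  -- `c₀ = g n⁻¹`
  obtain ⟨g, hg⟩ : ∃ g, g = k * k' * n⁻¹ := ⟨_, rfl⟩
  have hgK : g ∈ K ⊔ K' := by
    rw [hg]
    exact mul_mem (mul_mem (mem_sup_left hkK) (mem_sup_right hk'K)) (inv_mem (mem_sup_left (OO_le K (hMK hn))))
  have hgy' : g * zz J = zz J * g := by
    rw [hg]
    have h5 : n * ((k * k')⁻¹ * zz J * (k * k')) = zz J * n := mul_inv_eq_iff_eq_mul.1 h4
    calc k * k' * n⁻¹ * zz J = k * k' * n⁻¹ * (zz J * n) * n⁻¹ := by group
      _ = k * k' * n⁻¹ * (n * ((k * k')⁻¹ * zz J * (k * k'))) * n⁻¹ := by rw [h5]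
      _ = zz J * (k * k' * n⁻¹) := by group
  have hgQ : g ∈ normalizer ((K ⊓ S : Subgroup G) : Set G) := by
    rw [hg]; exact mul_mem (mul_mem hkQ hk'Q) (inv_mem (hMQ hn))
  have hg1 : phi g ≠ 1 := by
    rw [hg, map_mul, map_mul, map_inv, (d.ft K hK).core n (hMK hn), inv_one, mul_one, hk', map_mul, map_mul,
      map_inv, mul_comm (phi (zz J)), mul_assoc (phi k) (phi (zz J)), mul_inv_cancel, mul_one]
    exact (d.ft K hK).phi_sq_ne hk1
  -- action on `Q₁`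
  have hnc : ∀ x ∈ K ⊓ S, n⁻¹ * x * n = x := by
    intro x hx
    have h1 : n⁻¹ * x * n ∈ K ⊓ S := by
      have := (mem_normalizer_iff.1 (hMQ (inv_mem hn)) x).1 hx
      rwa [inv_inv] at this
    have h2 : n⁻¹ * (x * n * x⁻¹) ∈ OO K :=
      (OO K).mul_mem (inv_mem (hMK hn)) ((mem_normalizer_iff.1 (le_normalizer_OO K hx.1) n).1 (hMK hn))
    have h3 : n⁻¹ * x * n * x⁻¹ = 1 := by
      refine inf_OO (K := K) hQ.2.1 (mul_mem h1 (inv_mem hx)) ?_
      rwa [show n⁻¹ * x * n * x⁻¹ = n⁻¹ * (x * n * x⁻¹) by group]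
    exact mul_inv_eq_one.1 h3
  have hact : ∀ x ∈ K ⊓ S, g * x * g⁻¹ = k * x * k⁻¹ := by
    intro x hx
    rw [hg]
    calc k * k' * n⁻¹ * x * (k * k' * n⁻¹)⁻¹ = k * (k' * (n⁻¹ * x * n)) * k'⁻¹ * k⁻¹ := by group
      _ = k * (x * k') * k'⁻¹ * k⁻¹ := by rw [hnc x hx, hk'c x hx]
      _ = k * x * k⁻¹ := by group
  have hactn : ∀ m : ℕ, ∀ x ∈ K ⊓ S, g ^ m * x * (g ^ m)⁻¹ = k ^ m * x * (k ^ m)⁻¹ := by
    intro m
    induction m with
    | zero => intro x hx; simp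
    | succ m ih =>
      intro x hx
      have h1 : k ^ m * x * (k ^ m)⁻¹ ∈ K ⊓ S := (mem_normalizer_iff.1 (pow_mem hkQ m) x).1 hx
      calc g ^ (m + 1) * x * (g ^ (m + 1))⁻¹ = g * (g ^ m * x * (g ^ m)⁻¹) * g⁻¹ := by rw [pow_succ']; group
        _ = k * (k ^ m * x * (k ^ m)⁻¹) * k⁻¹ := by rw [ih x hx, hact _ h1]
        _ = _ := by rw [pow_succ']; group
  obtain ⟨m, hm⟩ := exists_two_pow g
  refine ⟨g ^ 2 ^ m, pow_mem hgK _, ((show Commute g (zz J) from hgy').pow_left _).eq, pow_mem hgQ _, hm,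
    phi_two_pow (d.ft K hK) hg1 m, fun x hx hxx => ?_⟩
  rw [hactn _ x hx]
  exact (d.ft K hK).fpf (d.qz hK hQ) (pow_mem hkK _) (phi_two_pow (d.ft K hK) hk1 m) hx hxx

end Cfg

end Cfsg.Agent.Cit.QTwo.CI
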