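import Cfsg.Agent.Cit.QTwo.NnCount

/-!
# R18, leaf [Q2], part (N) and (N')

`main` : (helper149's text 2, (N), (N')) if `y = zz J ∈ S`, then `y = zz K` for some `K ∈ Om(S)`, or `|Om(S)| = 2` and
the two members of `Om(S)` have the same involution.
-/

set_option autoImplicit false
set_option linter.unusedSectionVars false

namespace Cfsg.Agent.Cit.QTwo.Nn

open Subgroup Cfsg Cfsg.Agent.Cit SolvTwo AutAct NnK NnMove NnCount
open scoped commutatorElement

variable {G : Type*} [Group G] [Finite G] {Om : Set (Subgroup G)} {S : Sylow 2 G} {y : G}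

/-- **(N4), (N')**: at most two members over `y` -/
theorem false_of_le_two (m : Mv Om S y) (w : NW Om) (h2 : (Ov Om y).ncard ≤ 2) {K : Subgroup G}
    (hK : K ∈ OmS Om (S : Subgroup G)) (hne : y * zz K ≠ zz K * y) : False := by
  obtain ⟨J, hJ, hJy⟩ := m.ex
  obtain ⟨c, v, n, hc⟩ := w.hyp.exists_gq hK.1 (syl_inf S.isPGroup' hK)
  obtain ⟨q₁, h1, q₂, hq2, o1, o2, o12, hz21⟩ := hc.exists_pair
  have hzS : zz K ∈ K ⊓ (S : Subgroup G) := hc.z_mem
  have hzz := w.hyp.zz_mul hK.1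
  -- `s = z z^y`
  have hs1 : vv y (zz K) ≠ 1 := by
    intro h
    apply hne
    unfold vv at h
    have h3 := eq_inv_of_mul_eq_one_right h
    rw [w.hyp.zz_inv hK.1, mul_inv_eq_iff_eq_mul] at h3
    exact h3
  have hss : vv y (zz K) * vv y (zz K) = 1 := by
    rw [← m.vv_mul w hK hzS hzS, hzz, Mv.vv_one]
  have hsC : ∀ x ∈ K ⊓ (S : Subgroup G), vv y (zz K) * x = x * vv y (zz K) := by
    intro x hx
    have e := m.vv_conj w hK hzS hx
    have e2 : zz K * x * (zz K)⁻¹ = x := by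
      rw [← w.hyp.comm_zz hK.1 (le_normalizer hx.1), mul_inv_cancel_right]
    rw [e2] at e
    calc vv y (zz K) * x = (vv y (zz K) * x * (vv y (zz K))⁻¹) * vv y (zz K) := by group
      _ = x * vv y (zz K) := by rw [e]
  -- no element `vv q`, `q² = z`, normalises a member over `y`
  have key : ∀ q ∈ K ⊓ (S : Subgroup G), orderOf q = 4 → vv y q ∉ normalizer (J : Set G) := by
    intro q hq ho hN
    have hsq : vv y q * vv y q = vv y (zz K) := by
      rw [← m.vv_mul w hK hq hq, w.hyp.sq_eq_zz hK.1 hq.1 ho]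
    have hT := triv_sq w hJ hN (isP_zpowers_of S.isPGroup' (DD_le (m.vv_mem w hK hq)))
    have hN2 := mul_mem hN hN
    rw [hsq] at hT hN2
    have h3 := w.kl S _ (m.vv_mem w hK hzS) hss hs1 K hK hsC J hJ hN2 hT (by rw [hJy]; exact m.yS)
    rw [hJy, mem_normalizer_iff_cj] at h3
    exact m.mv K hK h3
  have hq12 : q₁⁻¹ * q₂ ∈ K ⊓ (S : Subgroup G) := mul_mem (inv_mem h1) hq2
  have ho : orderOf (q₁⁻¹ * q₂) = 4 := by
    have h3 : q₁⁻¹ * q₂ = (q₁ * q₂) * zz K := by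
      have h4 : q₁⁻¹ = q₁ * zz K := by
        rw [inv_eq_iff_mul_eq_one, ← mul_assoc, w.hyp.sq_eq_zz hK.1 h1.1 o1, hzz]
      rw [h4, mul_assoc, mul_assoc, w.hyp.comm_zz hK.1 (le_normalizer hq2.1)]
    have h5 : (q₁⁻¹ * q₂) * (q₁⁻¹ * q₂) = zz K := by
      rw [h3]
      have h6 := w.hyp.comm_zz hK.1 (le_normalizer (mul_mem h1 hq2).1)
      calc (q₁ * q₂) * zz K * ((q₁ * q₂) * zz K) = (q₁ * q₂) * (zz K * (q₁ * q₂)) * zz K := by group
        _ = ((q₁ * q₂) * (q₁ * q₂)) * (zz K * zz K) := by rw [← h6]; group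
        _ = zz K := by rw [hzz, mul_one, w.hyp.sq_eq_zz hK.1 (mul_mem h1 hq2).1 o12]
    exact GQ.orderOf_of_sq h5 hzz (w.hyp.zz_ne hK.1)
  have n1 := key _ h1 o1
  have n2 := key _ hq2 o2
  have n12 := key _ hq12 ho
  rw [m.vv_mul w hK (inv_mem h1) hq2, m.vv_inv w hK h1] at n12
  rw [mem_normalizer_iff_cj] at n1 n2 n12
  have hJO : J ∈ Ov Om y := ⟨hJ, hJy⟩
  have m1 : cj (vv y q₁) J ∈ Ov Om y := cj_mem_Ov w (m.vv_comm_y w hK h1) hJO
  have m2 : cj (vv y q₂) J ∈ Ov Om y := cj_mem_Ov w (m.vv_comm_y w hK hq2) hJO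
  have hne12 : cj (vv y q₁) J ≠ cj (vv y q₂) J := by
    intro h
    apply n12
    rw [cj_mul, ← h, cj_inv_cj]
  have h3 : ({J, cj (vv y q₁) J, cj (vv y q₂) J} : Set (Subgroup G)) ⊆ Ov Om y := by
    rintro L (rfl | rfl | rfl)
    · exact hJO
    · exact m1
    · exact m2
  have h4 := Set.ncard_le_ncard h3 (Set.toFinite _)
  have h5 : ({J, cj (vv y q₁) J, cj (vv y q₂) J} : Set (Subgroup G)).ncard = 3 :=
    Set.ncard_eq_three.2 ⟨_, _, _, Ne.symm n1, Ne.symm n2, hne12, rfl⟩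
  omega

/-- **(N5)**: the element `c` -/
theorem exists_c (m : Mv Om S y) (w : NW Om) {K : Subgroup G} (hK : K ∈ OmS Om (S : Subgroup G))
    (hyz : y * zz K = zz K * y) {k : G} (hk : KD Om (S : Subgroup G) K k) :
    ∃ c, c * y = y * c ∧ c * zz K = zz K * c ∧
      (∀ L ∈ OmS Om (S : Subgroup G), L ≠ K → L ≠ cj y K → ∀ b ∈ L ⊓ (S : Subgroup G), c * b = b * c) ∧
      ∀ q ∈ K ⊓ (S : Subgroup G), c * vv y q * c⁻¹ = vv y (k * q * k⁻¹) := by
  have hK' := m.cj_mem w hK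
  have hne : cj y K ≠ K := m.mv K hK
  have hyi := m.y_inv w
  obtain ⟨k', hk'⟩ : ∃ k', k' = y * k * y⁻¹ := ⟨_, rfl⟩
  have hyk' : y * k' * y⁻¹ = k := by rw [hk', m.conj_conj w]
  have hk'm : k' ∈ cj y K := by rw [hk']; exact conj_mem_cj hk.mem
  have hzK' : zz (cj y K) = zz K := by rw [w.hyp.zz_cj hK.1, hyz, mul_inv_cancel_right]
  -- commuting
  have ck : ∀ L ∈ OmS Om (S : Subgroup G), L ≠ K → ∀ b ∈ L ⊓ (S : Subgroup G), k * b = b * k := hk.cen
  have ck' : ∀ L ∈ OmS Om (S : Subgroup G), L ≠ cj y K → ∀ b ∈ L ⊓ (S : Subgroup G), k' * b = b * k' := by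
    intro L hL hLK b hb
    have h1 := hk.cen (cj y L) (m.cj_mem w hL) (fun h => hLK (by rw [← h, m.cj_cj w])) _ (m.conj_mem hb)
    calc k' * b = (y * k * y⁻¹) * (y * (y * b * y⁻¹) * y⁻¹) := by rw [m.conj_conj w, hk']
      _ = y * (k * (y * b * y⁻¹)) * y⁻¹ := by group
      _ = y * ((y * b * y⁻¹) * k) * y⁻¹ := by rw [h1]
      _ = (y * (y * b * y⁻¹) * y⁻¹) * (y * k * y⁻¹) := by group
      _ = b * k' := by rw [m.conj_conj w, hk']
  -- `N₀`
  let N₀ : Subgroup G := OO K ⊓ OO (cj y K)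
  have hN₀ : ¬ 2 ∣ Nat.card N₀ := fun h => odd_OO K (h.trans (card_dvd_of_le inf_le_left))
  have hyN : y ∈ normalizer (N₀ : Set G) := by
    rw [mem_normalizer_iff_cj]
    show cj y (OO K ⊓ OO (cj y K)) = _
    rw [cj_inf, ← OO_cj, ← OO_cj, m.cj_cj w, inf_comm]
  have hDN : ∀ d ∈ DD Om (S : Subgroup G), d ∈ normalizer (N₀ : Set G) := by
    intro d hd
    have h1 := w.hyp.DD_le_normalizer S.isPGroup' hK hd
    have h2 := w.hyp.DD_le_normalizer S.isPGroup' hK' hd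
    rw [mem_normalizer_iff_cj] at h1 h2 ⊢
    show cj d (OO K ⊓ OO (cj y K)) = _
    rw [cj_inf, ← OO_cj, ← OO_cj, h1, h2]
  obtain ⟨c, -, hc⟩ := NnFix.exists_fix S.isPGroup' hN₀ (k * k')
  have hone : ∀ g ∈ (S : Subgroup G), ∀ h ∈ DD Om (S : Subgroup G), g * (k * k') = (k * k') * h → g * c = c * h := by
    intro g hg h hh hgh
    refine hc g hg h (DD_le hh) (hDN h hh) ?_
    have h1 : (k * k')⁻¹ * g * (k * k') * h⁻¹ = 1 := by
      rw [mul_assoc _ g, hgh, inv_mul_cancel_left, mul_inv_cancel]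
    rw [h1]
    exact one_mem _
  refine ⟨c, ?_, ?_, ?_, ?_⟩
  · -- `y`
    refine (hc y m.yS y m.yS hyN ?_).symm
    have h1 : (k * k')⁻¹ * y * (k * k') * y⁻¹ = (k * k')⁻¹ * ((y * k * y⁻¹) * (y * k' * y⁻¹)) := by group
    rw [h1, hyk', ← hk']
    have h2 : (k * k')⁻¹ * (k' * k) = ⁅k'⁻¹, k⁻¹⁆ := by
      rw [commutatorElement_def]; group
    rw [h2]
    rcases w.hyp.h2 K hK.1 _ hK'.1 hzK'.symm with h3 | h3
    · exact absurd h3.symm hne
    · refine h3 ?_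
      rw [commutator_comm]
      exact commutator_mem_commutator (inv_mem hk'm) (inv_mem hk.mem)
  · -- `zz K`
    have hzS := w.hyp.zz_mem_inf S.isPGroup' hK
    refine (hone _ hzS.2 _ (inf_le_DD hK hzS) ?_).symm
    have e1 := w.hyp.comm_zz hK.1 (le_normalizer hk.mem)
    have e2 := w.hyp.comm_zz hK'.1 (le_normalizer hk'm)
    rw [hzK'] at e2
    calc zz K * (k * k') = (zz K * k) * k' := by group
      _ = k * (zz K * k') := by rw [← e1]; group
      _ = k * k' * zz K := by rw [← e2]; group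
  · intro L hL h1 h2 b hb
    refine (hone b hb.2 b (inf_le_DD hL hb) ?_).symm
    have e1 := ck L hL h1 b hb
    have e2 := ck' L hL h2 b hb
    calc b * (k * k') = (b * k) * k' := by group
      _ = k * (b * k') := by rw [← e1]; group
      _ = k * k' * b := by rw [← e2]; group
  · intro q hq
    have hq1 := hk.nor q hq
    have h1 : vv y (k * q * k⁻¹) * c = c * vv y q := by
      refine hone _ (DD_le (m.vv_mem w hK hq1)) _ (m.vv_mem w hK hq) ?_
      have e1 := ck' K hK hne.symm q hq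
      have e2 := ck (cj y K) hK' hne _ (m.conj_mem hq1)
      unfold vv
      have e3 : y * (k * q * k⁻¹) * y⁻¹ * k' = k' * (y * q * y⁻¹) := by rw [hk']; group
      calc (k * q * k⁻¹) * (y * (k * q * k⁻¹) * y⁻¹) * (k * k')
          = (k * q * k⁻¹) * ((y * (k * q * k⁻¹) * y⁻¹) * k) * k' := by group
        _ = (k * q * k⁻¹) * (k * (y * (k * q * k⁻¹) * y⁻¹)) * k' := by rw [e2]
        _ = (k * q) * (y * (k * q * k⁻¹) * y⁻¹ * k') := by group
        _ = k * (q * k') * (y * q * y⁻¹) := by rw [e3]; group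
        _ = k * k' * (q * (y * q * y⁻¹)) := by rw [← e1]; group
    rw [← h1, mul_inv_cancel_right]

/-- **(N5), (N6), (N7)**: an element `d` of `C(y)` normalising all members over `y`, and `vv q` normalises them -/
theorem exists_d (m : Mv Om S y) (w : NW Om) {K : Subgroup G} (hK : K ∈ OmS Om (S : Subgroup G))
    (hyz : y * zz K = zz K * y) (hn : (Ov Om y).ncard = 2 ∨ (Ov Om y).ncard = 4) {k : G}
    (hk : KD Om (S : Subgroup G) K k) :
    (∃ d, (∀ J ∈ Ov Om y, d ∈ normalizer (J : Set G)) ∧ d * y = y * d ∧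
      (∀ L ∈ OmS Om (S : Subgroup G), L ≠ K → L ≠ cj y K → ∀ b ∈ L ⊓ (S : Subgroup G), d * b = b * d) ∧
      ∀ q ∈ K ⊓ (S : Subgroup G), d * vv y q * d⁻¹ = vv y (k * q * k⁻¹)) ∧
      ∀ q ∈ K ⊓ (S : Subgroup G), ∀ J ∈ Ov Om y, vv y q ∈ normalizer (J : Set G) := by
  obtain ⟨c, hcy, hcz, hcL, hcq⟩ := exists_c m w hK hyz hk
  -- the permutations
  have hzy : zz K * y = y * zz K := hyz.symm
  let s : Ov Om y → Ov Om y := fun L => ⟨cj c L.1, cj_mem_Ov w hcy L.2⟩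
  let t : Ov Om y → Ov Om y := fun L => ⟨cj (zz K) L.1, cj_mem_Ov w hzy L.2⟩
  have hs4 : ∀ L ∈ Ov Om y, cj (c ^ 4) L = L := by
    intro L hL
    have h1 := NnFix.perm_four (Y := Ov Om y) (by rwa [Nat.card_coe_set_eq]) s t ?_ ?_ ?_ ?_ ⟨L, hL⟩
    · have h2 : cj c (cj c (cj c (cj c L))) = L := congrArg Subtype.val h1
      rw [← cj_mul, ← cj_mul, ← cj_mul] at h2
      have h3 : c ^ 4 = c * c * c * c := by simp only [pow_succ, pow_zero, one_mul]
      rw [h3]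
      exact h2
    · intro i
      refine Subtype.ext ?_
      show cj (zz K) (cj (zz K) i.1) = i.1
      rw [← cj_mul, w.hyp.zz_mul hK.1, cj_one]
    · intro i hi
      have h2 : cj (zz K) i.1 = i.1 := congrArg Subtype.val hi
      have h3 := w.f3 i.1 i.2.1 K hK.1 (mem_normalizer_iff_cj.2 h2)
      rw [i.2.2, mem_normalizer_iff_cj] at h3
      exact m.mv K hK h3
    · intro i
      refine Subtype.ext ?_
      show cj c (cj (zz K) i.1) = cj (zz K) (cj c i.1)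
      rw [← cj_mul, ← cj_mul, hcz]
    · intro i j hij
      have h2 : cj c i.1 = cj c j.1 := congrArg Subtype.val hij
      exact Subtype.ext (cj_inj.1 h2)
  have hd4 : ∀ q ∈ K ⊓ (S : Subgroup G), c ^ 4 * vv y q * (c ^ 4)⁻¹ = vv y (k * q * k⁻¹) := by
    intro q hq
    have q1 := hk.nor q hq
    have q2 := hk.nor _ q1
    have q3 := hk.nor _ q2
    have h1 : c ^ 4 * vv y q * (c ^ 4)⁻¹ = c * (c * (c * (c * vv y q * c⁻¹) * c⁻¹) * c⁻¹) * c⁻¹ := by
      have h3 : c ^ 4 = c * c * c * c := by simp only [pow_succ, pow_zero, one_mul]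
      rw [h3]; group
    rw [h1, hcq q hq, hcq _ q1, hcq _ q2, hcq _ q3, hk.three _ q1]
  have hdN : ∀ J ∈ Ov Om y, c ^ 4 ∈ normalizer (J : Set G) := fun J hJ =>
    mem_normalizer_iff_cj.2 (hs4 J hJ)
  refine ⟨⟨c ^ 4, hdN, ?_, ?_, hd4⟩, ?_⟩
  · exact (Commute.pow_left (show Commute c y from hcy) 4).eq
  · intro L hL h1 h2 b hb
    exact (Commute.pow_left (show Commute c b from hcL L hL h1 h2 b hb) 4).eq
  · intro p hp J hJ
    obtain ⟨q, hq, hqp⟩ := hk.ex p hp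
    have hq1 := hk.nor q hq
    -- `(vv q)⁻¹ (d vv q d⁻¹)` normalises `J`
    have hvq : vv y q * y = y * vv y q := m.vv_comm_y w hK hq
    have hN : (vv y q)⁻¹ * (c ^ 4 * vv y q * (c ^ 4)⁻¹) ∈ normalizer (J : Set G) := by
      rw [mem_normalizer_iff_cj]
      have e1 : cj (c ^ 4)⁻¹ J = J := mem_normalizer_iff_cj.1 (inv_mem (hdN J hJ))
      have e2 : cj (c ^ 4) (cj (vv y q) J) = cj (vv y q) J := hs4 _ (cj_mem_Ov w hvq hJ)
      rw [cj_mul, cj_mul, cj_mul, e1, e2, cj_inv_cj]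
    rw [hd4 q hq, ← m.vv_inv w hK hq, ← m.vv_mul w hK (inv_mem hq) hq1] at hN
    rcases hqp with h | h
    · rwa [h] at hN
    · rw [h] at hN
      have hzS := w.hyp.zz_mem_inf S.isPGroup' hK
      have hvz : vv y (zz K) = 1 := by
        unfold vv
        rw [hyz, mul_inv_cancel_right, w.hyp.zz_mul hK.1]
      rwa [m.vv_mul w hK hp hzS, hvz, mul_one] at hN

/-- the last step of (N) -/
theorem false_of_pairs (m : Mv Om S y) (w : NW Om) (hn : (Ov Om y).ncard = 2 ∨ (Ov Om y).ncard = 4)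
    (hz : ∀ K ∈ OmS Om (S : Subgroup G), y * zz K = zz K * y) {K L : Subgroup G}
    (hK : K ∈ OmS Om (S : Subgroup G)) (hL : L ∈ OmS Om (S : Subgroup G)) (h1 : L ≠ K) (h2 : L ≠ cj y K) :
    False := by
  obtain ⟨J, hJ, hJy⟩ := m.ex
  have hJO : J ∈ Ov Om y := ⟨hJ, hJy⟩
  obtain ⟨k, hk⟩ := exists_kd w.hyp w.ty S.isPGroup' hK
  obtain ⟨l, hl⟩ := exists_kd w.hyp w.ty S.isPGroup' hL
  obtain ⟨⟨d, hdN, hdy, hdL, hdq⟩, hKN⟩ := exists_d m w hK (hz K hK) hn hk
  obtain ⟨-, hLN⟩ := exists_d m w hL (hz L hL) hn hl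
  obtain ⟨f, hf⟩ := exists_fx (w.ty J hJ)
  obtain ⟨fL, hfL⟩ := exists_fx (w.ty L hL.1)
  have hKL : K ≠ cj y L := by
    intro h; apply h2; rw [h, m.cj_cj w]
  have hP : ∀ {M : Subgroup G}, M ∈ OmS Om (S : Subgroup G) → ∀ q ∈ M ⊓ (S : Subgroup G),
      IsPGroup 2 (zpowers (vv y q)) := fun hM q hq =>
    isP_zpowers_of S.isPGroup' (DD_le (m.vv_mem w hM hq))
  -- an element `q` of order 4
  obtain ⟨q, hq, hq4⟩ := w.hyp.exists_four S.isPGroup' hK
  have hqq := w.hyp.sq_eq_zz hK.1 hq.1 hq4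
  obtain ⟨i, hi⟩ := exists_acts w hJ hf (hKN q hq J hJO) (hP hK q hq)
  -- the elements `vv q'`, `q' ∈ L ⊓ S`
  choose r hr hfr using fun j : Fin 4 => hfL.lift w.hyp S.isPGroup' hL (X_rep_two j)
  choose F hF using fun j : Fin 4 => exists_acts w hJ hf (hLN (r j) (hr j) J hJO) (hP hL (r j) (hr j))
  have hinj : Function.Injective F := by
    intro a b hab
    have hT : Triv ((vv y (r a))⁻¹ * vv y (r b)) J :=
      triv_of_acts hf (hLN _ (hr a) J hJO) (hLN _ (hr b) J hJO) (hF a) (by rw [hab]; exact hF b)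
    have hm : (r a)⁻¹ * r b ∈ L ⊓ (S : Subgroup G) := mul_mem (inv_mem (hr a)) (hr b)
    rw [← m.vv_inv w hL (hr a), ← m.vv_mul w hL (inv_mem (hr a)) (hr b)] at hT
    have h3 := m.faith w hK (m.vv_mem w hL hm)
      (fun x hx => m.vv_comm_other w hL hK h1.symm hKL hm hx) hJ hJy (hLN _ hm J hJO) hT
    have h4 : (rep a)⁻¹ * rep b = fL ⟨(r a)⁻¹ * r b, hm.1⟩ := by
      rw [← hfr a, ← hfr b, ← map_inv, ← map_mul]; rfl
    apply X_rep_inj
    rcases m.sq_of_vv_eq_one w hL hm h3 with h5 | h5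
    · left
      rw [h4, hfL.ker]
      show (r a)⁻¹ * r b ∈ OO L
      rw [h5]; exact one_mem _
    · right
      rw [h4, ← hfL.zz w.hyp hL.1]
      congr 1
      exact Subtype.ext h5
  obtain ⟨j, hj⟩ := (Finite.injective_iff_surjective.1 hinj) i
  have hT : Triv ((vv y q)⁻¹ * vv y (r j)) J :=
    triv_of_acts hf (hKN q hq J hJO) (hLN _ (hr j) J hJO) hi (by rw [← hj]; exact hF j)
  have hwN : (vv y q)⁻¹ * vv y (r j) ∈ normalizer (J : Set G) :=
    mul_mem (inv_mem (hKN q hq J hJO)) (hLN _ (hr j) J hJO)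
  have hdJ := hdN J hJO
  have hT2 := triv_conj hwN hdJ hT
  -- `d` centralises `vv (r j)`
  have hcyL : cj y L ≠ K := fun h => hKL h.symm
  have hcyL' : cj y L ≠ cj y K := fun h => h1 (cj_inj.1 h)
  have hd1 := hdL L hL h1 h2 (r j) (hr j)
  have hd2 := hdL (cj y L) (m.cj_mem w hL) hcyL hcyL' _ (m.conj_mem (hr j))
  have hdv : d * vv y (r j) * d⁻¹ = vv y (r j) := by
    unfold vv
    calc d * (r j * (y * r j * y⁻¹)) * d⁻¹ = (d * r j) * (y * r j * y⁻¹) * d⁻¹ := by group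
      _ = r j * (d * (y * r j * y⁻¹)) * d⁻¹ := by rw [hd1]; group
      _ = r j * (y * r j * y⁻¹) := by rw [hd2]; group
  have hq1 := hk.nor q hq
  have h5 : d * ((vv y q)⁻¹ * vv y (r j)) * d⁻¹ = (vv y (k * q * k⁻¹))⁻¹ * vv y (r j) := by
    calc d * ((vv y q)⁻¹ * vv y (r j)) * d⁻¹ = (d * vv y q * d⁻¹)⁻¹ * (d * vv y (r j) * d⁻¹) := by group
      _ = _ := by rw [hdq q hq, hdv]
  rw [h5] at hT2
  have hwN2 : (vv y (k * q * k⁻¹))⁻¹ * vv y (r j) ∈ normalizer (J : Set G) :=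
    mul_mem (inv_mem (hKN _ hq1 J hJO)) (hLN _ (hr j) J hJO)
  have hT3 := triv_mul hwN (inv_mem hwN2) hT (triv_inv hwN2 hT2)
  have h6 : (vv y q)⁻¹ * vv y (r j) * ((vv y (k * q * k⁻¹))⁻¹ * vv y (r j))⁻¹ =
    (vv y q)⁻¹ * vv y (k * q * k⁻¹) := by group
  rw [h6, ← m.vv_inv w hK hq, ← m.vv_mul w hK (inv_mem hq) hq1] at hT3
  have hm : q⁻¹ * (k * q * k⁻¹) ∈ K ⊓ (S : Subgroup G) := mul_mem (inv_mem hq) hq1
  have h7 := m.faith w hL (m.vv_mem w hK hm) (fun x hx => m.vv_comm_other w hK hL h1 h2 hm hx) hJ hJy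
    (hKN _ hm J hJO) hT3
  have h8 := hk.sq q hq hqq
  rcases m.sq_of_vv_eq_one w hK hm h7 with h9 | h9
  · rw [h9, one_mul] at h8
    exact w.hyp.zz_ne hK.1 h8.symm
  · rw [h9, w.hyp.zz_mul hK.1] at h8
    exact w.hyp.zz_ne hK.1 h8.symm

/-- **(N), (N')** -/
theorem main (w : NW Om) (S : Sylow 2 G) {J : Subgroup G} (hJ : J ∈ Om) (hJS : zz J ∈ S) :
    (∃ K ∈ OmS Om (S : Subgroup G), zz K = zz J) ∨
      ((OmS Om (S : Subgroup G)).ncard = 2 ∧
        ∀ K ∈ OmS Om (S : Subgroup G), ∀ L ∈ OmS Om (S : Subgroup G), zz K = zz L) := by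
  classical
  by_cases hC : ∃ K ∈ OmS Om (S : Subgroup G), zz K = zz J
  · exact Or.inl hC
  right
  have m : Mv Om S (zz J) := by
    refine ⟨hJS, ⟨J, hJ, rfl⟩, ?_⟩
    intro K hK h
    exact hC (w.f6 S K hK J hJ hJS (mem_normalizer_iff_cj.2 h))
  obtain ⟨T, hT, hTc⟩ := exists_gd m w
  have hdvd := Ov_dvd w (S := S) hJ
  rw [hTc] at hdvd
  have hpos : 0 < (Ov Om (zz J)).ncard := (Set.ncard_pos (Set.toFinite _)).2 ⟨J, hJ, rfl⟩
  obtain ⟨K₀, hK₀⟩ := w.hyp.OmS_nonempty S ⟨J, hJ⟩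
  have hnpos : 0 < (OmS Om (S : Subgroup G)).ncard := (Set.ncard_pos (Set.toFinite _)).2 ⟨K₀, hK₀⟩
  -- an element of `Om(S)` whose involution does not commute with `y`
  by_cases hT1 : T.card = 1
  · rw [hT1] at hTc hdvd
    refine ⟨hTc, ?_⟩
    by_contra hcon
    push Not at hcon
    obtain ⟨K, hK, L, hL, hne⟩ := hcon
    have h1 := two_mul_le w hJ hK hL hne
    rw [hTc] at h1
    -- `L = cj y K`
    have hLK : L = cj (zz J) K := by
      by_contra hLK
      have hKL : L ≠ K := fun h => hne (by rw [h])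
      have h3 : ({K, cj (zz J) K, L} : Set (Subgroup G)) ⊆ OmS Om (S : Subgroup G) := by
        rintro M (rfl | rfl | rfl)
        · exact hK
        · exact m.cj_mem w hK
        · exact hL
      have h4 := Set.ncard_le_ncard h3 (Set.toFinite _)
      have h5 : ({K, cj (zz J) K, L} : Set (Subgroup G)).ncard = 3 :=
        Set.ncard_eq_three.2 ⟨_, _, _, (m.mv K hK).symm, hKL.symm, fun h => hLK h.symm, rfl⟩
      omega
    refine false_of_le_two m w (by omega) hK ?_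
    intro h
    apply hne
    rw [hLK, w.hyp.zz_cj hK.1, h, mul_inv_cancel_right]
  exfalso
  obtain ⟨a, ha⟩ : ∃ a, T.card = a + 2 := ⟨T.card - 2, by omega⟩
  have h4a := dvd_count m w (a := a) (by rw [hTc, ha])
  have ha0 : a = 0 := by
    rw [ha] at hdvd
    have h5 := h4a.trans hdvd
    have h6 := Nat.le_of_dvd (by omega) h5
    rcases a with _ | _ | a
    · rfl
    · exfalso
      norm_num at h5
    · exfalso
      have h7 : ∀ n : ℕ, 2 * (n + 2 + 2) < 4 ^ (n + 2) := by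
        intro n
        induction n with
        | zero => norm_num
        | succ n ih => rw [pow_succ]; omega
      exact absurd h6 (not_le.2 (h7 a))
  rw [ha0] at ha
  rw [ha] at hTc hdvd
  by_cases hz : ∀ K ∈ OmS Om (S : Subgroup G), zz J * zz K = zz K * zz J
  · -- all commute
    have h2 : 2 ≤ (Ov Om (zz J)).ncard := by
      rw [ncard_Ov w hJ hK₀.1]
      have h3 : ({K₀, cj (zz J) K₀} : Set (Subgroup G)) ⊆ Ov Om (zz K₀) := by
        rintro M (rfl | rfl)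
        · exact ⟨hK₀.1, rfl⟩
        · refine ⟨(m.cj_mem w hK₀).1, ?_⟩
          rw [w.hyp.zz_cj hK₀.1, hz _ hK₀, mul_inv_cancel_right]
      have h4 := Set.ncard_le_ncard h3 (Set.toFinite _)
      rwa [Set.ncard_pair (m.mv K₀ hK₀).symm] at h4
    have h24 : (Ov Om (zz J)).ncard = 2 ∨ (Ov Om (zz J)).ncard = 4 := by
      have h3 := Nat.le_of_dvd (by norm_num) hdvd
      have h4 : (Ov Om (zz J)).ncard ≠ 3 := by
        intro h
        rw [h] at hdvd
        norm_num at hdvd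
      omega
    -- two different orbits
    have hlt : 1 < T.card := by omega
    obtain ⟨K, hK, L, hL, hKL⟩ := Finset.one_lt_card.1 hlt
    exact false_of_pairs m w h24 hz (hT.mem K hK) (hT.mem L hL) hKL.symm (hT.ne K hK L hL)
  · push Not at hz
    obtain ⟨K, hK, hne⟩ := hz
    have h1 := two_mul_le w hJ hK (m.cj_mem w hK) (by
      rw [w.hyp.zz_cj hK.1]
      intro h
      apply hne
      rw [eq_mul_inv_iff_mul_eq] at h
      exact h.symm)
    rw [hTc] at h1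
    exact false_of_le_two m w (by omega) hK hne

end Cfsg.Agent.Cit.QTwo.Nn
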