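import Cfsg.Agent.Cit.QTwo.Cov
import Cfsg.Agent.Cit.QTwo.Nn

/-!
# The world of [Q2]: (N) and (N')

`Wd.nw` : the facts (F1), (F3), (KL), (F6) hold in a world;
`Wd.nn` : (N) and (N').
-/

set_option autoImplicit false

namespace Cfsg.Agent.Cit.QTwo

open Subgroup Cfsg SubCent AutAct

universe u

variable {G : Type u} [Group G] [Finite G] {Om : Set (Subgroup G)} {L : Subgroup G} {A : Type*} [CommGroup A]
  {φ : G →* A}

namespace Wd

variable (w : Wd Om L φ)

include w

/-- a world satisfies the assumptions of part (N) -/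
theorem nw : NnMove.NW Om where
  hyp := w.hyp
  ty := w.ty
  cls := w.cls
  f1 := fun _ hK _ hQ _ hg h2 => w.ori hK hQ hg h2
  f3 := fun _ hK _ hJ h => w.zz_mem_normalizer hK hJ h
  kl := fun S _ hv hvv hne _ hK hc _ hJ hN hT hz =>
    w.kl S.isPGroup' hv hvv hne hK hc (mem_cov_of_triv w.hyp hJ (zpowers_of_sq hvv) hN hT) hz
  f6 := fun S _ hK _ hJ hz hN => w.f6 S hK hJ hz hN

/-- **(N)+(N')** : `z_J` is the involution of a member of `Om(S)`, or `|Om(S)| = 2` with equal involutions -/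
theorem nn (S : Sylow 2 G) {J : Subgroup G} (hJ : J ∈ Om) (hJS : zz J ∈ (S : Subgroup G)) :
    (∃ K ∈ OmS Om (S : Subgroup G), zz K = zz J) ∨
      ((OmS Om (S : Subgroup G)).ncard = 2 ∧
        ∀ K ∈ OmS Om (S : Subgroup G), ∀ L ∈ OmS Om (S : Subgroup G), zz K = zz L) :=
  Nn.main w.nw S hJ hJS

end Wd

end Cfsg.Agent.Cit.QTwo
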