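import Cfsg.Agent.Cit.QTwo.Tzero

/-!
# The world of [Q2]: members covered by `C(v)`, (KL), (F6)

* `exists_conj_of_pCore` : a 2-subgroup mapping into `O₂(C(v)/O(C(v)))` is `O(C(v))`-conjugate into a Sylow
  2-subgroup;
* `Wd.exists_conj_of_cov` : (`v` centralises `D(S)`) the members covered by `C(v)` are `O(C(v))`-conjugate to members
  of `Om(S)`;
* `Wd.kl` : (KL); `Wd.f6` : (F6).
-/

set_option autoImplicit false
set_option linter.style.haveILetI false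
set_option linter.unusedSectionVars false

namespace Cfsg.Agent.Cit.QTwo

open Subgroup Cfsg SubCent AutAct

universe u

variable {G : Type u} [Group G] [Finite G] {Om : Set (Subgroup G)} {L : Subgroup G} {A : Type*} [CommGroup A]
  {φ : G →* A} {K J Q P S T R : Subgroup G} {t v : G}

theorem exists_conj_of_pCore (hT : Syl T (centralizer {v})) (hR : IsPGroup 2 R) (hRv : R ≤ centralizer {v})
    (h : ∀ x (hx : x ∈ centralizer ({v} : Set G)), x ∈ R →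
      pr v ⟨x, hx⟩ ∈ pCore 2 (centralizer ({v} : Set G) ⧸ pPrimeCore 2 (centralizer ({v} : Set G)))) :
    ∃ x ∈ XX v, cj x R ≤ T := by
  haveI : Fact (Nat.Prime 2) := ⟨Nat.prime_two⟩
  set N : Subgroup G := (((T.subgroupOf (centralizer {v})).map (pr v)).comap (pr v)).map
    (centralizer ({v} : Set G)).subtype with hN
  have hmem : ∀ n ∈ N, ∃ t ∈ T, t⁻¹ * n ∈ XX v := by
    rintro _ ⟨n, ⟨y, hy, hyn⟩, rfl⟩
    refine ⟨y, hy, ?_⟩
    have h2 : pr v (y⁻¹ * n) = 1 := by rw [map_mul, map_inv, hyn, inv_mul_cancel]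
    exact pr_eq_one_iff.1 h2
  have hNC : N ≤ centralizer {v} := map_subtype_le _
  have hTN : T ≤ N := fun x hx => ⟨⟨x, hT.1 hx⟩, ⟨⟨x, hT.1 hx⟩, hx, rfl⟩, rfl⟩
  have hRN : R ≤ N := by
    intro x hx
    refine ⟨⟨x, hRv hx⟩, ?_, rfl⟩
    obtain ⟨S', hS'⟩ := hT.exists_sylow
    have h2 := Lib.Cores.pCore_le_sylow (S'.mapSurjective (pr_surjective v)) (h x (hRv hx) hx)
    rw [Sylow.coe_mapSurjective, hS'] at h2
    exact h2
  have hTs : Syl T N := by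
    refine ⟨hTN, hT.2.1, fun h2 => hT.2.2 (h2.trans (Dvd.intro _ (relIndex_mul_relIndex T N _ hTN hNC)))⟩
  obtain ⟨R', hR', hRR'⟩ := exists_syl_ge hR hRN
  obtain ⟨n, hn, hnR⟩ := hR'.exists_conj hTs
  obtain ⟨s, hs, hsn⟩ := hmem n hn
  refine ⟨s⁻¹ * n, hsn, ?_⟩
  rw [cj_mul, cj_le_iff, inv_inv, mem_normalizer_iff_cj.1 (le_normalizer hs), ← hnR]
  exact cj_mono n hRR'

namespace Wd

variable (w : Wd Om L φ)

include w

/-- members covered by `C(v)`, `v` centralising `D(S)` -/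
theorem exists_conj_of_cov (S : Sylow 2 G) (hv1 : v ≠ 1)
    (hc : ∀ x ∈ DD Om (S : Subgroup G), v * x = x * v) (hφ : ∀ x ∈ XX v, φ x = 1)
    (hJ : J ∈ cov Om (centralizer {v})) : ∃ x ∈ XX v, cj x J ∈ OmS Om (S : Subgroup G) := by
  have hDv : DD Om (S : Subgroup G) ≤ centralizer {v} := fun x hx =>
    mem_centralizer_singleton_iff.2 (hc x hx).symm
  obtain ⟨T, hT, hDT⟩ := exists_syl_ge (S.isPGroup'.to_le DD_le) hDv
  obtain ⟨R, hR⟩ := Hyp.exists_syl (J ⊓ centralizer {v})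
  have hRJ : Syl R J := syl_of_syl_inf hJ hR
  have hRm : J ∈ OmS Om R := mem_OmS_of_le hJ.1 hRJ le_rfl
  have hRv : R ≤ centralizer {v} := hR.1.trans inf_le_right
  obtain ⟨x, hx, hxR⟩ := exists_conj_of_pCore hT hR.2.1 hRv fun y hy hyR =>
    w.pr_mem hv1 hφ hJ (hR.1 hyR).1 (w.pow_four hR.2.1 hRm ⟨(hR.1 hyR).1, hyR⟩) hy
  refine ⟨x, hx, ?_⟩
  rw [← w.hyp.OmS_eq S hT.2.1 hDT]
  exact mem_OmS_of_le (w.hyp.conj J hJ.1 x) (hRJ.cj x) hxR

omit w in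
/-- `O(C(v)) ⊓ S = 1` for commutators -/
theorem _root_.Cfsg.Agent.Cit.QTwo.eq_one_of_XX (hP : IsPGroup 2 P) {x : G} (hx : x ∈ P) (hxv : x ∈ XX v) : x = 1 := by
  obtain ⟨b, hb⟩ := exists_pow_of_zpowers (zpowers_of_mem hP hx)
  exact CoreTools.eq_one_of_mem_XX hxv hb

/-- **(KL)** -/
theorem kl (hP : IsPGroup 2 P) (hv : v ∈ DD Om P) (hvv : v * v = 1) (hv1 : v ≠ 1) (hK : K ∈ OmS Om P)
    (hc : ∀ x ∈ K ⊓ P, v * x = x * v) (hJ : J ∈ cov Om (centralizer {v})) (hz : zz J ∈ P) :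
    zz J ∈ normalizer (K : Set G) := by
  have hφ := w.phi_XX hP hv hvv hK hc
  have hKc : K ∈ cov Om (centralizer {v}) :=
    w.mem_cov_of_comm hP hK (DD_le hv) (w.hyp.DD_le_normalizer hP hK hv) hc
  have h1 : ∀ x ∈ K ⊓ P, zz J * x = x * zz J := by
    intro x hx
    have hxv : x ∈ centralizer ({v} : Set G) := mem_centralizer_singleton_iff.2 (hc x hx).symm
    have h2 := w.comm_zz_mem_XX hv1 hφ hKc hJ (x := x) ⟨hx.1, hxv⟩
    have h3 := eq_one_of_XX hP (P.mul_mem (P.mul_mem (P.mul_mem hz hx.2) (P.inv_mem hz)) (P.inv_mem hx.2)) h2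
    rw [mul_inv_eq_one, mul_inv_eq_iff_eq_mul] at h3
    exact h3
  have h2 : cj (zz J) K ∈ OmS Om P := cj_mem_OmS' w.hyp.conj (le_normalizer hz) hK
  obtain ⟨x, hx, hx4⟩ := w.exists_four hP hK
  have h3 : x ∈ cj (zz J) K := by
    rw [mem_cj]
    have : (zz J)⁻¹ * x * zz J = x := by
      rw [mul_assoc, ← h1 x hx]; group
    rw [this]
    exact hx.1
  rw [mem_normalizer_iff_cj]
  by_contra hne
  rcases inf_inf_le w.hyp hP hK h2 (fun h => hne h.symm) hx h3 with h4 | ⟨h4, -⟩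
  · apply w.hyp.zz_ne hK.1
    rw [← hx4, h4, one_mul]
  · apply w.hyp.zz_ne hK.1
    have h5 := w.hyp.zz_mul hK.1
    rw [h4] at hx4
    rw [← hx4, h5]

/-- **(F6)** -/
theorem f6 (S : Sylow 2 G) (hK : K ∈ OmS Om (S : Subgroup G)) (hJ : J ∈ Om) (hz : zz J ∈ (S : Subgroup G))
    (hn : zz J ∈ normalizer (K : Set G)) : ∃ K' ∈ OmS Om (S : Subgroup G), zz K' = zz J := by
  have h1 := w.triv_symm hJ hK.1 hn (w.triv_zz hK.1 hJ hn)
  have h2 : J ∈ cov Om (centralizer {zz K}) :=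
    mem_cov_of_triv w.hyp hJ (zpowers_of_sq (w.hyp.zz_mul hK.1)) h1.1 h1.2
  have hD : ∀ x ∈ DD Om (S : Subgroup G), zz K * x = x * zz K := fun x hx =>
    (mem_centralizer_singleton_iff.1 (w.hyp.DD_le_centralizer S.isPGroup' hK hx)).symm
  obtain ⟨x, hx, hxJ⟩ := w.exists_conj_of_cov S (w.hyp.zz_ne hK.1) hD (w.xphi K hK.1) h2
  refine ⟨cj x J, hxJ, ?_⟩
  rw [w.hyp.zz_cj hJ]
  have hzc : zz J ∈ centralizer ({zz K} : Set G) := w.hyp.normalizer_le hK.1 hn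
  have h3 : x * zz J * x⁻¹ ∈ (S : Subgroup G) := by
    rw [← w.hyp.zz_cj hJ]
    exact (w.hyp.zz_mem_inf S.isPGroup' hxJ).2
  have h4 : x * (zz J * x⁻¹ * (zz J)⁻¹) ∈ XX (zz K) :=
    mul_mem hx ((mem_normalizer_iff.1 (centralizer_le_normalizer_XX (zz K) hzc) _).1 (inv_mem hx))
  have h5 : x * zz J * x⁻¹ * (zz J)⁻¹ = 1 := by
    refine eq_one_of_XX S.isPGroup' (v := zz K) (mul_mem h3 (inv_mem hz)) ?_
    have : x * zz J * x⁻¹ * (zz J)⁻¹ = x * (zz J * x⁻¹ * (zz J)⁻¹) := by group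
    rw [this]
    exact h4
  rwa [mul_inv_eq_one] at h5

end Wd

end Cfsg.Agent.Cit.QTwo
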