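import Cfsg.Agent.Cit.QTwo.TwoEnd
import Cfsg.Agent.Cit.QTwo.Cov

/-!
# R18, leaf [Q2], part (II) on the structure `Wd` (helper818)
-/

set_option autoImplicit false
set_option linter.unusedSectionVars false

namespace Cfsg.Agent.Cit.QTwo

open Subgroup Cfsg Cfsg.Agent.Cit SubCent

universe u

variable {G : Type u} [Group G] [Finite G] {Om : Set (Subgroup G)} {L : Subgroup G} {A : Type*} [CommGroup A]
  {φ : G →* A}

/-- every member of `Om(S)` is centralised by `v ∈ E(S)` on its Sylow 2-subgroup -/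
theorem Wd.twoIn (w : Wd Om L φ) (S : Sylow 2 G)
    (hinv : ∀ J ∈ Om, zz J ∈ (S : Subgroup G) → ∃ K ∈ OmS Om (S : Subgroup G), zz K = zz J) : Two.In Om S where
  hyp := w.hyp
  inv := hinv
  cover := by
    intro v hv hv1 J hJ
    have hvD : v ∈ DD Om (S : Subgroup G) := ES_le_DD w.hyp S.isPGroup' hv
    have hvv : v * v = 1 := ES_sq w.hyp S.isPGroup' hv
    have hcent : ∀ x ∈ DD Om (S : Subgroup G), v * x = x * v := fun x hx =>
      mem_centralizer_iff.1 (DD_le_centralizer_ES w.hyp S.isPGroup' hx) v hv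
    obtain ⟨K, hK⟩ := w.hyp.OmS_nonempty S w.ne
    exact w.exists_conj_of_cov S hv1 hcent
      (w.phi_XX S.isPGroup' hvD hvv hK fun x hx => hcent x (inf_le_DD hK hx)) hJ

/-- **(II)**: `D ∩ S = C` is impossible -/
theorem Wd.false_of_inv (w : Wd Om L φ) (S : Sylow 2 G)
    (hinv : ∀ J ∈ Om, zz J ∈ (S : Subgroup G) → ∃ K ∈ OmS Om (S : Subgroup G), zz K = zz J)
    (h1169 : Two.H1169 ↥L) (hB : CloEnd.Bend ↥L) : False :=
  (w.twoIn S hinv).false_of w.normal w.simple w.odd w.cent w.ne h1169 hB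

end Cfsg.Agent.Cit.QTwo
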