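import Cfsg.Agent.Cit.QTwo.CaseIWord
import Cfsg.Agent.Cit.QTwo.CaseICore
import Cfsg.Agent.Cit.QTwo.NnWd
import Cfsg.Agent.Cit.QTwo.TwoWd

/-!
# Case (I) of [Q2]: the end

`Dat.false_of`: `Dat Om phi`, a commuting pair of involutions `zz K ≠ zz J`, the two inputs (I4)+(I5) and (I6): `False`.
`Wd.false_of_caseI`.
-/

set_option autoImplicit false
set_option linter.style.haveILetI false
set_option linter.unusedSectionVars false
set_option linter.unusedVariables false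

namespace Cfsg.Agent.Cit.QTwo.CI

open Subgroup Cfsg Cit OneBasic SolvTwo TwoFK Cfsg.Agent.Cit.TwoP

section

variable {G : Type*} [Group G] [Finite G] {Om : Set (Subgroup G)} {A : Type*} [CommGroup A] {phi : G →* A}

/-- the configuration of a commuting pair -/
theorem Dat.exists_cfg (d : Dat Om phi) {K J : Subgroup G} (hK : K ∈ Om) (hJ : J ∈ Om) (hne : zz K ≠ zz J)
    (hc : zz K * zz J = zz J * zz K) : ∃ K' J' T S S', Cfg Om K K' J J' T S S' := by
  obtain ⟨K', mK, -⟩ := d.b.exists_mate hK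
  obtain ⟨J', mJ, -⟩ := d.b.exists_mate hJ
  obtain ⟨T, hT⟩ := Hyp.exists_syl (centralizer {zz K} ⊓ centralizer {zz J})
  obtain ⟨S, hS, hTS⟩ := OneBasic.exists_syl_ge hT.2.1 (hT.1.trans inf_le_left)
  obtain ⟨S', hS', hTS'⟩ := OneBasic.exists_syl_ge hT.2.1 (hT.1.trans inf_le_right)
  exact ⟨K', J', T, S, S', ⟨mK, mJ, hne, hc, hT, hS, hS', hTS, hTS'⟩⟩

/-- all Sylow 2-subgroups from one of them -/
theorem twoEq_of_one (h : Hyp Om) (hc : ∀ K ∈ Om, ∀ L ∈ Om, ∃ g, cj g K = L) (S : Sylow 2 G)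
    (h2 : (OmS Om (S : Subgroup G)).ncard = 2)
    (hs : ∀ K ∈ OmS Om (S : Subgroup G), ∀ L ∈ OmS Om (S : Subgroup G), zz K = zz L) : TwoEq Om := by
  haveI : Fact (Nat.Prime 2) := ⟨Nat.prime_two⟩
  have key : ∀ P : Sylow 2 G, ∃ g : G, OmS Om (P : Subgroup G) = cj g '' OmS Om (S : Subgroup G) := by
    intro P
    obtain ⟨g, hg⟩ := MulAction.exists_smul_eq G S P
    have h1 : cj g (S : Subgroup G) = (P : Subgroup G) := by rw [← hg]; rfl
    refine ⟨g, ?_⟩
    ext K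
    constructor
    · intro hK
      refine ⟨cj g⁻¹ K, ?_, cj_cj_inv g K⟩
      have := cj_mem_OmS h.conj g⁻¹ hK
      rwa [← h1, cj_inv_cj] at this
    · rintro ⟨L, hL, rfl⟩
      have := cj_mem_OmS h.conj g hL
      rwa [h1] at this
  refine ⟨h, hc, ?_, ?_⟩
  · intro P
    obtain ⟨g, hg⟩ := key P
    rw [hg, Set.ncard_image_of_injective _ (fun K L h => cj_inj.1 h), h2]
  · intro P K hK L hL
    obtain ⟨g, hg⟩ := key P
    rw [hg] at hK hL
    obtain ⟨K, hK, rfl⟩ := hK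
    obtain ⟨L, hL, rfl⟩ := hL
    rw [h.zz_cj hK.1, h.zz_cj hL.1, hs K hK L hL]

/-- a Sylow 2-subgroup centralises the involution -/
theorem le_centralizer_of_twoEq (b : TwoEq Om) (S : Sylow 2 G) {K : Subgroup G}
    (hK : K ∈ OmS Om (S : Subgroup G)) : (S : Subgroup G) ≤ centralizer {zz K} :=
  TwoP.le_centralizer_zz b hK.1 (Cit.syl_inf S.isPGroup' hK) inf_le_right S.isPGroup'

end

/-! ### normal subgroups of a group with a simple `L`, `C(L) = 1` -/

theorem centralizer_eq_bot {G : Type*} [Group G] [Finite G] {L : Subgroup G} (hL : L.Normal)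
    (hs : IsSimpleGroup L) (hc : centralizer (L : Set G) = ⊥) (N : Subgroup G) (hN : N.Normal)
    (hsol : ¬ Group.IsSolvable N) : centralizer (N : Set G) = ⊥ := by
  haveI := hs
  have h1 : (N.subgroupOf L).Normal := inferInstance
  rcases h1.eq_bot_or_eq_top with h2 | h2
  · exfalso
    rw [subgroupOf_eq_bot] at h2
    have h3 : ⁅N, L⁆ ≤ N ⊓ L := commutator_le_inf N L
    rw [disjoint_iff.1 h2, le_bot_iff, commutator_eq_bot_iff_le_centralizer, hc, le_bot_iff] at h3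
    apply hsol
    rw [h3]
    infer_instance
  · rw [subgroupOf_eq_top] at h2
    rw [eq_bot_iff, ← hc]
    exact centralizer_le h2

/-! ### The end -/

section

variable {G : Type*} [Group G] [Finite G] {Om : Set (Subgroup G)} {A : Type*} [CommGroup A] {phi : G →* A}

/-- the output of (I4), (I5): `C_S(Q₁Q₂) = ⟨z⟩` -/
def Cent (Om : Set (Subgroup G)) : Prop := ∀ (K K' J J' T S S' : Subgroup G) (i j p q : G),
  Fr Om K K' J J' T S S' i j p q → ∀ s ∈ S, (∀ x ∈ K ⊓ S, s * x = x * s) → (∀ x ∈ K' ⊓ S, s * x = x * s) →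
    s = 1 ∨ s = zz K

theorem Dat.false_of (d : Dat Om phi) (hC : Cent Om) {K J : Subgroup G} (hK : K ∈ Om) (hJ : J ∈ Om)
    (hne : zz K ≠ zz J) (hc : zz K * zz J = zz J * zz K) : False := by
  obtain ⟨K', J', T, S, S', c⟩ := d.exists_cfg hK hJ hne hc
  obtain ⟨i, j, p, q, f⟩ := c.exists_fr d
  obtain ⟨g, hg, hg1, hz, hy, hV⟩ := f.exists_f d
  exact hg1 (c.phi_eq_one d (fun s hs h1 h2 => hC _ _ _ _ _ _ _ _ _ _ _ f s hs h1 h2) hg hz hy hV)

end

end CI

open Subgroup Cfsg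

universe u

variable {G : Type u} [Group G] [Finite G] {Om : Set (Subgroup G)} {L : Subgroup G} {A : Type*} [CommGroup A]
  {φ : G →* A}

/-- the data of case (I) from the world -/
theorem Wd.dat (w : Wd Om L φ) (b : TwoFK.TwoEq Om) : CI.Dat Om φ where
  b := b
  ft := fun K hK => ⟨w.ty K hK, w.two, w.phi_OO hK, w.kphi K hK⟩
  xphi := w.xphi

/-- **[Q2]**: there is no world, up to (I4), (I5) -/
theorem Wd.false_of_cent (w : Wd Om L φ) (h1169 : Two.H1169 ↥L) (hB : CloEnd.Bend ↥L)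
    (hC : CI.Dat Om φ → CI.Cent Om) : False := by
  haveI : Fact (Nat.Prime 2) := ⟨Nat.prime_two⟩
  obtain ⟨S⟩ : Nonempty (Sylow 2 G) := inferInstance
  refine w.false_of_inv S (fun J hJ hJS => ?_) h1169 hB
  rcases w.nn S hJ hJS with h | ⟨h2, hs⟩
  · exact h
  by_contra hno
  push Not at hno
  have b : TwoFK.TwoEq Om := CI.twoEq_of_one w.hyp (fun K hK L hL => by
    obtain ⟨g, hg⟩ := w.cls K hK L hL
    exact ⟨g, hg.symm⟩) S h2 hs
  obtain ⟨K, hK⟩ := w.hyp.OmS_nonempty S ⟨J, hJ⟩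
  have hc := CI.le_centralizer_of_twoEq b S hK hJS
  exact (w.dat b).false_of (hC (w.dat b)) hK.1 hJ (hno K hK) (mem_centralizer_singleton_iff.1 hc).symm

end Cfsg.Agent.Cit.QTwo
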