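import Cfsg.Agent.Cit.QTwo.CaseISyl
import Cfsg.Agent.Cit.QTwo.CaseIEnd

/-!
# [Q2]: there is no world

`Wd.false_of`: from S1169 and Bender's theorem for `L`, S1173 for `G`.
-/

set_option autoImplicit false

namespace Cfsg.Agent.Cit.QTwo

open Subgroup Cfsg

universe u

variable {G : Type u} [Group G] [Finite G] {Om : Set (Subgroup G)} {L : Subgroup G} {A : Type*} [CommGroup A]
  {φ : G →* A}

/-- **[Q2]**: there is no world -/
theorem Wd.false_of (w : Wd Om L φ) (h1169 : Two.H1169 ↥L) (hB : CloEnd.Bend ↥L) (h1173 : OneF.H1173 G) :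
    False :=
  w.false_of_cent h1169 hB fun d _ _ _ _ _ _ _ _ _ _ _ f _ hs h1 h2 =>
    f.cent d h1173 (CI.centralizer_eq_bot w.normal w.simple w.cent) hs h1 h2

end Cfsg.Agent.Cit.QTwo
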