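import Cfsg.Agent.Cit.QTwo.CaseIWord
import Cfsg.Agent.Cit.TBasic

/-!
# Case (I) of [Q2]: the centraliser of `Q₁ Q₂` in `S` is `⟨z⟩` ((I4), (I5))

`Fr Om K K' J J' T S S' i j p q`, `z = zz K`, `y = zz J`, `Q₁ = K ⊓ S`, `Q₂ = K' ⊓ S`.
* `RR K K' S = C_S(Q₁ Q₂)`, `R1 u`: `u ∈ S` is `⊥` all members over `z` and `y`.
* `Fr.mem_R1` : `r ∈ RR` commuting with `y` : `r` or `z r` is in `R1`.
* `Fr.comm_y` : `RR` centralises `y`.
* `Fr.zz_cases` : the involutions of members in `S` are `z` and the conjugates of `y` under `Q₁`.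
* `Fr.l2`, `Fr.crit` : `L2 Om`, `Crit Om`.
* `Fr.cent` : `RR = ⟨z⟩`.
-/

set_option autoImplicit false
set_option linter.style.haveILetI false
set_option linter.unusedSectionVars false
set_option linter.unusedVariables false

namespace Cfsg.Agent.Cit.QTwo.CI

open Subgroup Cfsg Cit OneBasic SolvTwo TwoFK Cfsg.Agent.Cit.TwoP

variable {G : Type*} [Group G] [Finite G] {Om : Set (Subgroup G)} {A : Type*} [CommGroup A] {phi : G →* A}
  {K K' J J' T S S' : Subgroup G} {i j p q : G}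

/-- an element of `Q` anticommuting with an element of order 4 -/
theorem QZ.exists_anti {Q : Subgroup G} {z : G} (h : QZ K Q z) {x : G} (hx : x ∈ Q) (hxx : x * x = z) :
    ∃ q ∈ Q, q * q = z ∧ q * x * q⁻¹ = z * x := by
  obtain ⟨i, hi, j, hj, hi2, hj2, hji, hji'⟩ := h.exists_ij
  have hzx : z * x = x * z := by rw [← hxx, mul_assoc]
  have key : ∀ a ∈ Q, a * a = z → a ≠ x → a ≠ z * x → a * x * a⁻¹ = z * x := by
    intro a ha haa h1 h2
    have h3 := h.anti hx ha hxx haa h1 h2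
    have h4 : a * x = z * x * a := by
      calc a * x = (z * z) * (a * x) := by rw [h.sq, one_mul]
        _ = z * (z * (a * x)) := by rw [mul_assoc]
        _ = z * x * a := by rw [← h3, mul_assoc]
    rw [h4, mul_inv_cancel_right]
  by_cases h1 : i = x
  · exact ⟨j, hj, hj2, key j hj hj2 (by rw [← h1]; exact hji) (by rw [← h1]; exact hji')⟩
  by_cases h2 : i = z * x
  · refine ⟨j, hj, hj2, key j hj hj2 ?_ ?_⟩
    · intro h3
      apply hji'
      rw [h3, h2, ← mul_assoc, h.sq, one_mul]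
    · rw [← h2]; exact hji
  · exact ⟨i, hi, hi2, key i hi hi2 h1 h2⟩

/-! ### The subgroup `RR` -/

/-- `C_S(Q₁ Q₂)` -/
def RR (K K' S : Subgroup G) : Subgroup G :=
  S ⊓ (centralizer ((K ⊓ S : Subgroup G) : Set G) ⊓ centralizer ((K' ⊓ S : Subgroup G) : Set G))

theorem mem_RR {s : G} : s ∈ RR K K' S ↔ s ∈ S ∧ (∀ x ∈ K ⊓ S, s * x = x * s) ∧ ∀ x ∈ K' ⊓ S, s * x = x * s := by
  rw [RR, mem_inf, mem_inf, mem_centralizer_iff, mem_centralizer_iff]
  exact and_congr_right fun _ => and_congr ⟨fun h x hx => (h x hx).symm, fun h x hx => (h x hx).symm⟩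
    ⟨fun h x hx => (h x hx).symm, fun h x hx => (h x hx).symm⟩

theorem RR_le : RR K K' S ≤ S := inf_le_left

/-- `u ∈ S` is `⊥` all members over `z` and over `y` -/
def R1 (Om : Set (Subgroup G)) (K J S : Subgroup G) (u : G) : Prop := u ∈ S ∧ PP Om u (zz K) ∧ PP Om u (zz J)

namespace Cfg

theorem zS (d : Dat Om phi) (c : Cfg Om K K' J J' T S S') : zz K ∈ S := c.TS (c.zmem_T d)

theorem yS (d : Dat Om phi) (c : Cfg Om K K' J J' T S S') : zz J ∈ S := c.TS (c.ymem_T d)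

theorem zz2 (d : Dat Om phi) (c : Cfg Om K K' J J' T S S') : zz K * zz K = 1 := d.hyp.zz_mul c.mK.hK

theorem zQ (d : Dat Om phi) (c : Cfg Om K K' J J' T S S') : zz K ∈ K ⊓ S := d.zz_mem_syl c.mK.hK (c.sylK d)

theorem z_mem_RR (d : Dat Om phi) (c : Cfg Om K K' J J' T S S') : zz K ∈ RR K K' S :=
  mem_RR.2 ⟨c.zS d, fun x hx => (c.comm_S hx.2).symm, fun x hx => (c.comm_S hx.2).symm⟩

theorem norm_Q (d : Dat Om phi) (c : Cfg Om K K' J J' T S S') {g : G} (hg : g ∈ S) (hK : g ∈ normalizer (K : Set G)) :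
    g ∈ normalizer ((K ⊓ S : Subgroup G) : Set G) := by
  rw [mem_normalizer_iff_cj, cj_inf, mem_normalizer_iff_cj.1 hK, mem_normalizer_iff_cj.1 (le_normalizer hg)]

/-- `RR` normalises `K` -/
theorem RR_norm (d : Dat Om phi) (c : Cfg Om K K' J J' T S S') {r : G} (hr : r ∈ RR K K' S) :
    r ∈ normalizer (K : Set G) := by
  obtain ⟨hrS, h1, h2⟩ := mem_RR.1 hr
  refine (d.b.norm_or c.mK (c.comm_S hrS)).resolve_right fun h => ?_
  obtain ⟨x, hx, hxx⟩ := d.exists_four c.mK.hK (c.sylK d)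
  have h3 : x ∈ K' := by
    rw [← h, mem_cj]
    have h4 := h1 x hx
    rw [mul_assoc, ← h4, inv_mul_cancel_left]
    exact hx.1
  rcases c.cent_Q d hx (fun a ha => (c.commQ d ha ⟨h3, hx.2⟩).symm) with h4 | h4
  · rw [h4, one_mul] at hxx
    exact d.hyp.zz_ne c.mK.hK hxx.symm
  · rw [h4, c.zz2 d] at hxx
    exact d.hyp.zz_ne c.mK.hK hxx.symm

theorem RR_symm {r : G} (hr : r ∈ RR K K' S) : r ∈ RR K' K S := by
  obtain ⟨hrS, h1, h2⟩ := mem_RR.1 hr
  exact mem_RR.2 ⟨hrS, h2, h1⟩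

theorem RR_perp (d : Dat Om phi) (c : Cfg Om K K' J J' T S S') {r : G} (hr : r ∈ RR K K' S) : Perp r K :=
  ⟨isP_of_mem c.hS.2.1 (RR_le hr), c.RR_norm d hr, _, c.sylK d, (mem_RR.1 hr).2.1⟩

theorem RR_pp (d : Dat Om phi) (c : Cfg Om K K' J J' T S S') {r : G} (hr : r ∈ RR K K' S) : PP Om r (zz K) := by
  intro L hL hz
  rcases d.b.eq_or c.mK hL hz with h | h
  · rw [h]; exact c.RR_perp d hr
  · rw [h]; exact c.mate.RR_perp d (RR_symm hr)

/-- elements of `S` which are `⊥ z` -/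
theorem mem_RR_of_pp (d : Dat Om phi) (c : Cfg Om K K' J J' T S S') {r : G} (hr : r ∈ S) (hp : PP Om r (zz K)) :
    r ∈ RR K K' S :=
  mem_RR.2 ⟨hr, le_centralizer_inf d.b c.mK.hK c.hS hr (hp K c.mK.hK rfl),
    le_centralizer_inf d.b c.mK.hL (by rw [← c.mK.zz]; exact c.hS) hr (hp K' c.mK.hL c.mK.zz.symm)⟩

/-- the Sylow 2-subgroup `K ⊓ S` normalises both members -/
theorem Q_norm (d : Dat Om phi) (c : Cfg Om K K' J J' T S S') {a b : G} (ha : a ∈ K ⊓ S) (hb : b ∈ K' ⊓ S) :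
    a * b ∈ normalizer (K : Set G) :=
  mul_mem (le_normalizer ha.1) (c.mK.symm.le_normalizer d.hyp hb.1)

/-- decomposition of the elements of `N_S(K)` -/
theorem exists_decomp (d : Dat Om phi) (c : Cfg Om K K' J J' T S S') {g : G} (hg : g ∈ S)
    (hgK : g ∈ normalizer (K : Set G)) : ∃ a ∈ K ⊓ S, ∃ b ∈ K' ⊓ S, ∃ r ∈ RR K K' S, g = a * b * r := by
  have hgp := isP_of_mem c.hS.2.1 hg
  have hgK' := d.b.mem_normalizer_mate c.mK hgK
  obtain ⟨a, ha, hax⟩ := d.f1 c.mK.hK (c.sylK d) hgK (c.norm_Q d hg hgK) hgp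
  obtain ⟨b, hb, hbx⟩ := d.f1 c.mK.hL (c.sylK' d) hgK' (c.mate.norm_Q d hg hgK') hgp
  have hab := c.commQ d ha hb
  refine ⟨a, ha, b, hb, (a * b)⁻¹ * g, mem_RR.2 ⟨?_, ?_, ?_⟩, by group⟩
  · exact S.mul_mem (S.inv_mem (S.mul_mem ha.2 hb.2)) hg
  · intro x hx
    have h1 := hax x hx
    have h2 : b⁻¹ * x = x * b⁻¹ := (c.commQ d hx (inv_mem hb)).symm
    calc (a * b)⁻¹ * g * x = b⁻¹ * a⁻¹ * (g * x * g⁻¹) * g := by group
      _ = b⁻¹ * x * a⁻¹ * g := by rw [h1]; group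
      _ = x * ((a * b)⁻¹ * g) := by rw [h2]; group
  · intro x hx
    have h1 := hbx x hx
    have h2 : a⁻¹ * x = x * a⁻¹ := c.commQ d (inv_mem ha) hx
    calc (a * b)⁻¹ * g * x = a⁻¹ * b⁻¹ * (g * x * g⁻¹) * g := by rw [hab]; group
      _ = a⁻¹ * x * b⁻¹ * g := by rw [h1]; group
      _ = x * ((b * a)⁻¹ * g) := by rw [h2]; group
      _ = x * ((a * b)⁻¹ * g) := by rw [hab]

/-- `x y x⁻¹ = x x^y y z` -/
theorem conj_y' (d : Dat Om phi) (c : Cfg Om K K' J J' T S S') {x : G} (hx : x ∈ K ⊓ S) (hxx : x * x = zz K) :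
    x * zz J * x⁻¹ = x * (zz J * x * (zz J)⁻¹) * (zz J * zz K) := by
  have hzz := c.zz2 d
  have hss := c.yy d
  have hsi : (zz J)⁻¹ = zz J := inv_eq_of_mul_eq_one_right hss
  have hxi : x⁻¹ = x * zz K := by
    rw [inv_eq_iff_mul_eq_one, ← hxx]
    have h4 : x * (x * (x * x)) = (x * x) * (x * x) := by group
    rw [h4, hxx, hzz]
  rw [hxi, hsi]
  calc x * zz J * (x * zz K) = x * (zz J * x) * zz K := by group
    _ = x * (zz J * x) * (zz J * zz J) * zz K := by rw [hss, mul_one]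
    _ = x * (zz J * x * zz J) * (zz J * zz K) := by group

end Cfg

/-! ### `V = V_J` -/

namespace Fr

/-- `V_J ≤ V` -/
theorem VV_le (d : Dat Om phi) (f : Fr Om K K' J J' T S S' i j p q) :
    f.toCfg.symm.VV d ≤ f.toCfg.VV d := by
  have c := f.toCfg
  have hz := d.qz c.mJ.hK (c.symm.sylK d)
  rintro _ ⟨u, hu, rfl⟩
  have e1 : ∀ s ∈ J ⊓ S', zz J * s * (zz K * (zz J * s) * (zz K)⁻¹) = s * (zz K * s * (zz K)⁻¹) :=
    fun s hs => c.symm.diag_z d hs
  have hp : p * (zz K * p * (zz K)⁻¹) ∈ c.VV d := by rw [← f.ip]; exact c.four_mem d f.hi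
  have hq : q * (zz K * q * (zz K)⁻¹) ∈ c.VV d := by rw [← f.jq]; exact c.four_mem d f.hj
  have hpq : p * q * (zz K * (p * q) * (zz K)⁻¹) ∈ c.VV d := by
    have h5 := c.symm.commQ d f.hq (c.symm.conj_mem d f.hp)
    have h6 : p * q * (zz K * (p * q) * (zz K)⁻¹) =
        (p * (zz K * p * (zz K)⁻¹)) * (q * (zz K * q * (zz K)⁻¹)) := by
      calc p * q * (zz K * (p * q) * (zz K)⁻¹)
          = p * (q * (zz K * p * (zz K)⁻¹)) * (zz K * q * (zz K)⁻¹) := by group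
        _ = p * ((zz K * p * (zz K)⁻¹) * q) * (zz K * q * (zz K)⁻¹) := by rw [h5]
        _ = _ := by group
    rw [h6]
    exact mul_mem hp hq
  rcases hz.cases f.hp f.hq f.p2 f.q2 f.qp f.qp' hu with h | h | h | h | h | h | h | h
  · rw [h]
    have : (1 : G) * (zz K * 1 * (zz K)⁻¹) = 1 := by group
    rw [this]; exact one_mem _
  · rw [h, c.symm.diag_zz d]; exact one_mem _
  · rw [h]; exact hp
  · rw [h, e1 p f.hp]; exact hp
  · rw [h]; exact hq
  · rw [h, e1 q f.hq]; exact hq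
  · rw [h]; exact hpq
  · rw [h, e1 _ (mul_mem f.hp f.hq)]; exact hpq

/-- the conjugates of `y` under `Q₁` are conjugates of `z` under `P₁` -/
theorem exists_b (d : Dat Om phi) (f : Fr Om K K' J J' T S S' i j p q) {x : G} (hx : x ∈ K ⊓ S) (hxx : x * x = zz K) :
    ∃ b ∈ J ⊓ S', b * b = zz J ∧ b * zz K * b⁻¹ = x * zz J * x⁻¹ ∧
      x * (zz J * x * (zz J)⁻¹) = b * (zz K * b * (zz K)⁻¹) := by
  have c := f.toCfg
  have h1 := f.symm.VV_le d (c.four_mem d hx)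
  obtain ⟨b, hb, hbb, h2⟩ := c.symm.VV_cases d h1 (c.four_ne d hx hxx)
  refine ⟨b, hb, hbb, ?_, h2⟩
  rw [c.symm.conj_y' d hb hbb, c.conj_y' d hx hxx, h2, c.comm]

/-! ### (A) -/

/-- **(A)** for the elements normalising `J` -/
theorem mem_R1_aux (d : Dat Om phi) (f : Fr Om K K' J J' T S S' i j p q) {r : G} (hr : r ∈ RR K K' S)
    (hy : r * zz J = zz J * r) (hrJ : r ∈ normalizer (J : Set G)) : R1 Om K J S r := by
  have c := f.toCfg
  have hrT : r ∈ T := c.mem_T (RR_le hr) hy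
  have hrS' := c.TS' hrT
  have hrp := isP_of_mem c.hT.2.1 hrT
  obtain ⟨p', hp', hact⟩ := d.f1 c.mJ.hK (c.symm.sylK d) hrJ (c.symm.norm_Q d hrS' hrJ) hrp
  obtain ⟨p'', hp''⟩ : ∃ p'', p'' = zz K * p' * (zz K)⁻¹ := ⟨_, rfl⟩
  have hp''m : p'' ∈ J' ⊓ S' := by rw [hp'']; exact c.symm.conj_mem d hp'
  obtain ⟨t, ht⟩ : ∃ t, t = p' * p'' := ⟨_, rfl⟩
  have htJ : t ∈ c.symm.VV d := by rw [ht, hp'']; exact c.symm.four_mem d hp'
  have htT : t ∈ T := c.symm.VV_le_T d htJ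
  obtain ⟨u, hu⟩ : ∃ u, u = t⁻¹ * r := ⟨_, rfl⟩
  have huT : u ∈ T := by rw [hu]; exact T.mul_mem (T.inv_mem htT) hrT
  -- `u` centralises `P₁`
  have huc : ∀ a ∈ J ⊓ S', u * a = a * u := by
    intro a ha
    have h1 := hact a ha
    have h2 : p'' * a = a * p'' := (c.symm.commQ d ha hp''m).symm
    have h3 : p' * p'' = p'' * p' := c.symm.commQ d hp' hp''m
    have h4 : t * a * t⁻¹ = r * a * r⁻¹ := by
      rw [h1, ht]
      calc p' * p'' * a * (p' * p'')⁻¹ = p' * (p'' * a) * p''⁻¹ * p'⁻¹ := by group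
        _ = p' * a * p'⁻¹ := by rw [h2]; group
    rw [hu]
    calc t⁻¹ * r * a = t⁻¹ * (r * a * r⁻¹) * r := by group
      _ = t⁻¹ * (t * a * t⁻¹) * r := by rw [h4]
      _ = a * (t⁻¹ * r) := by group
  have htJn : t ∈ normalizer (J : Set G) := by rw [ht]; exact c.symm.Q_norm d hp' hp''m
  have huJ : u ∈ normalizer (J : Set G) := by rw [hu]; exact mul_mem (inv_mem htJn) hrJ
  have hup : Perp u J := ⟨isP_of_mem c.hT.2.1 huT, huJ, _, c.symm.sylK d, huc⟩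
  have hppK := c.RR_pp d hr
  by_cases ht1 : t = 1
  · have hur : u = r := by rw [hu, ht1, inv_one, one_mul]
    rw [hur] at hup
    refine ⟨RR_le hr, hppK, fun L hL hz => ?_⟩
    rcases d.b.eq_or c.mJ hL hz with h | h
    · rw [h]; exact hup
    · rw [h, ← c.swapJ d]
      exact hup.cj_comm (c.comm_S (RR_le hr)).symm
  · exfalso
    obtain ⟨x, hx, hxx, htx⟩ := c.VV_cases d (f.VV_le d htJ) ht1
    obtain ⟨a, ha, haa, hax⟩ := (d.qz c.mK.hK (c.sylK d)).exists_anti hx hxx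
    have hzt : t * zz K = zz K * t := (c.symm.VV_comm d htJ).2
    have hat : a * t * a⁻¹ = zz K * t := by
      have h1 := c.commQ d ha (c.conj_mem d hx)
      rw [htx]
      calc a * (x * (zz J * x * (zz J)⁻¹)) * a⁻¹
          = a * x * a⁻¹ * (a * (zz J * x * (zz J)⁻¹)) * a⁻¹ := by group
        _ = zz K * x * ((zz J * x * (zz J)⁻¹) * a) * a⁻¹ := by rw [h1, hax]
        _ = zz K * (x * (zz J * x * (zz J)⁻¹)) := by group
    have har : a * r * a⁻¹ = r := by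
      rw [← (mem_RR.1 hr).2.1 a ha, mul_inv_cancel_right]
    have hzi : (zz K)⁻¹ = zz K := d.hyp.zz_inv c.mK.hK
    have hau : a * u * a⁻¹ = zz K * u := by
      rw [hu]
      calc a * (t⁻¹ * r) * a⁻¹ = (a * t * a⁻¹)⁻¹ * (a * r * a⁻¹) := by group
        _ = (zz K * t)⁻¹ * r := by rw [hat, har]
        _ = (t * zz K)⁻¹ * r := by rw [hzt]
        _ = (zz K)⁻¹ * (t⁻¹ * r) := by group
        _ = zz K * (t⁻¹ * r) := by rw [hzi]
    have h1 := (hup.cj a).mem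
    rw [hau] at h1
    -- `u` normalises the members over `a y a⁻¹`
    obtain ⟨b, hb, hbb, hbz, -⟩ := f.exists_b d ha haa
    have htK : t ∈ normalizer (K : Set G) := by rw [htx]; exact c.Q_norm d hx (c.conj_mem d hx)
    have huK : u ∈ normalizer (K : Set G) := by
      rw [hu]; exact mul_mem (inv_mem htK) (c.RR_norm d hr)
    have hub : ∀ M : Subgroup G, u ∈ normalizer (M : Set G) → u ∈ normalizer ((cj b M : Subgroup G) : Set G) := by
      intro M hM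
      rw [mem_normalizer_iff_cj] at hM ⊢
      rw [← cj_mul, huc b hb, cj_mul, hM]
    have h2 : u ∈ normalizer ((cj a J : Subgroup G) : Set G) := by
      rcases d.b.eq_or (c.mK.cj d.hyp b) (d.hyp.conj J c.mJ.hK a) (by
        rw [d.hyp.zz_cj c.mJ.hK, d.hyp.zz_cj c.mK.hK, hbz]) with h | h
      · rw [h]; exact hub K huK
      · rw [h]; exact hub K' (d.b.mem_normalizer_mate c.mK huK)
    have h3 : zz K ∈ normalizer ((cj a J : Subgroup G) : Set G) := by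
      have := mul_mem h1 (inv_mem h2)
      rwa [mul_inv_cancel_right] at this
    have h4 := d.f6 c.mK.hK (d.hyp.conj J c.mJ.hK a) h3
    rw [d.hyp.zz_cj c.mJ.hK] at h4
    apply c.ne
    have h5 := c.comm_S ha.2
    calc zz K = a⁻¹ * (a * zz K) := by group
      _ = a⁻¹ * (zz K * a) := by rw [h5]
      _ = a⁻¹ * (a * zz J * a⁻¹ * a) := by rw [← h4]
      _ = zz J := by group

/-- **(A)** -/
theorem mem_R1 (d : Dat Om phi) (f : Fr Om K K' J J' T S S' i j p q) {r : G} (hr : r ∈ RR K K' S)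
    (hy : r * zz J = zz J * r) : R1 Om K J S r ∨ R1 Om K J S (zz K * r) := by
  have c := f.toCfg
  rcases d.b.norm_or c.mJ hy with h | h
  · exact Or.inl (f.mem_R1_aux d hr hy h)
  · right
    refine f.mem_R1_aux d (mul_mem (c.z_mem_RR d) hr) ?_ ?_
    · rw [mul_assoc, hy, ← mul_assoc, c.comm, mul_assoc]
    · rw [mem_normalizer_iff_cj, cj_mul, h]
      exact d.b.cj_symm c.mJ (c.swapJ d)

/-- elements of `R1` commute with `Q₁`, `Q₂`, `P₁`, `z`, `y` -/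
theorem R1_props (d : Dat Om phi) (f : Fr Om K K' J J' T S S' i j p q) {u : G} (hu : R1 Om K J S u) :
    u ∈ RR K K' S ∧ u ∈ T ∧ u * zz K = zz K * u ∧ u * zz J = zz J * u ∧ ∀ x ∈ J ⊓ S', u * x = x * u := by
  have c := f.toCfg
  obtain ⟨h1, h2, h3⟩ := hu
  have h4 := h3.comm d.hyp c.mJ.hK
  have h5 := c.mem_T h1 h4
  exact ⟨c.mem_RR_of_pp d h1 h2, h5, h2.comm d.hyp c.mK.hK, h4,
    le_centralizer_inf d.b c.mJ.hK c.hS' (c.TS' h5) (h3 J c.mJ.hK rfl)⟩

/-- `z u y` is not the involution of a member -/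
theorem zz_ne (d : Dat Om phi) (f : Fr Om K K' J J' T S S' i j p q) {u : G} (hu : R1 Om K J S u) {L : Subgroup G}
    (hL : L ∈ Om) : zz L ≠ zz K * u * zz J := by
  intro h
  have c := f.toCfg
  obtain ⟨huR, huT, huz, huy, hup⟩ := f.R1_props d hu
  obtain ⟨t, ht⟩ : ∃ t, t = i * (zz J * i * (zz J)⁻¹) := ⟨_, rfl⟩
  have htV : t ∈ c.VV d := by rw [ht]; exact c.four_mem d f.hi
  obtain ⟨htz, hty⟩ := c.VV_comm d htV
  have hyy := c.yy d
  have hzz := c.zz2 d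
  -- `p z p⁻¹ = t y z`
  have h1 : p * zz K * p⁻¹ = t * (zz K * zz J) := by
    rw [c.symm.conj_y' d f.hp f.p2, ht, f.ip]
  have hpy : p * zz J * p⁻¹ = zz J := by
    rw [← f.p2]; group
  have hpu : p * u * p⁻¹ = u := by rw [← hup p f.hp, mul_inv_cancel_right]
  have h2 : zz (cj p L) = t * zz K * u := by
    rw [d.hyp.zz_cj hL, h]
    calc p * (zz K * u * zz J) * p⁻¹ = (p * zz K * p⁻¹) * (p * u * p⁻¹) * (p * zz J * p⁻¹) := by group
      _ = t * (zz K * zz J) * (u * zz J) := by rw [h1, hpy, hpu, mul_assoc]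
      _ = t * (zz K * zz J) * (zz J * u) := by rw [huy]
      _ = t * zz K * (zz J * zz J) * u := by group
      _ = t * zz K * u := by rw [hyy, mul_one]
  have htK : t ∈ normalizer (K : Set G) := by rw [ht]; exact c.Q_norm d f.hi (c.conj_mem d f.hi)
  have h3 : zz (cj p L) ∈ normalizer (K : Set G) := by
    rw [h2]
    exact mul_mem (mul_mem htK (le_normalizer (c.zQ d).1)) (c.RR_norm d huR)
  have h4 := d.f6 (d.hyp.conj L hL p) c.mK.hK h3
  rw [h2, mul_assoc, ← huz, ← mul_assoc] at h4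
  have h5 : t * u = 1 := by
    have h6 : t * u * zz K = 1 * zz K := by rw [one_mul]; exact h4
    exact mul_right_cancel h6
  have h6 : t = u⁻¹ := eq_inv_of_mul_eq_one_left h5
  refine c.not_perp d f.hi f.i2 c.mK.hK ?_
  rw [← ht, h6]
  exact c.RR_perp d (inv_mem huR)

/-- `u y` is the involution of a member only for `u = 1` -/
theorem zz_eq (d : Dat Om phi) (f : Fr Om K K' J J' T S S' i j p q) {u : G} (hu : R1 Om K J S u) {L : Subgroup G}
    (hL : L ∈ Om) (h : zz L = u * zz J) : zz L = zz J := by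
  refine d.f6 hL f.mJ.hK ?_
  rw [h]
  exact mul_mem (hu.2.2 J f.mJ.hK rfl).mem (le_normalizer (f.toCfg.symm.zQ d).1)

/-! ### (B) -/

/-- `y` normalises `RR` -/
theorem y_norm (d : Dat Om phi) (f : Fr Om K K' J J' T S S' i j p q) :
    zz J ∈ normalizer (RR K K' S : Set G) := by
  have c := f.toCfg
  rw [mem_normalizer_iff_cj, RR, cj_inf, cj_inf]
  have h1 : ∀ H : Subgroup G, cj (zz J) (centralizer (H : Set G)) = centralizer ((cj (zz J) H : Subgroup G) : Set G) := by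
    intro H
    ext x
    rw [mem_cj, mem_centralizer_iff, mem_centralizer_iff]
    constructor
    · intro h y hy
      have h2 := h _ (mem_cj.1 hy)
      calc y * x = zz J * ((zz J)⁻¹ * y * zz J * ((zz J)⁻¹ * x * zz J)) * (zz J)⁻¹ := by group
        _ = zz J * ((zz J)⁻¹ * x * zz J * ((zz J)⁻¹ * y * zz J)) * (zz J)⁻¹ := by rw [h2]
        _ = x * y := by group
    · intro h y hy
      have h2 := h _ (conj_mem_cj (g := zz J) hy)
      calc y * ((zz J)⁻¹ * x * zz J) = (zz J)⁻¹ * (zz J * y * (zz J)⁻¹ * x) * zz J := by group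
        _ = (zz J)⁻¹ * (x * (zz J * y * (zz J)⁻¹)) * zz J := by rw [h2]
        _ = _ := by group
  rw [h1, h1, c.cj_inf_S d, c.mate.cj_inf_S d, mem_normalizer_iff_cj.1 (le_normalizer (c.yS d)),
    inf_comm (centralizer _)]

/-- **(B)** -/
theorem comm_y (d : Dat Om phi) (f : Fr Om K K' J J' T S S' i j p q) {r : G} (hr : r ∈ RR K K' S) :
    r * zz J = zz J * r := by
  have c := f.toCfg
  by_contra hcon
  have hyR := f.y_norm d
  have hRp : IsPGroup 2 (RR K K' S) := c.hS.2.1.to_le RR_le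
  have hXp : IsPGroup 2 (zpowers (zz J) ⊔ RR K K' S : Subgroup G) :=
    isPGroup_sup_of_normalizes (isP_of_sq (c.yy d)) hRp (zpowers_le.2 hyR)
  obtain ⟨C, hC⟩ : ∃ C : Subgroup G, C = (zpowers (zz J) ⊔ RR K K' S) ⊓ centralizer {zz J} := ⟨_, rfl⟩
  have hne : C ≠ zpowers (zz J) ⊔ RR K K' S := by
    intro h
    have h1 : r ∈ C := by rw [h]; exact mem_sup_right hr
    rw [hC] at h1
    exact hcon (mem_centralizer_singleton_iff.1 h1.2)
  obtain ⟨g, hgX, hgC, hg⟩ := LB.exists_normalizing hXp (by rw [hC]; exact inf_le_left) hne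
  obtain ⟨a, ha, s, hs, rfl⟩ := OneBasic.exists_mul_of_mem_sup (zpowers_le.2 hyR) hgX
  have hyC : zz J ∈ C := by
    rw [hC]; exact ⟨mem_sup_left (mem_zpowers _), mem_centralizer_singleton_iff.2 rfl⟩
  have haC : a ∈ C := (zpowers_le.2 hyC) ha
  have hsC : s ∉ C := fun h => hgC (C.mul_mem haC h)
  have hs2 : cj s C = C := by
    rw [cj_mul] at hg
    have h1 := congrArg (cj a⁻¹) hg
    rw [cj_inv_cj] at h1
    rw [h1, ← mem_normalizer_iff_cj]
    exact le_normalizer (C.inv_mem haC)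
  obtain ⟨w, hw⟩ : ∃ w, w = s * zz J * s⁻¹ := ⟨_, rfl⟩
  have hwC : w ∈ C := by
    have h4 := conj_mem_cj (g := s) hyC
    rwa [hs2, ← hw] at h4
  have hwy : w * zz J = zz J * w := by
    rw [hC] at hwC; exact mem_centralizer_singleton_iff.1 hwC.2
  have hyi : (zz J)⁻¹ = zz J := d.hyp.zz_inv c.mJ.hK
  have hyy := c.yy d
  have hwR : w * zz J ∈ RR K K' S := by
    have h1 := (mem_normalizer_iff.1 hyR s⁻¹).1 (inv_mem hs)
    have h2 := mul_mem hs h1
    rwa [hyi, show s * (zz J * s⁻¹ * zz J) = w * zz J by rw [hw]; group] at h2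
  have hL : zz (cj s J) = w := by rw [d.hyp.zz_cj c.mJ.hK, hw]
  have hwy1 : w = w * zz J * zz J := by rw [mul_assoc, hyy, mul_one]
  rcases f.mem_R1 d hwR (by rw [hwy, mul_assoc, hwy]) with h1 | h1
  · have h2 := f.zz_eq d h1 (d.hyp.conj J c.mJ.hK s) (by rw [hL]; exact hwy1)
    rw [hL, hw, mul_inv_eq_iff_eq_mul] at h2
    apply hsC
    rw [hC]
    exact ⟨mem_sup_right hs, mem_centralizer_singleton_iff.2 h2⟩
  · refine f.zz_ne d h1 (d.hyp.conj J c.mJ.hK s) ?_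
    rw [hL, ← mul_assoc (zz K), c.zz2 d, one_mul]
    exact hwy1

/-- `RR = ⟨z⟩ R1` -/
theorem R1_or (d : Dat Om phi) (f : Fr Om K K' J J' T S S' i j p q) {r : G} (hr : r ∈ RR K K' S) :
    R1 Om K J S r ∨ R1 Om K J S (zz K * r) := f.mem_R1 d hr (f.comm_y d hr)

/-! ### (C) -/

/-- **(C)** the involutions of members in `S` -/
theorem zz_cases (d : Dat Om phi) (f : Fr Om K K' J J' T S S' i j p q) {L : Subgroup G} (hL : L ∈ Om)
    (hLS : zz L ∈ S) : zz L = zz K ∨ ∃ x ∈ K ⊓ S, zz L = x * zz J * x⁻¹ := by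
  have c := f.toCfg
  by_cases hne : zz L = zz K
  · exact Or.inl hne
  right
  have hyy := c.yy d
  have hzz := c.zz2 d
  have hyi : (zz J)⁻¹ = zz J := d.hyp.zz_inv c.mJ.hK
  have hsw : cj (zz L) K = K' := d.swap c.mK hL hne (c.comm_S hLS)
  have hg : zz J * zz L ∈ normalizer (K : Set G) := d.b.swap_mul c.mK (c.swapK d) hsw
  obtain ⟨a, ha, b, hb, r, hr, hgr⟩ := c.exists_decomp d (S.mul_mem (c.yS d) hLS) hg
  have hry := f.comm_y d hr
  have hab := c.commQ d ha hb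
  obtain ⟨b', hb'⟩ : ∃ b', b' = zz J * b * (zz J)⁻¹ := ⟨_, rfl⟩
  have hb'm : b' ∈ K ⊓ S := by rw [hb']; exact c.mate.conj_mem d hb
  obtain ⟨-, hr1, hr2⟩ := mem_RR.1 hr
  -- `a z_L a⁻¹ = q y r`
  obtain ⟨q, hq⟩ : ∃ q, q = a * b' := ⟨_, rfl⟩
  have hqm : q ∈ K ⊓ S := by rw [hq]; exact mul_mem ha hb'm
  have hL1 : zz L = zz J * (a * b * r) := by rw [← hgr, ← mul_assoc, hyy, one_mul]
  have hw : zz (cj a L) = q * zz J * r := by
    rw [d.hyp.zz_cj hL, hL1]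
    have h1 : r * a⁻¹ = a⁻¹ * r := hr1 _ (inv_mem ha)
    have h2 : a * b * a⁻¹ = b := by rw [hab, mul_inv_cancel_right]
    calc a * (zz J * (a * b * r)) * a⁻¹ = a * zz J * a * b * (r * a⁻¹) := by group
      _ = a * zz J * (a * b * a⁻¹) * r := by rw [h1]; group
      _ = a * (zz J * b * (zz J)⁻¹) * zz J * r := by rw [h2]; group
      _ = q * zz J * r := by rw [← hb', hq]
  have hw2 : (q * (zz J * q * (zz J)⁻¹)) * (r * r) = 1 := by
    have h1 := d.hyp.zz_mul (d.hyp.conj L hL a)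
    rw [hw] at h1
    have h2 : r * q = q * r := hr1 q hqm
    calc (q * (zz J * q * (zz J)⁻¹)) * (r * r) = q * zz J * q * (zz J * r) * r := by rw [hyi]; group
      _ = q * zz J * (q * r) * zz J * r := by rw [← hry]; group
      _ = q * zz J * (r * q) * zz J * r := by rw [h2]
      _ = q * zz J * r * (q * zz J * r) := by group
      _ = 1 := h1
  have hq1 : q = 1 ∨ q = zz K := by
    have hz := d.qz c.mK.hK (c.sylK d)
    refine hz.eq_or hqm ((hz.sq_or hqm).resolve_right fun h => ?_)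
    refine c.not_perp d hqm h c.mK.hK ?_
    rw [eq_inv_of_mul_eq_one_left hw2]
    exact c.RR_perp d (inv_mem (mul_mem hr hr))
  -- the end
  have hfin : zz (cj a L) = zz J → ∃ x ∈ K ⊓ S, zz L = x * zz J * x⁻¹ := by
    intro h
    refine ⟨a⁻¹, inv_mem ha, ?_⟩
    rw [← h, d.hyp.zz_cj hL]
    group
  have hrz := c.comm_S (RR_le hr)
  rcases f.R1_or d hr with h1 | h1
  · rcases hq1 with h2 | h2
    · apply hfin
      refine f.zz_eq d h1 (d.hyp.conj L hL a) ?_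
      rw [hw, h2, one_mul, hry]
    · exfalso
      refine f.zz_ne d h1 (d.hyp.conj L hL a) ?_
      rw [hw, h2, mul_assoc, ← hry, mul_assoc]
  · rcases hq1 with h2 | h2
    · exfalso
      refine f.zz_ne d h1 (d.hyp.conj L hL a) ?_
      rw [hw, h2, one_mul, ← mul_assoc, hzz, one_mul, hry]
    · apply hfin
      refine f.zz_eq d h1 (d.hyp.conj L hL a) ?_
      rw [hw, h2, mul_assoc, ← hry, mul_assoc]

/-! ### `L2`, `Crit` -/

/-- elements of `R1` are `⊥` the conjugates of `y` under `Q₁` -/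
theorem R1_pp (d : Dat Om phi) (f : Fr Om K K' J J' T S S' i j p q) {u : G} (hu : R1 Om K J S u) {L : Subgroup G}
    (hL : L ∈ Om) (hLS : zz L ∈ S) : PP Om u (zz L) := by
  obtain ⟨huR, huT, huz, huy, hup⟩ := f.R1_props d hu
  rcases f.zz_cases d hL hLS with h | ⟨x, hx, h⟩
  · rw [h]; exact hu.2.1
  · rw [h]
    exact hu.2.2.conj_comm d.hyp ((mem_RR.1 huR).2.1 x hx).symm

/-- `WW ∩ S ⊆ R1` -/
theorem R1_of_WW (d : Dat Om phi) (f : Fr Om K K' J J' T S S' i j p q) {v : G} (hv : WW Om v) (hvS : v ∈ S) :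
    R1 Om K J S v := by
  have c := f.toCfg
  have h1 := hv.pp d.b c.mK.hK (c.comm_S hvS)
  have h2 := f.comm_y d (c.mem_RR_of_pp d hvS h1)
  exact ⟨hvS, h1, hv.pp d.b c.mJ.hK h2⟩

theorem l2 (d : Dat Om phi) (f : Fr Om K K' J J' T S S' i j p q) : L2 Om := by
  have c := f.toCfg
  intro v hv P hP hvP L hL hLP
  obtain ⟨R, hR, hPR⟩ := OneBasic.exists_syl_ge hP (le_top : P ≤ ⊤)
  obtain ⟨g, -, hg⟩ := hR.exists_conj (c.hSt d)
  have h1 : g * v * g⁻¹ ∈ S := by rw [← hg]; exact conj_mem_cj (hPR hvP)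
  have h2 : g * zz L * g⁻¹ ∈ S := by rw [← hg]; exact conj_mem_cj (hPR hLP)
  have h3 := f.R1_of_WW d (hv.conj d.hyp g) h1
  have h4 := (f.R1_pp d h3 (d.hyp.conj L hL g) (by rw [d.hyp.zz_cj hL]; exact h2)).comm d.hyp (d.hyp.conj L hL g)
  rw [d.hyp.zz_cj hL] at h4
  calc v * zz L = g⁻¹ * (g * v * g⁻¹ * (g * zz L * g⁻¹)) * g := by group
    _ = g⁻¹ * (g * zz L * g⁻¹ * (g * v * g⁻¹)) * g := by rw [h4]
    _ = zz L * v := by group

theorem WW_of_R1 (d : Dat Om phi) (f : Fr Om K K' J J' T S S' i j p q) {v : G} (hv : R1 Om K J S v) :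
    WW Om v := by
  have c := f.toCfg
  obtain ⟨hvR, hvT, hvz, hvy, hvp⟩ := f.R1_props d hv
  refine ⟨K, c.mK.hK, hv.2.1, fun L hL hc hvL => ?_⟩
  -- a Sylow 2-subgroup of `C(z, v)` containing `Q₁` and `y`
  obtain ⟨B, hB⟩ : ∃ B : Subgroup G, B = (K ⊓ S) ⊔ zpowers (zz J) := ⟨_, rfl⟩
  have hBS : B ≤ S := by rw [hB]; exact sup_le inf_le_right (zpowers_le.2 (c.yS d))
  have hBC : B ≤ centralizer {zz K} ⊓ centralizer {v} := by
    refine le_inf (hBS.trans c.hS.1) ?_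
    rw [hB]
    refine sup_le (fun x hx => mem_centralizer_singleton_iff.2 ((mem_RR.1 hvR).2.1 x hx).symm) ?_
    rw [zpowers_le, mem_centralizer_singleton_iff]
    exact hvy.symm
  obtain ⟨T0, hT0, hBT⟩ := OneBasic.exists_syl_ge (c.hS.2.1.to_le hBS) hBC
  obtain ⟨P, hP, hTP⟩ := OneBasic.exists_syl_ge hT0.2.1 (hT0.1.trans inf_le_left)
  obtain ⟨g, hgz, hg⟩ := c.hS.exists_conj hP
  -- `Zs ∩ P = Zs ∩ S`
  have hSub : {w | w ∈ Zs Om ∧ w ∈ S} ⊆ {w | w ∈ Zs Om ∧ w ∈ P} := by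
    rintro w ⟨⟨M, hM, rfl⟩, hw⟩
    refine ⟨zz_mem_Zs hM, hTP (hBT ?_)⟩
    have hQB : ∀ x ∈ K ⊓ S, x ∈ B := fun x hx => by rw [hB]; exact mem_sup_left hx
    rcases f.zz_cases d hM hw with h | ⟨x, hx, h⟩
    · rw [h]; exact hQB _ (c.zQ d)
    · rw [h]
      refine mul_mem (mul_mem (hQB x hx) ?_) (inv_mem (hQB x hx))
      rw [hB]; exact mem_sup_right (mem_zpowers _)
  have hCard : {w | w ∈ Zs Om ∧ w ∈ P}.ncard ≤ {w | w ∈ Zs Om ∧ w ∈ S}.ncard := by
    have h1 : {w | w ∈ Zs Om ∧ w ∈ P} = (fun w => g * w * g⁻¹) '' {w | w ∈ Zs Om ∧ w ∈ S} := by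
      ext w
      constructor
      · rintro ⟨h1, h2⟩
        refine ⟨g⁻¹ * w * g, ⟨Zs_cj' d.hyp h1 g, ?_⟩, by group⟩
        rw [← hg] at h2
        exact mem_cj.1 h2
      · rintro ⟨w, ⟨h1, h2⟩, rfl⟩
        refine ⟨Zs_cj d.hyp h1 g, ?_⟩
        rw [← hg]
        exact conj_mem_cj h2
    rw [h1]
    exact Set.ncard_image_le (Set.toFinite _)
  have hEq := Set.eq_of_subset_of_ncard_le hSub hCard (Set.toFinite _)
  obtain ⟨h, hh, hhL⟩ := LB.exists_conj_mem hT0 (m := zz L)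
    ⟨mem_centralizer_singleton_iff.2 hc.symm, mem_centralizer_singleton_iff.2 hvL.symm⟩
    (isP_of_sq (d.hyp.zz_mul hL))
  have h1 : h * zz L * h⁻¹ ∈ S := by
    have h2 : h * zz L * h⁻¹ ∈ {w | w ∈ Zs Om ∧ w ∈ P} := ⟨Zs_cj d.hyp (zz_mem_Zs hL) h, hTP hhL⟩
    rw [← hEq] at h2
    exact h2.2
  have h2 := f.R1_pp d hv (d.hyp.conj L hL h) (by rw [d.hyp.zz_cj hL]; exact h1)
  rw [d.hyp.zz_cj hL] at h2
  exact h2.of_conj_comm d.hyp (mem_centralizer_singleton_iff.1 hh.2)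

theorem crit (d : Dat Om phi) (f : Fr Om K K' J J' T S S' i j p q) : Crit Om := by
  have c := f.toCfg
  intro P hP v hvP hv
  obtain ⟨g, -, hg⟩ := hP.exists_conj (c.hSt d)
  have h1 : g * v * g⁻¹ ∈ S := by rw [← hg]; exact conj_mem_cj hvP
  have h2 : ∀ L ∈ Om, zz L ∈ S → Perp (g * v * g⁻¹) L := by
    intro L hL hz
    have h3 : zz (cj g⁻¹ L) ∈ P := by
      rw [d.hyp.zz_cj hL, inv_inv]
      rw [← hg] at hz
      exact mem_cj.1 hz
    have h4 := (hv _ (d.hyp.conj L hL g⁻¹) h3).cj g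
    rwa [cj_cj_inv] at h4
  have h3 : R1 Om K J S (g * v * g⁻¹) :=
    ⟨h1, fun L hL hz => h2 L hL (by rw [hz]; exact c.zS d), fun L hL hz => h2 L hL (by rw [hz]; exact c.yS d)⟩
  have h4 := (f.WW_of_R1 d h3).conj d.hyp g⁻¹
  rwa [show g⁻¹ * (g * v * g⁻¹) * g⁻¹⁻¹ = v by group] at h4

/-- **(I4) + (I5)** -/
theorem cent (d : Dat Om phi) (f : Fr Om K K' J J' T S S' i j p q) (h1173 : OneF.H1173 G)
    (hN : ∀ N : Subgroup G, N.Normal → ¬ Group.IsSolvable N → centralizer (N : Set G) = ⊥) {s : G}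
    (hs : s ∈ S) (h1 : ∀ x ∈ K ⊓ S, s * x = x * s) (h2 : ∀ x ∈ K' ⊓ S, s * x = x * s) : s = 1 ∨ s = zz K := by
  have c := f.toCfg
  have hSt := c.hSt d
  obtain ⟨g, hg, hgs⟩ := TwoP.exists_conj d.b c.mK.hK c.mJ.hK c.hS hSt c.hS' c.hT c.TS c.TS' (c.yS d) f.hi f.hp
    f.i2 f.p2 f.ip
  have hone : ∀ u, R1 Om K J S u → u = 1 := fun u hu =>
    TwoP.eq_one_of_WW d.b (fun K hK => (Ty.isType (Or.inl (d.ty hK))).tyTwo) (f.l2 d) (f.crit d) hSt c.mK (c.zS d)
      (c.swapK d) hg hgs h1173 hN (f.WW_of_R1 d hu)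
  rcases f.R1_or d (mem_RR.2 ⟨hs, h1, h2⟩) with h | h
  · exact Or.inl (hone s h)
  · right
    have h3 := hone _ h
    calc s = zz K * (zz K * s) := by rw [← mul_assoc, c.zz2 d, one_mul]
      _ = zz K := by rw [h3, mul_one]

end Fr

end Cfsg.Agent.Cit.QTwo.CI
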