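import Cfsg.Agent.Cit.SolvTwo
import Cfsg.Agent.Cit.TwoFK.DC
import Cfsg.Agent.Cit.SubCent
import Cfsg.Agent.Cit.Trivial
import Cfsg.Agent.Cit.OneFieldHom

/-!
# Case (I) of [Q2]: facts about members with `K / O(K) ≅ SL₂(3)` and a linear character

`FT phi K`: `K/O(K) ≅ SL₂(3)`, `phi` is trivial on 2-elements and on `O(K)`, not on `K`.
`f_one`: a 2-element of `N(K) ∩ N(Q)` acts on the Sylow 2-subgroup `Q` of `K` as an element of `Q`.
-/

set_option autoImplicit false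
set_option linter.style.haveILetI false
set_option linter.unusedSectionVars false
set_option linter.unusedVariables false

namespace Cfsg.Agent.Cit.QTwo.CI

open Subgroup Cfsg Cit OneBasic SolvTwo TwoFK

/-! ### `SL₂(3)` -/

section SL

set_option maxRecDepth 100000 in
theorem E_mul : ∀ x y : X, (x * x = 1 ∨ x * x = zX) → (y * y = 1 ∨ y * y = zX) →
    ((x * y) * (x * y) = 1 ∨ (x * y) * (x * y) = zX) := by
  decide +kernel

set_option maxRecDepth 100000 in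
theorem E_inv : ∀ x : X, (x * x = 1 ∨ x * x = zX) → (x⁻¹ * x⁻¹ = 1 ∨ x⁻¹ * x⁻¹ = zX) := by
  decide +kernel

/-- the normal Sylow 2-subgroup of `SL₂(3)` -/
def E8 : Subgroup X where
  carrier := {x | x * x = 1 ∨ x * x = zX}
  one_mem' := by left; simp
  mul_mem' := fun {x y} hx hy => E_mul x y hx hy
  inv_mem' := fun {x} hx => E_inv x hx

theorem mem_E8 {x : X} : x ∈ E8 ↔ x * x = 1 ∨ x * x = zX := Iff.rfl

theorem isP_E8 : IsPGroup 2 E8 := by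
  intro x
  refine ⟨2, ?_⟩
  ext1
  have h2 : zX * zX = 1 := X_rel.2.2.2.2.1
  have h1 : (x : X) ^ 2 ^ 2 = ((x : X) * x) * ((x : X) * x) := by
    rw [show 2 ^ 2 = 2 * 2 from rfl, pow_mul, pow_two, pow_two]
  rw [SubmonoidClass.coe_pow, h1]
  rcases x.2 with h | h
  · rw [h]; simp
  · rw [h, h2]; rfl

theorem mem_E8_of_pow {x : X} {n : ℕ} (h : x ^ 2 ^ n = 1) : x ∈ E8 := by
  have hco : ∀ y : X, y ^ 2 ^ n = 1 → y ^ 3 = 1 → y = 1 := by
    intro y h4 h3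
    have h5 := Nat.dvd_gcd (orderOf_dvd_of_pow_eq_one h4) (orderOf_dvd_of_pow_eq_one h3)
    have h6 : Nat.gcd (2 ^ n) 3 = 1 := Nat.Coprime.pow_left n (by norm_num)
    rw [h6, Nat.dvd_one, orderOf_eq_one_iff] at h5
    exact h5
  have hz : zX * zX = 1 := X_rel.2.2.2.2.1
  rcases X_cases x with h1 | h1 | h1 | h1 | h1
  · exact Or.inr h1
  · left; rw [h1, one_mul]
  · left; rw [h1, hz]
  · left
    have := hco x h (by simp only [pow_succ, pow_zero, one_mul]; exact h1)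
    rw [this, one_mul]
  · left
    refine hco _ ?_ ?_
    · rw [← pow_two, ← pow_mul, mul_comm, pow_mul, h, one_pow]
    · calc (x * x) ^ 3 = (x * x * x) * (x * x * x) := by simp only [pow_succ, pow_zero, one_mul, mul_assoc]
        _ = 1 := by rw [h1, hz]

set_option maxRecDepth 100000 in
theorem sq_one : ∀ x : X, x * x = 1 → x = 1 ∨ x = zX := by decide +kernel

set_option maxRecDepth 100000 in
/-- an automorphism of `SL₂(3)` trivial modulo `E8` is inner -/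
theorem inner_aux : ∀ a b : X, a * a = zX → b * b * b = 1 → (b * cX⁻¹) * (b * cX⁻¹) = 1 ∨ (b * cX⁻¹) * (b * cX⁻¹) = zX →
    (iX * cX * (iX * cX) * (iX * cX) = 1 ↔ a * b * (a * b) * (a * b) = 1) →
    ∃ x : X, a = x * iX * x⁻¹ ∧ b = x * cX * x⁻¹ := by
  decide +kernel

set_option maxRecDepth 100000 in
theorem gen_aux : ∀ x : X, ∃ n : Fin 3, ∃ m : Fin 4, ∃ k : Fin 4, x = cX ^ (n : ℕ) * iX ^ (m : ℕ) * (cX * iX * cX⁻¹) ^ (k : ℕ) := by
  decide +kernel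

set_option maxRecDepth 100000 in
theorem E8_mul_or : ∀ x y : X, ¬ (x * x = 1 ∨ x * x = zX) → ¬ (y * y = 1 ∨ y * y = zX) →
    ((y * x⁻¹) * (y * x⁻¹) = 1 ∨ (y * x⁻¹) * (y * x⁻¹) = zX) ∨ ((y * x) * (y * x) = 1 ∨ (y * x) * (y * x) = zX) := by
  decide +kernel

set_option maxRecDepth 100000 in
theorem fpf_aux : ∀ x q : X, ¬ (x * x = 1 ∨ x * x = zX) → q * q = zX → x * q * x⁻¹ ≠ q ∧ x * q * x⁻¹ ≠ zX * q := by
  decide +kernel

set_option maxRecDepth 100000 in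
theorem anti_aux : ∀ i j : X, i * i = zX → j * j = zX → j ≠ i → j ≠ zX * i → i * j = zX * (j * i) := by
  decide +kernel

set_option maxRecDepth 100000 in
theorem cases_aux : ∀ i j x : X, i * i = zX → j * j = zX → j ≠ i → j ≠ zX * i → (x * x = 1 ∨ x * x = zX) →
    x = 1 ∨ x = zX ∨ x = i ∨ x = zX * i ∨ x = j ∨ x = zX * j ∨ x = i * j ∨ x = zX * (i * j) := by
  decide +kernel

theorem cX_not_mem : cX ∉ E8 := by
  obtain ⟨hi, hj, hc, hc1, hz, hz1, hij⟩ := X_rel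
  intro h1
  rcases h1 with h1 | h1
  · rw [h1, one_mul] at hc; exact hc1 hc
  · rw [h1] at hc
    have h2 : cX = zX := by
      calc cX = zX * (zX * cX) := by rw [← mul_assoc, hz, one_mul]
        _ = zX := by rw [hc, mul_one]
    rw [h2, hz] at h1
    exact hz1 h1.symm

theorem of_map_mem_E8 (α : X ≃* X) {x : X} (hx : α x ∈ E8) : x ∈ E8 := by
  have h1 : IsPGroup 2 (E8.comap α.toMonoidHom) := isP_E8.comap_of_injective _ α.injective
  obtain ⟨n, hn⟩ := h1 ⟨x, hx⟩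
  exact mem_E8_of_pow (n := n) (congrArg Subtype.val hn)

/-- an automorphism of `SL₂(3)` trivial modulo `E8` is inner -/
theorem exists_inner (α : X ≃* X) (hcα : α cX * cX⁻¹ ∈ E8) : ∃ x : X, ∀ y, α y = x * y * x⁻¹ := by
  obtain ⟨hi, hj, hc, hc1, hz, hz1, hij⟩ := X_rel
  have hαz : α zX = zX := by
    refine (sq_one _ ?_).resolve_left ?_
    · rw [← map_mul, hz, map_one]
    · intro h1
      rw [← map_one α] at h1
      exact hz1 (α.injective h1)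
  obtain ⟨x, hx1, hx2⟩ := inner_aux (α iX) (α cX) (by rw [← map_mul, hi, hαz]) (by
    rw [← map_mul, ← map_mul, hc, map_one]) hcα (by
      rw [← map_mul, ← map_mul, ← map_mul]
      conv_rhs => rw [← map_one α, α.injective.eq_iff])
  refine ⟨x, fun y => ?_⟩
  obtain ⟨n, m, k, rfl⟩ := gen_aux y
  generalize (n : ℕ) = n
  generalize (m : ℕ) = m
  generalize (k : ℕ) = k
  rw [map_mul, map_mul, map_pow, map_pow, map_pow, map_mul, map_mul, map_inv, hx1, hx2]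
  generalize cX = c
  generalize iX = i
  have h1 : x * c * x⁻¹ * (x * i * x⁻¹) * (x * c * x⁻¹)⁻¹ = x * (c * i * c⁻¹) * x⁻¹ := by group
  rw [h1, conj_pow, conj_pow, conj_pow]
  group

/-- an inner automorphism of 2-power order -/
theorem mem_E8_of_cent {x : X} {n : ℕ} (h : ∀ y, x ^ 2 ^ n * y = y * x ^ 2 ^ n) : x ∈ E8 := by
  refine mem_E8_of_pow (n := n + 1) ?_
  rw [pow_succ, pow_mul, pow_two]
  rcases X_cen _ (h _) (h _) with h2 | h2
  · rw [h2, one_mul]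
  · rw [h2, X_rel.2.2.2.2.1]

end SL

variable {G : Type*} [Group G] [Finite G] {K Q : Subgroup G}

theorem conj_mem_of {H : Subgroup G} {g x : G} (hg : g ∈ normalizer (H : Set G)) (hx : x ∈ H) : g * x * g⁻¹ ∈ H :=
  (mem_normalizer_iff.1 hg x).1 hx

/-- the map `K → SL₂(3)` -/
noncomputable def psi (e : ↥K ⧸ oddCore ↥K ≃* X) : K →* X := e.toMonoidHom.comp (QuotientGroup.mk' _)

theorem psi_surj (e : ↥K ⧸ oddCore ↥K ≃* X) : Function.Surjective (psi e) :=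
  e.surjective.comp (QuotientGroup.mk'_surjective _)

theorem psi_eq_one (e : ↥K ⧸ oddCore ↥K ≃* X) {k : K} : psi e k = 1 ↔ (k : G) ∈ OO K := by
  have h1 : psi e k = e (QuotientGroup.mk k) := rfl
  rw [h1, ← map_one e, e.injective.eq_iff, QuotientGroup.eq_one_iff, OO_def, mem_map]
  constructor
  · intro h; exact ⟨k, h, rfl⟩
  · rintro ⟨k', h, h2⟩
    have : k' = k := Subtype.ext h2
    rwa [this] at h

theorem psi_eq (e : ↥K ⧸ oddCore ↥K ≃* X) {k l : K} : psi e k = psi e l ↔ (k : G)⁻¹ * l ∈ OO K := by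
  have h1 : psi e k = psi e l ↔ psi e (k⁻¹ * l) = 1 := by
    rw [map_mul, map_inv, inv_mul_eq_one]
  rw [h1, psi_eq_one]
  rfl

theorem psi_pow_two (e : ↥K ⧸ oddCore ↥K ≃* X) {k : K} (h : IsPGroup 2 (zpowers (k : G))) : psi e k ∈ E8 := by
  obtain ⟨n, hn⟩ := isP_iff.1 h
  refine mem_E8_of_pow (n := n) ?_
  rw [← map_pow]
  have : k ^ 2 ^ n = 1 := Subtype.ext hn
  rw [this, map_one]

theorem map_syl (e : ↥K ⧸ oddCore ↥K ≃* X) (hQ : Syl Q K) : (Q.subgroupOf K).map (psi e) = E8 := by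
  haveI : Fact (Nat.Prime 2) := ⟨Nat.prime_two⟩
  obtain ⟨S, hS⟩ := hQ.exists_sylow
  have h1 : ((S.mapSurjective (psi_surj e) : Sylow 2 X) : Subgroup X) = (Q.subgroupOf K).map (psi e) := by
    rw [Sylow.coe_mapSurjective, hS]
  rw [← h1]
  symm
  apply (S.mapSurjective (psi_surj e)).is_maximal' isP_E8
  rw [h1]
  rintro _ ⟨k, hk, rfl⟩
  exact psi_pow_two e (isP_of_mem hQ.2.1 hk)

/-- the automorphism of `K / O(K)` induced by an element of the normaliser -/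
theorem exists_alpha (e : ↥K ⧸ oddCore ↥K ≃* X) {g : G} (hgK : g ∈ normalizer (K : Set G)) :
    ∃ α : X ≃* X, ∀ k : K, α (psi e k) = psi e ⟨g * k * g⁻¹, conj_mem_of hgK k.2⟩ := by
  let σ : K ≃* K := (cjEquiv g K).trans (MulEquiv.subgroupCongr (mem_normalizer_iff_cj.1 hgK))
  have hσO : (oddCore K).map (σ : K →* K) = oddCore K := Lib.Cores.map_equiv_pPrimeCore σ 2
  let τ : ↥K ⧸ oddCore ↥K ≃* ↥K ⧸ oddCore ↥K := QuotientGroup.congr (oddCore K) (oddCore K) σ hσO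
  have hτ : ∀ k : K, τ (QuotientGroup.mk k) = QuotientGroup.mk (σ k) := fun k => rfl
  refine ⟨e.symm.trans (τ.trans e), fun k => ?_⟩
  change e (τ (e.symm (e (QuotientGroup.mk k)))) = _
  rw [e.symm_apply_apply, hτ]
  rfl

theorem exists_psi (e : ↥K ⧸ oddCore ↥K ≃* X) (hQ : Syl Q K) {x : X} (hx : x ∈ E8) :
    ∃ q : K, (q : G) ∈ Q ∧ psi e q = x := by
  rw [← map_syl e hQ] at hx
  obtain ⟨q, hq, hx⟩ := hx
  exact ⟨q, hq, hx⟩

/-- elements of `K` over the Sylow 2-subgroup of `K / O(K)` -/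
theorem exists_mul_of_E8 (e : ↥K ⧸ oddCore ↥K ≃* X) (hQ : Syl Q K) {k : K} (hk : psi e k ∈ E8) :
    ∃ q ∈ Q, ∃ n ∈ OO K, (k : G) = q * n := by
  obtain ⟨q, hq, hqk⟩ := exists_psi e hQ hk
  exact ⟨q, hq, _, (psi_eq e).1 hqk, by group⟩

/-- a 2-element of `K` lies in `Q O(K)` -/
theorem exists_mul_of_two (hT : IsT K) (hQ : Syl Q K) {k : G} (hk : k ∈ K) (h2 : IsPGroup 2 (zpowers k)) :
    ∃ q ∈ Q, ∃ n ∈ OO K, k = q * n := by
  obtain ⟨e⟩ := hT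
  exact exists_mul_of_E8 e hQ (k := ⟨k, hk⟩) (psi_pow_two e h2)

theorem inf_OO (hQ : IsPGroup 2 Q) {x : G} (hx : x ∈ Q) (hx' : x ∈ OO K) : x = 1 :=
  eq_one_of_mem_odd hQ (odd_OO K) hx hx'

/-- elements of `K` centralising `Q` modulo `O(K)` -/
theorem mem_OO_or (hT : IsT K) (hQ : Syl Q K) {z : G} (hzQ : z ∈ Q) (hz1 : z ≠ 1) (hz2 : z * z = 1) {x : G}
    (hx : x ∈ K) (hc : ∀ q ∈ Q, x * q * x⁻¹ * q⁻¹ ∈ OO K) : x ∈ OO K ∨ z * x ∈ OO K := by
  obtain ⟨e⟩ := hT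
  have hzK := hQ.1 hzQ
  have h1 : psi e ⟨x, hx⟩ = 1 ∨ psi e ⟨x, hx⟩ = zX := by
    have h2 : ∀ y ∈ E8, psi e ⟨x, hx⟩ * y = y * psi e ⟨x, hx⟩ := by
      intro y hy
      obtain ⟨q, hq, rfl⟩ := exists_psi e hQ hy
      rw [← mul_inv_eq_iff_eq_mul, ← mul_inv_eq_one, ← map_mul, ← map_inv, ← map_mul, ← map_inv, ← map_mul, psi_eq_one]
      exact hc q hq
    exact X_cen _ (h2 _ (Or.inr X_rel.1)) (h2 _ (Or.inr X_rel.2.1))
  have h2 : psi e ⟨z, hzK⟩ = zX := by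
    refine (sq_one _ ?_).resolve_left ?_
    · rw [← map_mul]
      have : (⟨z, hzK⟩ * ⟨z, hzK⟩ : K) = 1 := Subtype.ext hz2
      rw [this, map_one]
    · rw [psi_eq_one]
      exact fun h => hz1 (inf_OO hQ.2.1 hzQ h)
  rcases h1 with h1 | h1
  · exact Or.inl ((psi_eq_one e).1 h1)
  · right
    have h3 : psi e (⟨z, hzK⟩ * ⟨x, hx⟩) = 1 := by rw [map_mul, h1, h2]; exact X_rel.2.2.2.2.1
    exact (psi_eq_one e).1 h3

theorem psi_zz (e : ↥K ⧸ oddCore ↥K ≃* X) (hQ : Syl Q K) {z : G} (hzQ : z ∈ Q) (hz1 : z ≠ 1) (hz2 : z * z = 1) :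
    psi e ⟨z, hQ.1 hzQ⟩ = zX := by
  refine (sq_one _ ?_).resolve_left ?_
  · rw [← map_mul]
    have : (⟨z, hQ.1 hzQ⟩ * ⟨z, hQ.1 hzQ⟩ : K) = 1 := Subtype.ext hz2
    rw [this, map_one]
  · rw [psi_eq_one]
    exact fun h => hz1 (inf_OO hQ.2.1 hzQ h)

/-- the embedding of `Q` into `SL₂(3)` -/
noncomputable def rho (e : ↥K ⧸ oddCore ↥K ≃* X) (hQ : Syl Q K) : Q →* X :=
  (psi e).comp (inclusion hQ.1)

theorem rho_inj (e : ↥K ⧸ oddCore ↥K ≃* X) (hQ : Syl Q K) : Function.Injective (rho e hQ) := by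
  rw [injective_iff_map_eq_one]
  intro q hq
  have h1 : ((inclusion hQ.1 q : K) : G) ∈ OO K := (psi_eq_one e).1 hq
  exact Subtype.ext (inf_OO hQ.2.1 q.2 h1)

theorem rho_mem (e : ↥K ⧸ oddCore ↥K ≃* X) (hQ : Syl Q K) (q : Q) : rho e hQ q ∈ E8 :=
  psi_pow_two e (isP_of_mem hQ.2.1 q.2)

section Coord

variable {z : G}

/-- the set-up for the coordinates -/
structure QZ (K Q : Subgroup G) (z : G) : Prop where
  ty : IsT K
  syl : Syl Q K
  mem : z ∈ Q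
  ne : z ≠ 1
  sq : z * z = 1

theorem QZ.rho_z (h : QZ K Q z) (e : ↥K ⧸ oddCore ↥K ≃* X) : rho e h.syl ⟨z, h.mem⟩ = zX :=
  psi_zz e h.syl h.mem h.ne h.sq

theorem QZ.sq_or (h : QZ K Q z) {x : G} (hx : x ∈ Q) : x * x = 1 ∨ x * x = z := by
  obtain ⟨e⟩ := h.ty
  rcases rho_mem e h.syl ⟨x, hx⟩ with h1 | h1
  · left
    rw [← map_mul, ← map_one (rho e h.syl)] at h1
    exact congrArg Subtype.val (rho_inj e h.syl h1)
  · right
    rw [← map_mul, ← h.rho_z e] at h1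
    exact congrArg Subtype.val (rho_inj e h.syl h1)

theorem QZ.eq_or (h : QZ K Q z) {x : G} (hx : x ∈ Q) (hx2 : x * x = 1) : x = 1 ∨ x = z := by
  obtain ⟨e⟩ := h.ty
  have h1 : rho e h.syl ⟨x, hx⟩ * rho e h.syl ⟨x, hx⟩ = 1 := by
    rw [← map_mul, ← map_one (rho e h.syl)]
    congr 1
    exact Subtype.ext hx2
  rcases sq_one _ h1 with h1 | h1
  · left
    rw [← map_one (rho e h.syl)] at h1
    exact congrArg Subtype.val (rho_inj e h.syl h1)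
  · right
    rw [← h.rho_z e] at h1
    exact congrArg Subtype.val (rho_inj e h.syl h1)

theorem QZ.aux (h : QZ K Q z) (e : ↥K ⧸ oddCore ↥K ≃* X) {i j : G} (hi : i ∈ Q) (hj : j ∈ Q) (hi2 : i * i = z)
    (hj2 : j * j = z) (h1 : j ≠ i) (h2 : j ≠ z * i) : rho e h.syl ⟨i, hi⟩ * rho e h.syl ⟨i, hi⟩ = zX ∧
      rho e h.syl ⟨j, hj⟩ * rho e h.syl ⟨j, hj⟩ = zX ∧ rho e h.syl ⟨j, hj⟩ ≠ rho e h.syl ⟨i, hi⟩ ∧
      rho e h.syl ⟨j, hj⟩ ≠ zX * rho e h.syl ⟨i, hi⟩ := by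
  refine ⟨?_, ?_, ?_, ?_⟩
  · rw [← map_mul, ← h.rho_z e]; congr 1; exact Subtype.ext hi2
  · rw [← map_mul, ← h.rho_z e]; congr 1; exact Subtype.ext hj2
  · intro h3; exact h1 (congrArg Subtype.val (rho_inj e h.syl h3))
  · intro h3
    rw [← h.rho_z e, ← map_mul] at h3
    exact h2 (congrArg Subtype.val (rho_inj e h.syl h3))

theorem QZ.anti (h : QZ K Q z) {i j : G} (hi : i ∈ Q) (hj : j ∈ Q) (hi2 : i * i = z)
    (hj2 : j * j = z) (h1 : j ≠ i) (h2 : j ≠ z * i) : i * j = z * (j * i) := by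
  obtain ⟨e⟩ := h.ty
  obtain ⟨a1, a2, a3, a4⟩ := h.aux e hi hj hi2 hj2 h1 h2
  have h3 := anti_aux _ _ a1 a2 a3 a4
  rw [← h.rho_z e, ← map_mul, ← map_mul, ← map_mul] at h3
  exact congrArg Subtype.val (rho_inj e h.syl h3)

theorem QZ.cases (h : QZ K Q z) {i j : G} (hi : i ∈ Q) (hj : j ∈ Q) (hi2 : i * i = z)
    (hj2 : j * j = z) (h1 : j ≠ i) (h2 : j ≠ z * i) {x : G} (hx : x ∈ Q) :
    x = 1 ∨ x = z ∨ x = i ∨ x = z * i ∨ x = j ∨ x = z * j ∨ x = i * j ∨ x = z * (i * j) := by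
  obtain ⟨e⟩ := h.ty
  obtain ⟨a1, a2, a3, a4⟩ := h.aux e hi hj hi2 hj2 h1 h2
  have h3 := cases_aux _ _ (rho e h.syl ⟨x, hx⟩) a1 a2 a3 a4 (rho_mem e h.syl _)
  rw [← h.rho_z e, ← map_one (rho e h.syl), ← map_mul, ← map_mul, ← map_mul, ← map_mul] at h3
  simpa only [(rho_inj e h.syl).eq_iff, Subtype.mk.injEq, ← Subtype.val_inj, coe_mul, coe_one] using h3

/-- existence of coordinates -/
theorem QZ.exists_ij (h : QZ K Q z) : ∃ i ∈ Q, ∃ j ∈ Q, i * i = z ∧ j * j = z ∧ j ≠ i ∧ j ≠ z * i := by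
  obtain ⟨e⟩ := h.ty
  obtain ⟨hi, hj, hc, hc1, hz, hz1, hij⟩ := X_rel
  obtain ⟨i, hiQ, hi'⟩ := exists_psi e h.syl (show iX ∈ E8 from Or.inr hi)
  obtain ⟨j, hjQ, hj'⟩ := exists_psi e h.syl (show jX ∈ E8 from Or.inr hj)
  have h1 : rho e h.syl ⟨i, hiQ⟩ = iX := hi'
  have h2 : rho e h.syl ⟨j, hjQ⟩ = jX := hj'
  refine ⟨i, hiQ, j, hjQ, ?_, ?_, ?_, ?_⟩
  · have h3 : rho e h.syl (⟨i, hiQ⟩ * ⟨i, hiQ⟩) = rho e h.syl ⟨z, h.mem⟩ := by
      rw [map_mul, h1, hi, h.rho_z e]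
    exact congrArg Subtype.val (rho_inj e h.syl h3)
  · have h3 : rho e h.syl (⟨j, hjQ⟩ * ⟨j, hjQ⟩) = rho e h.syl ⟨z, h.mem⟩ := by
      rw [map_mul, h2, hj, h.rho_z e]
    exact congrArg Subtype.val (rho_inj e h.syl h3)
  · intro h3
    have h4 : (⟨(j : G), hjQ⟩ : Q) = ⟨i, hiQ⟩ := Subtype.ext h3
    rw [h4, h1] at h2
    exact hij (by rw [h2])
  · intro h3
    have h4 : (⟨(j : G), hjQ⟩ : Q) = ⟨z, h.mem⟩ * ⟨i, hiQ⟩ := Subtype.ext h3
    rw [h4, map_mul, h1, h.rho_z e] at h2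
    apply hij
    rw [← h2, ← hi]
    group

end Coord

/-- type `SL₂(3)` together with a linear character -/
structure FT {A : Type*} [CommGroup A] (phi : G →* A) (K : Subgroup G) : Prop where
  ty : IsT K
  two : ∀ g, IsPGroup 2 (zpowers g) → phi g = 1
  core : ∀ n ∈ OO K, phi n = 1
  ex : ∃ k ∈ K, phi k ≠ 1

namespace FT

variable {A : Type*} [CommGroup A] {phi : G →* A}

theorem phi_mul (h : FT phi K) (hQ : Syl Q K) {q n : G} (hq : q ∈ Q) (hn : n ∈ OO K) : phi (q * n) = 1 := by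
  rw [map_mul, h.two q (isP_of_mem hQ.2.1 hq), h.core n hn, mul_one]

theorem phi_of_E8 (h : FT phi K) (e : ↥K ⧸ oddCore ↥K ≃* X) {k : K} (hk : psi e k ∈ E8) : phi k = 1 := by
  obtain ⟨Q, hQ⟩ := Hyp.exists_syl K
  obtain ⟨q, hq, n, hn, h1⟩ := exists_mul_of_E8 e hQ hk
  rw [h1]
  exact h.phi_mul hQ hq hn

/-- a power with odd exponent of an element with `phi g ≠ 1` is not killed together with its square -/
theorem phi_sq_ne (h : FT phi K) {g : G} (hg : phi g ≠ 1) : phi g * phi g ≠ 1 := by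
  intro h1
  obtain ⟨k, ⟨j, rfl⟩, hk2⟩ := OneFieldHom.exists_odd_pow g
  apply hg
  have h2 := h.two _ hk2
  rwa [map_pow, pow_succ, pow_mul, pow_two, h1, one_pow, one_mul] at h2

theorem phi_ne (h : FT phi K) (e : ↥K ⧸ oddCore ↥K ≃* X) {k : K} (hk : psi e k ∉ E8) : phi k ≠ 1 := by
  obtain ⟨k0, hk0, h0⟩ := h.ex
  have h1 : psi e ⟨k0, hk0⟩ ∉ E8 := fun h2 => h0 (h.phi_of_E8 e h2)
  intro h2
  rcases E8_mul_or (psi e k) (psi e ⟨k0, hk0⟩) hk h1 with h3 | h3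
  · rw [← map_inv, ← map_mul] at h3
    have h4 := h.phi_of_E8 e h3
    apply h0
    simpa [h2] using h4
  · rw [← map_mul] at h3
    have h4 := h.phi_of_E8 e h3
    apply h0
    simpa [h2] using h4

/-- **(F1)** a 2-element normalising `K` and `Q` acts on `Q` as an element of `Q` -/
theorem f_one (h : FT phi K) (hQ : Syl Q K) {g : G} (hgK : g ∈ normalizer (K : Set G))
    (hgQ : g ∈ normalizer (Q : Set G)) (hg2 : IsPGroup 2 (zpowers g)) :
    ∃ x ∈ Q, ∀ q ∈ Q, g * q * g⁻¹ = x * q * x⁻¹ := by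
  obtain ⟨e⟩ := h.ty
  obtain ⟨α, hα⟩ := exists_alpha e hgK
  have hcα : α cX * cX⁻¹ ∈ E8 := by
    rcases E8_mul_or cX (α cX) cX_not_mem (fun h1 => cX_not_mem (of_map_mem_E8 α h1)) with h1 | h1
    · exact h1
    · exfalso
      obtain ⟨k, hk⟩ := psi_surj e cX
      have h2 : psi e (⟨g * k * g⁻¹, conj_mem_of hgK k.2⟩ * k) ∈ E8 := by
        rw [map_mul, ← hα, hk]; exact h1
      have h3 := h.phi_of_E8 e h2
      have h4 : phi k ≠ 1 := h.phi_ne e (by rw [hk]; exact cX_not_mem)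
      apply h.phi_sq_ne h4
      rw [Subgroup.coe_mul, map_mul, map_mul, map_mul, map_inv, mul_comm (phi g), mul_assoc (phi k),
        mul_inv_cancel, mul_one] at h3
      exact h3
  obtain ⟨x, hx⟩ := exists_inner α hcα
  have hxn : ∀ n : ℕ, ∀ k : K, psi e ⟨g ^ n * k * (g ^ n)⁻¹, conj_mem_of (pow_mem hgK n) k.2⟩ = x ^ n * psi e k * (x ^ n)⁻¹ := by
    intro n
    induction n with
    | zero => intro k; simp
    | succ n ih =>
      intro k
      have h1 : (⟨g ^ (n + 1) * k * (g ^ (n + 1))⁻¹, conj_mem_of (pow_mem hgK (n + 1)) k.2⟩ : K)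
          = ⟨g * ((⟨g ^ n * k * (g ^ n)⁻¹, conj_mem_of (pow_mem hgK n) k.2⟩ : K) : G) * g⁻¹,
            conj_mem_of hgK (conj_mem_of (pow_mem hgK n) k.2)⟩ := by
        apply Subtype.ext
        simp only [pow_succ']
        group
      rw [h1, ← hα, ih, hx, pow_succ']
      generalize psi e k = y
      group
  have hxE : x ∈ E8 := by
    obtain ⟨n, hn⟩ := isP_iff.1 hg2
    refine mem_E8_of_cent (n := n) fun y => ?_
    obtain ⟨k, rfl⟩ := psi_surj e y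
    have h2 := hxn (2 ^ n) k
    have h3 : (⟨g ^ 2 ^ n * k * (g ^ 2 ^ n)⁻¹, conj_mem_of (pow_mem hgK _) k.2⟩ : K) = k := by
      apply Subtype.ext
      simp only [hn]
      group
    rw [h3] at h2
    exact (mul_inv_eq_iff_eq_mul.1 h2.symm)
  obtain ⟨q0, hq0, hq0x⟩ := exists_psi e hQ hxE
  refine ⟨q0, hq0, fun q hq => ?_⟩
  have h1 : g * q * g⁻¹ ∈ Q := (mem_normalizer_iff.1 hgQ q).1 hq
  have h2 : (q0 : G) * q * (q0 : G)⁻¹ ∈ Q := Q.mul_mem (Q.mul_mem hq0 hq) (Q.inv_mem hq0)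
  have h3 : psi e ⟨g * q * g⁻¹, hQ.1 h1⟩ = psi e (q0 * ⟨q, hQ.1 hq⟩ * q0⁻¹) := by
    rw [map_mul, map_mul, map_inv, hq0x, ← hx, hα]
  have h4 := (psi_eq e).1 h3
  have h5 : (g * q * g⁻¹)⁻¹ * ((q0 : G) * q * (q0 : G)⁻¹) = 1 :=
    inf_OO hQ.2.1 (Q.mul_mem (Q.inv_mem h1) h2) h4
  exact inv_mul_eq_one.1 h5

/-- elements of `K` outside the kernel act fixed point freely on `Q / Z(Q)` -/
theorem fpf (h : FT phi K) {z : G} (hz : QZ K Q z) {k q : G} (hk : k ∈ K) (hk1 : phi k ≠ 1) (hq : q ∈ Q)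
    (hq2 : q * q = z) : k * q * k⁻¹ ≠ q ∧ k * q * k⁻¹ ≠ z * q := by
  obtain ⟨e⟩ := h.ty
  have h1 : psi e ⟨k, hk⟩ ∉ E8 := fun h2 => hk1 (h.phi_of_E8 e h2)
  have hqK := hz.syl.1 hq
  have hzz := psi_zz e hz.syl hz.mem hz.ne hz.sq
  have h2 : psi e ⟨q, hqK⟩ * psi e ⟨q, hqK⟩ = zX := by
    rw [← map_mul, ← hzz]; congr 1; exact Subtype.ext hq2
  obtain ⟨h3, h4⟩ := fpf_aux _ _ h1 h2
  constructor
  · intro h5
    apply h3
    rw [← map_inv, ← map_mul, ← map_mul]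
    congr 1
    exact Subtype.ext h5
  · intro h5
    apply h4
    rw [← hzz, ← map_inv, ← map_mul, ← map_mul, ← map_mul]
    congr 1
    exact Subtype.ext h5

end FT

end Cfsg.Agent.Cit.QTwo.CI
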