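import Cfsg.Agent.Cit.QTwo.CaseIElt

/-!
# Case (I) of [Q2]: the four-groups `V = {x x^y : x ∈ K ⊓ S}`, `V_J = {x x^z : x ∈ J ⊓ S'}` are equal

`Cfg.VV`, `Cfg.RK = V (O(K K') ∩ C(y))` (normal in `C(z, y)`, with Sylow 2-subgroup `V`), `Cfg.exists_fr`.
-/

set_option autoImplicit false
set_option linter.style.haveILetI false
set_option linter.unusedSectionVars false
set_option linter.unusedVariables false

namespace Cfsg.Agent.Cit.QTwo.CI

open Subgroup Cfsg Cit OneBasic SolvTwo TwoFK Cfsg.Agent.Cit.TwoP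

variable {G : Type*} [Group G] [Finite G] {Om : Set (Subgroup G)} {A : Type*} [CommGroup A] {phi : G →* A}

namespace Cfg

variable {K K' J J' T S S' : Subgroup G}

/-- `V` -/
def VV (d : Dat Om phi) (c : Cfg Om K K' J J' T S S') : Subgroup G where
  carrier := {t | ∃ x ∈ K ⊓ S, t = x * (zz J * x * (zz J)⁻¹)}
  one_mem' := ⟨1, one_mem _, by group⟩
  mul_mem' := by
    rintro _ _ ⟨x, hx, rfl⟩ ⟨u, hu, rfl⟩
    refine ⟨x * u, mul_mem hx hu, ?_⟩
    have h1 := c.commQ d hu (c.conj_mem d hx)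
    calc x * (zz J * x * (zz J)⁻¹) * (u * (zz J * u * (zz J)⁻¹))
        = x * ((zz J * x * (zz J)⁻¹) * u) * (zz J * u * (zz J)⁻¹) := by group
      _ = x * (u * (zz J * x * (zz J)⁻¹)) * (zz J * u * (zz J)⁻¹) := by rw [h1]
      _ = _ := by group
  inv_mem' := by
    rintro _ ⟨x, hx, rfl⟩
    refine ⟨x⁻¹, inv_mem hx, ?_⟩
    have h1 := c.commQ d hx (c.conj_mem d hx)
    rw [h1]
    group

theorem mem_VV (d : Dat Om phi) (c : Cfg Om K K' J J' T S S') {t : G} :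
    t ∈ c.VV d ↔ ∃ x ∈ K ⊓ S, t = x * (zz J * x * (zz J)⁻¹) := Iff.rfl

theorem VV_le_T (d : Dat Om phi) (c : Cfg Om K K' J J' T S S') : c.VV d ≤ T := by
  rintro _ ⟨x, hx, rfl⟩
  refine c.mem_T (S.mul_mem hx.2 (c.conj_mem d hx).2) ?_
  have h1 := c.commQ d hx (c.conj_mem d hx)
  have h2 : zz J * (x * (zz J * x * (zz J)⁻¹)) * (zz J)⁻¹ = x * (zz J * x * (zz J)⁻¹) := by
    calc zz J * (x * (zz J * x * (zz J)⁻¹)) * (zz J)⁻¹
        = (zz J * x * (zz J)⁻¹) * (zz J * (zz J * x * (zz J)⁻¹) * (zz J)⁻¹) := by group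
      _ = (zz J * x * (zz J)⁻¹) * x := by rw [c.conj_conj d]
      _ = _ := h1.symm
  rw [mul_inv_eq_iff_eq_mul] at h2
  exact h2.symm

theorem isP_VV (d : Dat Om phi) (c : Cfg Om K K' J J' T S S') : IsPGroup 2 (c.VV d) :=
  c.hT.2.1.to_le (c.VV_le_T d)

theorem VV_comm (d : Dat Om phi) (c : Cfg Om K K' J J' T S S') {t : G} (ht : t ∈ c.VV d) :
    t * zz K = zz K * t ∧ t * zz J = zz J * t := c.comm_T (c.VV_le_T d ht)

theorem four_mem (d : Dat Om phi) (c : Cfg Om K K' J J' T S S') {x : G} (hx : x ∈ K ⊓ S) :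
    x * (zz J * x * (zz J)⁻¹) ∈ c.VV d := ⟨x, hx, rfl⟩

theorem four_ne (d : Dat Om phi) (c : Cfg Om K K' J J' T S S') {x : G} (hx : x ∈ K ⊓ S) (hxx : x * x = zz K) :
    x * (zz J * x * (zz J)⁻¹) ≠ 1 := by
  intro h
  have h1 := c.not_perp d hx hxx c.mK.hK
  rw [h] at h1
  exact h1 (Perp.one K)

theorem zz_diag (d : Dat Om phi) (c : Cfg Om K K' J J' T S S') (x : G) :
    zz K * x * (zz J * (zz K * x) * (zz J)⁻¹) = x * (zz J * x * (zz J)⁻¹) ∨ x * zz K ≠ zz K * x := by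
  by_cases h : x * zz K = zz K * x
  · left
    have h1 := c.comm
    have h2 := d.hyp.zz_mul c.mK.hK
    calc zz K * x * (zz J * (zz K * x) * (zz J)⁻¹) = zz K * x * (zz J * zz K) * x * (zz J)⁻¹ := by group
      _ = zz K * (x * zz K) * zz J * x * (zz J)⁻¹ := by rw [← h1]; group
      _ = (zz K * zz K) * x * zz J * x * (zz J)⁻¹ := by rw [h]; group
      _ = _ := by rw [h2]; group
  · exact Or.inr h

/-- `(z x) (z x)^y = x x^y` -/
theorem diag_z (d : Dat Om phi) (c : Cfg Om K K' J J' T S S') {x : G} (hx : x ∈ K ⊓ S) :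
    zz K * x * (zz J * (zz K * x) * (zz J)⁻¹) = x * (zz J * x * (zz J)⁻¹) :=
  (c.zz_diag d x).resolve_right fun h => h (c.comm_S hx.2)

theorem diag_zz (d : Dat Om phi) (c : Cfg Om K K' J J' T S S') : zz K * (zz J * zz K * (zz J)⁻¹) = 1 := by
  rw [← c.comm, mul_inv_cancel_right, d.hyp.zz_mul c.mK.hK]

theorem VV_cases (d : Dat Om phi) (c : Cfg Om K K' J J' T S S') {t : G} (ht : t ∈ c.VV d) (h1 : t ≠ 1) :
    ∃ x ∈ K ⊓ S, x * x = zz K ∧ t = x * (zz J * x * (zz J)⁻¹) := by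
  obtain ⟨x, hx, rfl⟩ := ht
  refine ⟨x, hx, ?_, rfl⟩
  have hq := d.qz c.mK.hK (c.sylK d)
  rcases hq.sq_or hx with h2 | h2
  · exfalso
    rcases hq.eq_or hx h2 with h3 | h3
    · apply h1; rw [h3]; group
    · apply h1; rw [h3]; exact c.diag_zz d
  · exact h2

theorem VV_sq (d : Dat Om phi) (c : Cfg Om K K' J J' T S S') {t : G} (ht : t ∈ c.VV d) : t * t = 1 := by
  by_cases h1 : t = 1
  · rw [h1, one_mul]
  · obtain ⟨x, hx, hxx, rfl⟩ := c.VV_cases d ht h1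
    have h2 := c.commQ d hx (c.conj_mem d hx)
    calc x * (zz J * x * (zz J)⁻¹) * (x * (zz J * x * (zz J)⁻¹))
        = x * ((zz J * x * (zz J)⁻¹) * x) * (zz J * x * (zz J)⁻¹) := by group
      _ = x * (x * (zz J * x * (zz J)⁻¹)) * (zz J * x * (zz J)⁻¹) := by rw [h2]
      _ = (x * x) * (zz J * (x * x) * (zz J)⁻¹) := by group
      _ = 1 := by rw [hxx]; exact c.diag_zz d

/-- different coordinates give different elements of `V` -/
theorem diag_inj (d : Dat Om phi) (c : Cfg Om K K' J J' T S S') {i j : G} (hi : i ∈ K ⊓ S) (hj : j ∈ K ⊓ S)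
    (h1 : j ≠ i) (h2 : j ≠ zz K * i) : i * (zz J * i * (zz J)⁻¹) ≠ j * (zz J * j * (zz J)⁻¹) := by
  intro h
  have hq := d.qz c.mK.hK (c.sylK d)
  have hx : j⁻¹ * i ∈ K ⊓ S := mul_mem (inv_mem hj) hi
  have h3 : (j⁻¹ * i) * (zz J * (j⁻¹ * i) * (zz J)⁻¹) = 1 := by
    have h4 := c.commQ d hi (c.conj_mem d (inv_mem hj))
    calc (j⁻¹ * i) * (zz J * (j⁻¹ * i) * (zz J)⁻¹)
        = j⁻¹ * (i * (zz J * j⁻¹ * (zz J)⁻¹)) * (zz J * i * (zz J)⁻¹) := by group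
      _ = j⁻¹ * ((zz J * j⁻¹ * (zz J)⁻¹) * i) * (zz J * i * (zz J)⁻¹) := by rw [h4]
      _ = j⁻¹ * (zz J * j⁻¹ * (zz J)⁻¹) * (i * (zz J * i * (zz J)⁻¹)) := by group
      _ = j⁻¹ * (zz J * j⁻¹ * (zz J)⁻¹) * (j * (zz J * j * (zz J)⁻¹)) := by rw [h]
      _ = j⁻¹ * ((zz J * j * (zz J)⁻¹)⁻¹ * j) * (zz J * j * (zz J)⁻¹) := by group
      _ = j⁻¹ * (j * (zz J * j * (zz J)⁻¹)⁻¹) * (zz J * j * (zz J)⁻¹) := by
          rw [c.commQ d hj (inv_mem (c.conj_mem d hj))]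
      _ = 1 := by group
  rcases hq.sq_or hx with h4 | h4
  · rcases hq.eq_or hx h4 with h5 | h5
    · exact h1 (inv_mul_eq_one.1 h5)
    · apply h2
      have h6 : i = j * zz K := by rw [← h5]; group
      rw [h6, ← mul_assoc, ← c.comm_S hj.2, mul_assoc, hq.sq, mul_one]
  · exact c.four_ne d hx h4 h3

/-- an element of odd order commuting with `z` normalises `K` -/
theorem _root_.Cfsg.Agent.Cit.QTwo.CI.Dat.odd_norm (d : Dat Om phi) {K L : Subgroup G} (m : Mate Om K L) {g : G}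
    (hz : g * zz K = zz K * g) (hg : Odd (orderOf g)) : g ∈ normalizer (K : Set G) := by
  obtain ⟨k, hk⟩ := hg
  have h1 := pow_orderOf_eq_one g
  rw [hk, pow_succ, pow_mul, pow_two] at h1
  have h2 : g = ((g * g) ^ k)⁻¹ := eq_inv_of_mul_eq_one_right h1
  rw [h2]
  exact inv_mem (pow_mem (d.b.sq_norm m hz) k)

/-! ### The normal subgroup `R_K` of `C(z, y)` -/

theorem cj_sup_KK (d : Dat Om phi) (c : Cfg Om K K' J J' T S S') {h : G} (hz : h * zz K = zz K * h) :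
    cj h (K ⊔ K') = K ⊔ K' := by
  rw [cj_sup]
  rcases d.b.cj_or c.mK hz with h1 | h1
  · rw [h1.1, h1.2]
  · rw [h1.1, h1.2, sup_comm]

/-- `N_K = O(K K') ∩ C(y)` -/
def NK (c : Cfg Om K K' J J' T S S') : Subgroup G := OO (K ⊔ K') ⊓ centralizer {zz J}

theorem odd_NK (c : Cfg Om K K' J J' T S S') : ¬ 2 ∣ Nat.card c.NK := fun h =>
  odd_OO _ (h.trans (card_dvd_of_le inf_le_left))

theorem norm_NK (d : Dat Om phi) (c : Cfg Om K K' J J' T S S') {h : G} (hz : h * zz K = zz K * h)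
    (hy : h * zz J = zz J * h) : h ∈ normalizer (c.NK : Set G) := by
  rw [mem_normalizer_iff_cj, NK, cj_inf, ← OO_cj, c.cj_sup_KK d hz,
    mem_normalizer_iff_cj.1 (le_normalizer (mem_centralizer_singleton_iff.2 hy))]

/-- `R_K = V N_K` -/
def RK (d : Dat Om phi) (c : Cfg Om K K' J J' T S S') : Subgroup G := c.VV d ⊔ c.NK

theorem VV_le_norm_NK (d : Dat Om phi) (c : Cfg Om K K' J J' T S S') : c.VV d ≤ normalizer (c.NK : Set G) :=
  fun _ ht => c.norm_NK d (c.VV_comm d ht).1 (c.VV_comm d ht).2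

theorem syl_VV (d : Dat Om phi) (c : Cfg Om K K' J J' T S S') : Syl (c.VV d) (c.RK d) :=
  syl_sup_odd c.odd_NK (c.isP_VV d) (c.VV_le_norm_NK d)

theorem mem_VV_of_RK (d : Dat Om phi) (c : Cfg Om K K' J J' T S S') {t : G} (ht : t ∈ T) (h : t ∈ c.RK d) :
    t ∈ c.VV d := by
  have h1 : c.VV d = T ⊓ c.RK d :=
    syl_eq_of_le (c.syl_VV d) (c.hT.2.1.to_le inf_le_left) inf_le_right (le_inf (c.VV_le_T d) (c.syl_VV d).1)
  rw [h1]
  exact mem_inf.2 ⟨ht, h⟩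

theorem OO_le_sup (d : Dat Om phi) (c : Cfg Om K K' J J' T S S') : OO K ≤ OO (K ⊔ K') := by
  have hcom := (d.hyp.h2 K c.mK.hK K' c.mK.hL c.mK.zz).resolve_left c.mK.ne
  have hLK : K' ≤ normalizer (OO K : Set G) := by
    intro x hx
    rw [mem_normalizer_iff_cj, ← OO_cj, mem_normalizer_iff_cj.1 (c.mK.symm.le_normalizer d.hyp hx)]
  exact le_OO ((OO_le K).trans le_sup_left) (sup_le (le_normalizer_OO K) hLK) (odd_OO K)

theorem RK_le_C (d : Dat Om phi) (c : Cfg Om K K' J J' T S S') :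
    c.RK d ≤ centralizer {zz K} ⊓ centralizer {zz J} := by
  refine sup_le ((c.VV_le_T d).trans c.hT.1) (inf_le_inf_right _ ?_)
  refine (OO_le _).trans (sup_le (d.hyp.le_centralizer c.mK.hK) ?_)
  rw [c.mK.zz]
  exact d.hyp.le_centralizer c.mK.hL

theorem RK_le_sup (d : Dat Om phi) (c : Cfg Om K K' J J' T S S') : c.RK d ≤ K ⊔ K' := by
  refine sup_le ?_ (inf_le_left.trans (OO_le _))
  rintro _ ⟨x, hx, rfl⟩
  exact mul_mem (mem_sup_left hx.1) (mem_sup_right (c.conj_mem d hx).1)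

theorem conj_VV (d : Dat Om phi) (c : Cfg Om K K' J J' T S S') {h : G} (hz : h * zz K = zz K * h)
    (hy : h * zz J = zz J * h) {t : G} (ht : t ∈ c.VV d) : h * t * h⁻¹ ∈ c.RK d := by
  -- the case `h ∈ N(K)`
  have key : ∀ h : G, h ∈ normalizer (K : Set G) → h * zz J = zz J * h → h * t * h⁻¹ ∈ c.RK d := by
    intro h hK hy
    obtain ⟨x, hx, rfl⟩ := ht
    have h1 : h * x * h⁻¹ ∈ K := (mem_normalizer_iff.1 hK x).1 hx.1
    have h2 : IsPGroup 2 (zpowers (h * x * h⁻¹)) := by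
      have := isPGroup_cj (g := h) (isP_of_mem c.hS.2.1 hx.2)
      rw [cj_def, MonoidHom.map_zpowers] at this
      exact this
    obtain ⟨q, hq, n, hn, h3⟩ := exists_mul_of_two (d.ty c.mK.hK) (c.sylK d) h1 h2
    obtain ⟨q', hq'⟩ : ∃ q', q' = zz J * q * (zz J)⁻¹ := ⟨_, rfl⟩
    obtain ⟨n', hn'⟩ : ∃ n', n' = zz J * n * (zz J)⁻¹ := ⟨_, rfl⟩
    have hq'm : q' ∈ K' ⊓ S := by rw [hq']; exact c.conj_mem d hq
    have hn'm : n' ∈ OO K' := by
      rw [hn', ← c.swapK d, OO_cj]; exact conj_mem_cj hn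
    have hyh : h * (zz J * x * (zz J)⁻¹) * h⁻¹ = q' * n' := by
      have h4 : h * zz J * h⁻¹ = zz J := by rw [hy, mul_inv_cancel_right]
      calc h * (zz J * x * (zz J)⁻¹) * h⁻¹ = (h * zz J * h⁻¹) * (h * x * h⁻¹) * (h * zz J * h⁻¹)⁻¹ := by group
        _ = zz J * (q * n) * (zz J)⁻¹ := by rw [h4, h3]
        _ = q' * n' := by rw [hq', hn']; group
    have h5 : h * (x * (zz J * x * (zz J)⁻¹)) * h⁻¹ = (q * q') * ((q'⁻¹ * n * q') * n') := by
      calc h * (x * (zz J * x * (zz J)⁻¹)) * h⁻¹ = (h * x * h⁻¹) * (h * (zz J * x * (zz J)⁻¹) * h⁻¹) := by group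
        _ = q * n * (q' * n') := by rw [hyh, h3]
        _ = _ := by group
    have h6 : q * q' ∈ c.VV d := by rw [hq']; exact c.four_mem d hq
    have h7 : (q'⁻¹ * n * q') * n' ∈ OO (K ⊔ K') := by
      have h8 : q'⁻¹ ∈ normalizer (OO (K ⊔ K') : Set G) := inv_mem (le_normalizer_OO _ (mem_sup_right hq'm.1))
      refine mul_mem ?_ ?_
      · have := (mem_normalizer_iff.1 h8 n).1 (c.OO_le_sup d hn)
        rwa [inv_inv] at this
      · rw [sup_comm]; exact c.mate.OO_le_sup d hn'm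
    rw [h5]
    refine mul_mem (mem_sup_left h6) (mem_sup_right (mem_inf.2 ⟨h7, ?_⟩))
    have h8 : (q'⁻¹ * n * q') * n' = (q * q')⁻¹ * (h * (x * (zz J * x * (zz J)⁻¹)) * h⁻¹) := by
      rw [h5, inv_mul_cancel_left]
    rw [h8]
    refine mul_mem (inv_mem (mem_centralizer_singleton_iff.2 (c.VV_comm d h6).2)) ?_
    have h9 : h ∈ centralizer {zz J} := mem_centralizer_singleton_iff.2 hy
    exact mul_mem (mul_mem h9 (mem_centralizer_singleton_iff.2 (c.VV_comm d (c.four_mem d hx)).2)) (inv_mem h9)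
  rcases d.b.norm_or c.mK hz with h1 | h1
  · exact key h h1 hy
  · have h2 : h * zz J ∈ normalizer (K : Set G) := by
      rw [mem_normalizer_iff_cj, cj_mul, c.swapK d, d.b.cj_symm c.mK h1]
    have h3 := key (h * zz J) h2 (by rw [mul_assoc, ← mul_assoc (zz J), ← hy, mul_assoc])
    have h4 := (c.VV_comm d ht).2
    have h5 : h * zz J * t * (h * zz J)⁻¹ = h * t * h⁻¹ := by
      calc h * zz J * t * (h * zz J)⁻¹ = h * (zz J * t) * (zz J)⁻¹ * h⁻¹ := by group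
        _ = h * (t * zz J) * (zz J)⁻¹ * h⁻¹ := by rw [h4]
        _ = h * t * h⁻¹ := by group
    rwa [h5] at h3

/-- `R_K` is normal in `C(z, y)` -/
theorem norm_RK (d : Dat Om phi) (c : Cfg Om K K' J J' T S S') {h : G} (hz : h * zz K = zz K * h)
    (hy : h * zz J = zz J * h) : h ∈ normalizer (c.RK d : Set G) := by
  rw [mem_normalizer_iff_cj]
  refine eq_of_le_of_card_ge ?_ (by rw [card_cj])
  rw [RK, cj_sup, mem_normalizer_iff_cj.1 (c.norm_NK d hz hy), sup_le_iff]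
  refine ⟨?_, le_sup_right⟩
  rintro _ ⟨t, ht, rfl⟩
  exact c.conj_VV d hz hy ht

end Cfg

end Cfsg.Agent.Cit.QTwo.CI
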