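import Cfsg.Agent.Cit.QTwo.CaseIV

/-!
# Case (I) of [Q2]: `V = V_J`

`Cfg.exists_fr`: the configuration has coordinates `Fr`.
-/

set_option autoImplicit false
set_option linter.style.haveILetI false
set_option linter.unusedSectionVars false
set_option linter.unusedVariables false

namespace Cfsg.Agent.Cit.QTwo.CI

open Subgroup Cfsg Cit OneBasic SolvTwo TwoFK Cfsg.Agent.Cit.TwoP

variable {G : Type*} [Group G] [Finite G] {Om : Set (Subgroup G)} {A : Type*} [CommGroup A] {phi : G →* A}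

namespace Cfg

variable {K K' J J' T S S' : Subgroup G}

theorem cent_Q (d : Dat Om phi) (c : Cfg Om K K' J J' T S S') {q : G} (hq : q ∈ K ⊓ S)
    (h : ∀ x ∈ K ⊓ S, q * x = x * q) : q = 1 ∨ q = zz K := by
  have hz := d.qz c.mK.hK (c.sylK d)
  rcases hz.sq_or hq with h1 | h1
  · exact hz.eq_or hq h1
  · exfalso
    obtain ⟨i, hi, j, hj, hi2, hj2, hji, hji'⟩ := hz.exists_ij
    have h9 : ∀ a ∈ K ⊓ S, a * a = zz K → a = q ∨ a = zz K * q := by
      intro a ha haa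
      by_contra hcon
      push Not at hcon
      have h10 := hz.anti hq ha h1 haa hcon.1 hcon.2
      rw [h a ha] at h10
      exact hz.ne (by
        have := mul_right_cancel (b := a * q) (a := (1 : G)) (c := zz K) (by rw [one_mul]; exact h10)
        exact this.symm)
    rcases h9 i hi hi2 with h10 | h10 <;> rcases h9 j hj hj2 with h11 | h11
    · exact hji (h11.trans h10.symm)
    · exact hji' (by rw [h11, h10])
    · exact hji' (by rw [h11, h10, ← mul_assoc, hz.sq, one_mul])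
    · exact hji (h11.trans h10.symm)

/-- elements of `S ∩ K K'` centralising `K ⊓ S` and `K' ⊓ S` -/
theorem eq_of_cent_sup (d : Dat Om phi) (c : Cfg Om K K' J J' T S S') {u : G} (hu : u ∈ S) (hu' : u ∈ K ⊔ K')
    (h1 : ∀ x ∈ K ⊓ S, u * x = x * u) (h2 : ∀ x ∈ K' ⊓ S, u * x = x * u) : u = 1 ∨ u = zz K := by
  have hcom := (d.hyp.h2 K c.mK.hK K' c.mK.hL c.mK.zz).resolve_left c.mK.ne
  have hnn := c.mK.le_normalizer d.hyp
  obtain ⟨k, hk, k', hk', rfl⟩ := exists_mul_of_mem_sup hnn hu'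
  have hkz : ∀ k ∈ K, k * zz K = zz K * k := fun k hk => d.hyp.comm_zz c.mK.hK (le_normalizer hk)
  have hcm : ∀ a ∈ K, ∀ b ∈ K', a * b * a⁻¹ * b⁻¹ ∈ OO K ⊓ OO K' := by
    intro a ha b hb
    have := hcom (commutator_mem_commutator ha hb)
    rwa [commutatorElement_def] at this
  -- `k`
  have hk1 : k ∈ OO K ∨ zz K * k ∈ OO K := by
    refine mem_OO_or (d.ty c.mK.hK) (c.sylK d) (d.zz_mem_syl c.mK.hK (c.sylK d)) (d.hyp.zz_ne c.mK.hK)
      (d.hyp.zz_mul c.mK.hK) hk fun x hx => ?_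
    -- `k x k⁻¹ x⁻¹ = k (x k' x⁻¹ k'⁻¹) k⁻¹`
    have h3 := h1 x hx
    have h4 : k * x * k⁻¹ * x⁻¹ = k * (x * k' * x⁻¹ * k'⁻¹) * k⁻¹ := by
      calc k * x * k⁻¹ * x⁻¹ = k * x * k' * (k * k')⁻¹ * x⁻¹ := by group
        _ = k * x * k' * (x * (k * k'))⁻¹ := by group
        _ = k * x * k' * (k * k' * x)⁻¹ := by rw [h3]
        _ = _ := by group
    rw [h4]
    exact (mem_normalizer_iff.1 (le_normalizer_OO K hk) _).1 (hcm x hx.1 k' hk').1
  have hk'1 : k' ∈ OO K' ∨ zz K * k' ∈ OO K' := by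
    rw [c.mK.zz]
    refine mem_OO_or (d.ty c.mK.hL) (c.sylK' d) (d.zz_mem_syl c.mK.hL (c.sylK' d)) (d.hyp.zz_ne c.mK.hL)
      (d.hyp.zz_mul c.mK.hL) hk' fun x hx => ?_
    have h3 := h2 x hx
    have h4 : k' * x * k'⁻¹ * x⁻¹ = k⁻¹ * x * k * x⁻¹ := by
      calc k' * x * k'⁻¹ * x⁻¹ = k⁻¹ * (k * k' * x) * k'⁻¹ * x⁻¹ := by group
        _ = k⁻¹ * (x * (k * k')) * k'⁻¹ * x⁻¹ := by rw [h3]
        _ = _ := by group
    rw [h4]
    have := (hcm _ (K.inv_mem hk) x hx.1).2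
    rwa [inv_inv] at this
  -- the product lies in `⟨z⟩ N₀`
  have hN : ∀ u ∈ S, u ∈ OO (K ⊔ K') → u = 1 := fun u hu h3 => eq_one_of_mem_odd c.hS.2.1 (odd_OO _) hu h3
  have hO := c.OO_le_sup d
  have hO' : OO K' ≤ OO (K ⊔ K') := by rw [sup_comm]; exact c.mate.OO_le_sup d
  have hzS : zz K ∈ S := c.TS (c.zmem_T d)
  have hz2 := d.hyp.zz_mul c.mK.hK
  have key : k * k' ∈ OO (K ⊔ K') ∨ zz K * (k * k') ∈ OO (K ⊔ K') := by
    rcases hk1 with h3 | h3 <;> rcases hk'1 with h4 | h4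
    · exact Or.inl (mul_mem (hO h3) (hO' h4))
    · right
      have h5 := mul_mem (hO h3) (hO' h4)
      rwa [show k * (zz K * k') = zz K * (k * k') by rw [← mul_assoc, hkz k hk, mul_assoc]] at h5
    · right
      have h5 := mul_mem (hO h3) (hO' h4)
      rwa [mul_assoc] at h5
    · left
      have h5 := mul_mem (hO h3) (hO' h4)
      rwa [show zz K * k * (zz K * k') = k * k' by
        rw [← hkz k hk, mul_assoc, ← mul_assoc (zz K), hz2, one_mul]] at h5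
  rcases key with h3 | h3
  · exact Or.inl (hN _ hu h3)
  · right
    have h4 := hN _ (S.mul_mem hzS hu) h3
    calc k * k' = zz K * (zz K * (k * k')) := by rw [← mul_assoc, hz2, one_mul]
      _ = zz K := by rw [h4, mul_one]

/-- `T ∩ K K' ⊆ V ∪ z V` -/
theorem mem_of_sup (d : Dat Om phi) (c : Cfg Om K K' J J' T S S') {w : G} (hw : w ∈ T) (hw' : w ∈ K ⊔ K') :
    w ∈ c.VV d ∨ zz K * w ∈ c.VV d := by
  have hz := d.qz c.mK.hK (c.sylK d)
  have hwS := c.TS hw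
  have hwp := isP_of_mem c.hS.2.1 hwS
  have hn : K ⊔ K' ≤ normalizer (K : Set G) := sup_le le_normalizer (c.mK.symm.le_normalizer d.hyp)
  have hn' : K ⊔ K' ≤ normalizer (K' : Set G) := sup_le (c.mK.le_normalizer d.hyp) le_normalizer
  have hQn : ∀ M : Subgroup G, w ∈ normalizer (M : Set G) → w ∈ normalizer ((M ⊓ S : Subgroup G) : Set G) := by
    intro M hM
    rw [mem_normalizer_iff_cj, cj_inf, mem_normalizer_iff_cj.1 hM, mem_normalizer_iff_cj.1 (le_normalizer hwS)]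
  obtain ⟨q, hq, hqx⟩ := d.f1 c.mK.hK (c.sylK d) (hn hw') (hQn K (hn hw')) hwp
  obtain ⟨r, hr, hrx⟩ := d.f1 c.mK.hL (c.sylK' d) (hn' hw') (hQn K' (hn' hw')) hwp
  have hqr := c.commQ d hq hr
  -- `u = (q r)⁻¹ w`
  have hu := c.eq_of_cent_sup d (u := (q * r)⁻¹ * w) (S.mul_mem (S.inv_mem (S.mul_mem hq.2 hr.2)) hwS)
    (mul_mem (inv_mem (mul_mem (mem_sup_left hq.1) (mem_sup_right hr.1))) hw')
    (by
      intro x hx
      have h1 := hqx x hx
      have h2 : r * x = x * r := (c.commQ d hx hr).symm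
      have h3 : w * x = q * x * q⁻¹ * w := by rw [← h1]; group
      calc (q * r)⁻¹ * w * x = (q * r)⁻¹ * (w * x) := by group
        _ = (r⁻¹ * q⁻¹) * (q * x * q⁻¹ * w) := by rw [h3]; group
        _ = r⁻¹ * x * q⁻¹ * w := by group
        _ = r⁻¹ * (x * r) * r⁻¹ * q⁻¹ * w := by group
        _ = r⁻¹ * (r * x) * r⁻¹ * q⁻¹ * w := by rw [h2]
        _ = x * ((q * r)⁻¹ * w) := by group)
    (by
      intro x hx
      have h1 := hrx x hx
      have h2 : q * x = x * q := c.commQ d hq hx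
      have h3 : w * x = r * x * r⁻¹ * w := by rw [← h1]; group
      calc (q * r)⁻¹ * w * x = (q * r)⁻¹ * (w * x) := by group
        _ = (r * q)⁻¹ * (r * x * r⁻¹ * w) := by rw [h3, hqr]
        _ = q⁻¹ * x * r⁻¹ * w := by group
        _ = q⁻¹ * (x * q) * q⁻¹ * r⁻¹ * w := by group
        _ = q⁻¹ * (q * x) * q⁻¹ * r⁻¹ * w := by rw [h2]
        _ = x * ((r * q)⁻¹ * w) := by group
        _ = x * ((q * r)⁻¹ * w) := by rw [hqr])
  -- `w = q r` with `q ∈ Q₁`, `r ∈ Q₂`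
  have hzK' : zz K ∈ K' ⊓ S := by rw [c.mK.zz]; exact d.zz_mem_syl c.mK.hL (c.sylK' d)
  obtain ⟨q, r, hq, hr, hwqr⟩ : ∃ q r, q ∈ K ⊓ S ∧ r ∈ K' ⊓ S ∧ w = q * r := by
    rcases hu with h1 | h1
    · exact ⟨q, r, hq, hr, (inv_mul_eq_one.1 h1).symm⟩
    · exact ⟨q, r * zz K, hq, mul_mem hr hzK', by rw [← mul_assoc, ← h1]; group⟩
  -- the conjugate under `y`
  obtain ⟨q', hq'⟩ : ∃ q', q' = zz J * q * (zz J)⁻¹ := ⟨_, rfl⟩
  obtain ⟨r', hr'⟩ : ∃ r', r' = zz J * r * (zz J)⁻¹ := ⟨_, rfl⟩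
  have hq'm : q' ∈ K' ⊓ S := by rw [hq']; exact c.conj_mem d hq
  have hr'm : r' ∈ K ⊓ S := by rw [hr']; exact c.mate.conj_mem d hr
  have h1 : q * r = q' * r' := by
    have h2 := (c.comm_T hw).2
    calc q * r = w := hwqr.symm
      _ = zz J * w * (zz J)⁻¹ := by rw [← h2, mul_inv_cancel_right]
      _ = q' * r' := by rw [hwqr, hq', hr']; group
  have h2 : r'⁻¹ * q = q' * r⁻¹ := by
    have h3 := c.commQ d hr'm hq'm
    calc r'⁻¹ * q = r'⁻¹ * (q * r) * r⁻¹ := by group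
      _ = r'⁻¹ * (r' * q') * r⁻¹ := by rw [h1, h3]
      _ = q' * r⁻¹ := by group
  have h3 : q' * r⁻¹ = 1 ∨ q' * r⁻¹ = zz K := by
    refine c.cent_Q d (by rw [← h2]; exact mul_mem (inv_mem hr'm) hq) fun x hx => ?_
    exact (c.commQ d hx (mul_mem hq'm (inv_mem hr))).symm
  rcases h3 with h4 | h4
  · left
    refine ⟨q, hq, ?_⟩
    rw [hwqr, ← hq', mul_inv_eq_one.1 h4]
  · right
    refine ⟨q, hq, ?_⟩
    have h5 : q' = zz K * r := by rw [← h4]; group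
    rw [hwqr, ← hq', h5, ← mul_assoc, ← mul_assoc, c.comm_S hq.2]

/-- `V_J ≤ N(K)` -/
theorem VV_norm (d : Dat Om phi) (c : Cfg Om K K' J J' T S S') {w : G} (hw : w ∈ c.symm.VV d) :
    w ∈ normalizer (K : Set G) := by
  by_cases hw1 : w = 1
  · rw [hw1]; exact one_mem _
  obtain ⟨a, haJ, haz, haP, hao, ha1, hfp⟩ := c.symm.exists_c d
  obtain ⟨x, hx, hxx, rfl⟩ := c.symm.VV_cases d hw hw1
  have hay : a * zz J = zz J * a := by
    have h1 : J ⊔ J' ≤ centralizer {zz J} := sup_le (d.hyp.le_centralizer c.mJ.hK) (by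
      rw [c.mJ.zz]; exact d.hyp.le_centralizer c.mJ.hL)
    exact mem_centralizer_singleton_iff.1 (h1 haJ)
  have haK : a ∈ normalizer (K : Set G) := d.odd_norm c.mK haz hao
  -- `w' = a w a⁻¹`
  have hconj : ∀ u ∈ J ⊓ S', a * (u * (zz K * u * (zz K)⁻¹)) * a⁻¹ =
      (a * u * a⁻¹) * (zz K * (a * u * a⁻¹) * (zz K)⁻¹) := by
    intro u hu
    have h4 : a * zz K * a⁻¹ = zz K := by rw [haz, mul_inv_cancel_right]
    calc a * (u * (zz K * u * (zz K)⁻¹)) * a⁻¹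
        = (a * u * a⁻¹) * ((a * zz K * a⁻¹) * (a * u * a⁻¹) * (a * zz K * a⁻¹)⁻¹) := by group
      _ = _ := by rw [h4]
  have hmem : ∀ u ∈ J ⊓ S', a * u * a⁻¹ ∈ J ⊓ S' := fun u hu => (mem_normalizer_iff.1 haP u).1 hu
  have hsq : ∀ u, u * u = zz J → (a * u * a⁻¹) * (a * u * a⁻¹) = zz J := by
    intro u hu
    calc (a * u * a⁻¹) * (a * u * a⁻¹) = a * (u * u) * a⁻¹ := by group
      _ = zz J := by rw [hu, hay, mul_inv_cancel_right]
  obtain ⟨w, hwdef⟩ : ∃ w, w = x * (zz K * x * (zz K)⁻¹) := ⟨_, rfl⟩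
  obtain ⟨v, hvdef⟩ : ∃ v, v = (a * x * a⁻¹) * (zz K * (a * x * a⁻¹) * (zz K)⁻¹) := ⟨_, rfl⟩
  rw [← hwdef] at hw hw1 ⊢
  have hwv : a * w * a⁻¹ = v := by rw [hwdef, hvdef]; exact hconj x hx
  have hv : v ∈ c.symm.VV d := by rw [hvdef]; exact c.symm.four_mem d (hmem x hx)
  have hz := d.qz c.mJ.hK (c.symm.sylK d)
  have hx' := hfp x hx hxx
  -- `V_J = {1, w, v, w v}`
  have hcases : ∀ t ∈ c.symm.VV d, t = 1 ∨ t = w ∨ t = v ∨ t = w * v := by
    intro t ht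
    obtain ⟨u, hu, rfl⟩ := ht
    have e1 : ∀ s ∈ J ⊓ S', zz J * s * (zz K * (zz J * s) * (zz K)⁻¹) = s * (zz K * s * (zz K)⁻¹) :=
      fun s hs => c.symm.diag_z d hs
    have e2 : (x * (a * x * a⁻¹)) * (zz K * (x * (a * x * a⁻¹)) * (zz K)⁻¹) = w * v := by
      have h5 := c.symm.commQ d (hmem x hx) (c.symm.conj_mem d hx)
      rw [hwdef, hvdef]
      calc (x * (a * x * a⁻¹)) * (zz K * (x * (a * x * a⁻¹)) * (zz K)⁻¹)
          = x * ((a * x * a⁻¹) * (zz K * x * (zz K)⁻¹)) * (zz K * (a * x * a⁻¹) * (zz K)⁻¹) := by group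
        _ = x * ((zz K * x * (zz K)⁻¹) * (a * x * a⁻¹)) * (zz K * (a * x * a⁻¹) * (zz K)⁻¹) := by rw [h5]
        _ = _ := by group
    rcases hz.cases hx (hmem x hx) hxx (hsq x hxx) hx'.1 hx'.2 hu with h | h | h | h | h | h | h | h
    · left; rw [h]; group
    · left; rw [h]; exact c.symm.diag_zz d
    · right; left; rw [h, hwdef]
    · right; left; rw [h, e1 x hx, hwdef]
    · right; right; left; rw [h, hvdef]
    · right; right; left; rw [h, e1 _ (hmem x hx), hvdef]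
    · right; right; right; rw [h, e2]
    · right; right; right; rw [h, e1 _ (mul_mem hx (hmem x hx)), e2]
  -- `a v a⁻¹ = w v`
  have hav : a * v * a⁻¹ = w * v := by
    have h5 : a * v * a⁻¹ ∈ c.symm.VV d := by
      rw [hvdef, hconj _ (hmem x hx)]; exact c.symm.four_mem d (hmem _ (hmem x hx))
    have hv1 : v ≠ 1 := by
      rw [hvdef]; exact c.symm.four_ne d (hmem x hx) (hsq x hxx)
    rcases hcases _ h5 with h | h | h | h
    · exfalso; apply hv1; exact conj_eq_one_iff.1 h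
    · -- `a² w a⁻² = w`
      exfalso
      have h6 : (a * a) * w = w * (a * a) := by
        have h7 : (a * a) * w * (a * a)⁻¹ = w := by
          calc (a * a) * w * (a * a)⁻¹ = a * (a * w * a⁻¹) * a⁻¹ := by group
            _ = w := by rw [hwv, h]
        rwa [mul_inv_eq_iff_eq_mul] at h7
      obtain ⟨k, hk⟩ := hao
      have h7 := pow_orderOf_eq_one a
      rw [hk, pow_succ, pow_mul, pow_two] at h7
      have h8 : a = ((a * a) ^ k)⁻¹ := eq_inv_of_mul_eq_one_right h7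
      have h9 : a * w = w * a := by
        rw [h8]
        exact ((show Commute (a * a) w from h6).pow_left k).inv_left.eq
      have h10 : v = w := by rw [← hwv, h9, mul_inv_cancel_right]
      refine c.symm.diag_inj d hx (hmem x hx) hx'.1 hx'.2 ?_
      rw [← hwdef, ← hvdef, h10]
    · exfalso
      have h10 : w = v := by
        have h11 : a * v * a⁻¹ = a * w * a⁻¹ := by rw [h, hwv]
        exact (mul_left_cancel (mul_right_cancel h11)).symm
      refine c.symm.diag_inj d hx (hmem x hx) hx'.1 hx'.2 ?_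
      rw [← hwdef, ← hvdef, h10]
    · exact h
  by_contra hcon
  have hwz := (c.comm_T (c.symm.VV_le_T d hw)).1
  have hvz := (c.comm_T (c.symm.VV_le_T d hv)).1
  have h1 : cj w K = K' := (d.b.norm_or c.mK hwz).resolve_left hcon
  have hcv : ∀ u : G, a * u * a⁻¹ ∈ normalizer (K : Set G) → u ∈ normalizer (K : Set G) := by
    intro u hu
    have h2 := mul_mem (mul_mem (inv_mem haK) hu) haK
    rwa [show a⁻¹ * (a * u * a⁻¹) * a = u by group] at h2
  have h2 : cj v K = K' := by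
    refine (d.b.norm_or c.mK hvz).resolve_left fun h => hcon (hcv w ?_)
    rw [hwv]; exact h
  have h3 : w * v ∈ normalizer (K : Set G) := d.b.swap_mul c.mK h1 h2
  exact d.b.not_norm c.mK h2 (hcv v (by rw [hav]; exact h3))

/-- powers of an element of odd order through its square -/
theorem eq_inv_of_odd {a : G} (h : Odd (orderOf a)) : ∃ k : ℕ, a = ((a * a) ^ k)⁻¹ := by
  obtain ⟨k, hk⟩ := h
  have h7 := pow_orderOf_eq_one a
  rw [hk, pow_succ, pow_mul, pow_two] at h7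
  exact ⟨k, eq_inv_of_mul_eq_one_right h7⟩

/-- `K K'` centralises `z` -/
theorem comm_of_sup (d : Dat Om phi) (c : Cfg Om K K' J J' T S S') {x : G} (hx : x ∈ K ⊔ K') :
    x * zz K = zz K * x := by
  have h1 : K ⊔ K' ≤ centralizer {zz K} := sup_le (d.hyp.le_centralizer c.mK.hK) (by
    rw [c.mK.zz]; exact d.hyp.le_centralizer c.mK.hL)
  exact mem_centralizer_singleton_iff.1 (h1 hx)

/-- conjugation of `x x^y` by an element of `C(y)` -/
theorem conj_diag {g y x : G} (hy : g * y = y * g) :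
    g * (x * (y * x * y⁻¹)) * g⁻¹ = (g * x * g⁻¹) * (y * (g * x * g⁻¹) * y⁻¹) := by
  have h4 : g * y * g⁻¹ = y := by rw [hy, mul_inv_cancel_right]
  calc g * (x * (y * x * y⁻¹)) * g⁻¹
      = (g * x * g⁻¹) * ((g * y * g⁻¹) * (g * x * g⁻¹) * (g * y * g⁻¹)⁻¹) := by group
    _ = _ := by rw [h4]

/-- a nontrivial element of `V ∩ V_J` -/
theorem exists_inf (d : Dat Om phi) (c : Cfg Om K K' J J' T S S') :
    ∃ w ∈ c.VV d, w ∈ c.symm.VV d ∧ w ≠ 1 := by
  obtain ⟨e, heK, hey, heQ, heo, he1, hef⟩ := c.exists_c d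
  obtain ⟨f, hfJ, hfz, hfP, hfo, hf1, hff⟩ := c.symm.exists_c d
  have hez := c.comm_of_sup d heK
  have hfy := c.symm.comm_of_sup d hfJ
  obtain ⟨x, hx, hxx⟩ := d.exists_four c.mJ.hK (c.symm.sylK d)
  obtain ⟨w, hw⟩ : ∃ w, w = x * (zz K * x * (zz K)⁻¹) := ⟨_, rfl⟩
  have hwV : w ∈ c.symm.VV d := by rw [hw]; exact c.symm.four_mem d hx
  have hw1 : w ≠ 1 := by rw [hw]; exact c.symm.four_ne d hx hxx
  have hwK := c.VV_norm d hwV
  have hwT := c.symm.VV_le_T d hwV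
  have hwS := c.TS hwT
  have hwp := isP_of_mem c.hS.2.1 hwS
  have hwz := (c.comm_T hwT).1
  have hwy := (c.comm_T hwT).2
  have hwQ : w ∈ normalizer ((K ⊓ S : Subgroup G) : Set G) := by
    rw [mem_normalizer_iff_cj, cj_inf, mem_normalizer_iff_cj.1 hwK, mem_normalizer_iff_cj.1 (le_normalizer hwS)]
  have hzq := d.qz c.mK.hK (c.sylK d)
  obtain ⟨q, hq, hqx⟩ := d.f1 c.mK.hK (c.sylK d) hwK hwQ hwp
  have hqq : q * q = zz K := by
    refine (hzq.sq_or hq).resolve_left fun h => ?_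
    refine c.symm.not_perp d hx hxx c.mK.hK ?_
    rw [← hw]
    refine ⟨hwp, hwK, _, c.sylK d, fun u hu => ?_⟩
    have h1 := hqx u hu
    rw [← mul_inv_eq_iff_eq_mul, h1]
    rcases hzq.eq_or hq h with h2 | h2
    · rw [h2]; group
    · rw [h2, ← c.comm_S hu.2, mul_inv_cancel_right]
  -- the commutator
  obtain ⟨n, hn⟩ : ∃ n, n = e * w * e⁻¹ * w⁻¹ := ⟨_, rfl⟩
  obtain ⟨r, hr⟩ : ∃ r, r = e * q * e⁻¹ * q⁻¹ := ⟨_, rfl⟩
  have heq : e * q * e⁻¹ ∈ K ⊓ S := (mem_normalizer_iff.1 heQ q).1 hq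
  have hrQ : r ∈ K ⊓ S := by rw [hr]; exact mul_mem heq (inv_mem hq)
  have hrz : r ≠ 1 ∧ r ≠ zz K := by
    obtain ⟨h1, h2⟩ := hef q hq hqq
    constructor
    · intro h; rw [hr, mul_inv_eq_one] at h; exact h1 h
    · intro h; rw [hr, mul_inv_eq_iff_eq_mul] at h; exact h2 h
  have hnr : ∀ u ∈ K ⊓ S, n * u * n⁻¹ = r * u * r⁻¹ := by
    intro u hu
    have h1 : w⁻¹ * u * w = q⁻¹ * u * q := by
      have h2 : q⁻¹ * u * q ∈ K ⊓ S := mul_mem (mul_mem (inv_mem hq) hu) hq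
      have h3 := hqx _ h2
      calc w⁻¹ * u * w = w⁻¹ * (q * (q⁻¹ * u * q) * q⁻¹) * w := by group
        _ = q⁻¹ * u * q := by rw [← h3]; group
    have h4 : e⁻¹ * (q⁻¹ * u * q) * e ∈ K ⊓ S := by
      have h2 : q⁻¹ * u * q ∈ K ⊓ S := mul_mem (mul_mem (inv_mem hq) hu) hq
      have := (mem_normalizer_iff.1 (inv_mem heQ) _).1 h2
      rwa [inv_inv] at this
    have h5 := hqx _ h4
    calc n * u * n⁻¹ = e * (w * (e⁻¹ * (w⁻¹ * u * w) * e) * w⁻¹) * e⁻¹ := by rw [hn]; group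
      _ = e * (q * (e⁻¹ * (q⁻¹ * u * q) * e) * q⁻¹) * e⁻¹ := by rw [h1, h5]
      _ = r * u * r⁻¹ := by rw [hr]; group
  have hrr : r * r = zz K := by
    refine (hzq.sq_or hrQ).resolve_left fun h => ?_
    rcases hzq.eq_or hrQ h with h2 | h2
    · exact hrz.1 h2
    · exact hrz.2 h2
  have hno : ¬ Odd (orderOf n) := by
    intro hodd
    obtain ⟨k, hk⟩ := eq_inv_of_odd hodd
    have h1 : ∀ u ∈ K ⊓ S, (n * n) * u = u * (n * n) := by
      intro u hu
      have h2 : r * u * r⁻¹ ∈ K ⊓ S := mul_mem (mul_mem hrQ hu) (inv_mem hrQ)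
      have h3 : (n * n) * u * (n * n)⁻¹ = u := by
        calc (n * n) * u * (n * n)⁻¹ = n * (n * u * n⁻¹) * n⁻¹ := by group
          _ = r * (r * u * r⁻¹) * r⁻¹ := by rw [hnr u hu, hnr _ h2]
          _ = (r * r) * u * (r * r)⁻¹ := by group
          _ = u := by rw [hrr, ← c.comm_S hu.2, mul_inv_cancel_right]
      rwa [mul_inv_eq_iff_eq_mul] at h3
    have h2 : ∀ u ∈ K ⊓ S, r * u = u * r := by
      intro u hu
      have h3 : n * u = u * n := by
        rw [hk]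
        exact ((show Commute (n * n) u from h1 u hu).pow_left k).inv_left.eq
      have h4 := hnr u hu
      rw [h3, mul_inv_cancel_right, eq_mul_inv_iff_mul_eq] at h4
      exact h4.symm
    rcases c.cent_Q d hrQ h2 with h3 | h3
    · exact hrz.1 h3
    · exact hrz.2 h3
  -- membership
  have hcjK : ∀ {h u : G}, h * zz K = zz K * h → u ∈ K ⊔ K' → h * u * h⁻¹ ∈ K ⊔ K' := by
    intro h u hh hu
    rw [← c.cj_sup_KK d hh]
    exact conj_mem_cj hu
  have hnK : n ∈ K ⊔ K' := by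
    rw [hn, show e * w * e⁻¹ * w⁻¹ = e * (w * e⁻¹ * w⁻¹) by group]
    exact mul_mem heK (hcjK hwz (inv_mem heK))
  have hnR : n ∈ c.symm.RK d := by
    have h1 : w ∈ c.symm.RK d := (c.symm.syl_VV d).1 hwV
    have h2 := (mem_normalizer_iff.1 (c.symm.norm_RK d hey hez) w).1 h1
    rw [hn]
    exact mul_mem h2 (inv_mem h1)
  obtain ⟨m, hm, hm2⟩ := OneFieldHom.exists_odd_pow n
  have hs1 : n ^ m ≠ 1 := by
    intro h
    exact hno (hm.of_dvd_nat (orderOf_dvd_of_pow_eq_one h))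
  obtain ⟨h, hh, hhs⟩ := LB.exists_conj_mem (c.symm.syl_VV d) (pow_mem hnR m) hm2
  obtain ⟨w1, hw1def⟩ : ∃ w1, w1 = h * n ^ m * h⁻¹ := ⟨_, rfl⟩
  rw [← hw1def] at hhs
  have hhC := c.symm.RK_le_C d hh
  have hw1K : w1 ∈ K ⊔ K' := by
    rw [hw1def]
    exact hcjK (mem_centralizer_singleton_iff.1 hhC.2) (pow_mem hnK m)
  have hw11 : w1 ≠ 1 := by
    rw [hw1def]; intro h2; exact hs1 (conj_eq_one_iff.1 h2)
  -- `w1' = f w1 f⁻¹`
  obtain ⟨u, hu, huu, hw1u⟩ := c.symm.VV_cases d hhs hw11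
  obtain ⟨w1', hw1'⟩ : ∃ w1', w1' = f * w1 * f⁻¹ := ⟨_, rfl⟩
  have hw1'u : w1' = (f * u * f⁻¹) * (zz K * (f * u * f⁻¹) * (zz K)⁻¹) := by
    rw [hw1', hw1u]; exact conj_diag hfz
  have hfu : f * u * f⁻¹ ∈ J ⊓ S' := (mem_normalizer_iff.1 hfP u).1 hu
  have hw1'V : w1' ∈ c.symm.VV d := by rw [hw1'u]; exact c.symm.four_mem d hfu
  have hw1'K : w1' ∈ K ⊔ K' := by rw [hw1']; exact hcjK hfz hw1K
  have hne : w1 ≠ w1' := by
    rw [hw1'u, hw1u]
    exact c.symm.diag_inj d hu hfu (hff u hu huu).1 (hff u hu huu).2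
  have hw1'1 : w1' ≠ 1 := by
    rw [hw1']; intro h2; exact hw11 (conj_eq_one_iff.1 h2)
  have hz2 := d.hyp.zz_mul c.mK.hK
  rcases c.mem_of_sup d (c.symm.VV_le_T d hhs) hw1K with h1 | h1
  · exact ⟨w1, h1, hhs, hw11⟩
  rcases c.mem_of_sup d (c.symm.VV_le_T d hw1'V) hw1'K with h2 | h2
  · exact ⟨w1', h2, hw1'V, hw1'1⟩
  refine ⟨w1 * w1', ?_, mul_mem hhs hw1'V, ?_⟩
  · have h3 := mul_mem h1 h2
    have h4 := (c.comm_T (c.symm.VV_le_T d hhs)).1
    rwa [show zz K * w1 * (zz K * w1') = w1 * w1' by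
      rw [← h4, mul_assoc, ← mul_assoc (zz K), hz2, one_mul]] at h3
  · intro h3
    apply hne
    have h4 := c.symm.VV_sq d hhs
    exact mul_left_cancel (h4.trans h3.symm)

/-- **(I2)** -/
theorem exists_fr (d : Dat Om phi) (c : Cfg Om K K' J J' T S S') : ∃ i j p q, Fr Om K K' J J' T S S' i j p q := by
  obtain ⟨e, heK, hey, heQ, heo, he1, hef⟩ := c.exists_c d
  have hez := c.comm_of_sup d heK
  obtain ⟨w, hwV, hwJ, hw1⟩ := c.exists_inf d
  obtain ⟨i, hi, hii, hwi⟩ := c.VV_cases d hwV hw1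
  obtain ⟨p, hp, hpp, hwp⟩ := c.symm.VV_cases d hwJ hw1
  have hj : e * i * e⁻¹ ∈ K ⊓ S := (mem_normalizer_iff.1 heQ i).1 hi
  have hjj : (e * i * e⁻¹) * (e * i * e⁻¹) = zz K := by
    calc (e * i * e⁻¹) * (e * i * e⁻¹) = e * (i * i) * e⁻¹ := by group
      _ = zz K := by rw [hii, hez, mul_inv_cancel_right]
  obtain ⟨hji, hji'⟩ := hef i hi hii
  have h1 : e * w * e⁻¹ = (e * i * e⁻¹) * (zz J * (e * i * e⁻¹) * (zz J)⁻¹) := by
    rw [hwi]; exact conj_diag hey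
  have h2 : e * w * e⁻¹ ∈ c.VV d := by rw [h1]; exact c.four_mem d hj
  have h3 : e * w * e⁻¹ ∈ c.symm.RK d :=
    (mem_normalizer_iff.1 (c.symm.norm_RK d hey hez) w).1 ((c.symm.syl_VV d).1 hwJ)
  have h4 : e * w * e⁻¹ ∈ c.symm.VV d := c.symm.mem_VV_of_RK d (c.VV_le_T d h2) h3
  obtain ⟨q, hq, hqq, hwq⟩ := c.symm.VV_cases d h4 (fun h => hw1 (conj_eq_one_iff.1 h))
  have h5 := c.diag_inj d hi hj hji hji'
  rw [← hwi, ← h1] at h5
  refine ⟨i, e * i * e⁻¹, p, q, { c with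
    hi := hi, hj := hj, hp := hp, hq := hq, i2 := hii, j2 := hjj, ji := hji, ji' := hji', p2 := hpp, q2 := hqq,
    qp := ?_, qp' := ?_, ip := ?_, jq := ?_ }⟩
  · intro h; apply h5; rw [hwq, h, ← hwp]
  · intro h; apply h5; rw [hwq, h, c.symm.diag_z d hp, ← hwp]
  · rw [← hwi, ← hwp]
  · rw [← h1, ← hwq]

end Cfg

end Cfsg.Agent.Cit.QTwo.CI
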