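import Cfsg.Agent.Cit.QTwo.CaseIVV

/-!
# Case (I) of [Q2]: an element of odd order centralising `A = ⟨z, y⟩ V`

`Fr.exists_f`: there is an element `g` of odd order with `phi g ≠ 1` centralising `z`, `y` and `V`.
-/

set_option autoImplicit false
set_option linter.style.haveILetI false
set_option linter.unusedSectionVars false
set_option linter.unusedVariables false
set_option linter.unusedSimpArgs false

namespace Cfsg.Agent.Cit.QTwo.CI

open Subgroup Cfsg Cit OneBasic SolvTwo TwoFK Cfsg.Agent.Cit.TwoP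

/-- the action of the word `i p q j p` on `⟨z, y, t₁, t₂⟩` -/
theorem word_aux {G : Type*} [Group G] {z y t1 t2 i j p q : G} (hz : z * z = 1) (hy : y * y = 1) (h1 : t1 * t1 = 1)
    (h2 : t2 * t2 = 1) (hyz : y * z = z * y) (h1z : t1 * z = z * t1) (h2z : t2 * z = z * t2)
    (h1y : t1 * y = y * t1) (h2y : t2 * y = y * t2) (h21 : t2 * t1 = t1 * t2)
    (iz : i * z * i⁻¹ = z) (iy : i * y * i⁻¹ = z * t1 * y) (i1 : i * t1 * i⁻¹ = t1) (i2 : i * t2 * i⁻¹ = z * t2)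
    (jz : j * z * j⁻¹ = z) (jy : j * y * j⁻¹ = z * t2 * y) (j1 : j * t1 * j⁻¹ = z * t1) (j2 : j * t2 * j⁻¹ = t2)
    (pz : p * z * p⁻¹ = y * t1 * z) (py : p * y * p⁻¹ = y) (p1 : p * t1 * p⁻¹ = t1) (p2 : p * t2 * p⁻¹ = y * t2)
    (qz : q * z * q⁻¹ = y * t2 * z) (qy : q * y * q⁻¹ = y) (q1 : q * t1 * q⁻¹ = y * t1) (q2 : q * t2 * q⁻¹ = t2)
    {n : G} (hn : n = i * p * q * j * p) :
    n * z * n⁻¹ = z ∧ n * y * n⁻¹ = y ∧ n * t1 * n⁻¹ = t2 ∧ n * t2 * n⁻¹ = t1 * t2 := by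
  obtain ⟨I, hI⟩ : ∃ I : MulAut G, I = MulAut.conj i := ⟨_, rfl⟩
  obtain ⟨P, hP⟩ : ∃ I : MulAut G, I = MulAut.conj p := ⟨_, rfl⟩
  obtain ⟨Q, hQ⟩ : ∃ I : MulAut G, I = MulAut.conj q := ⟨_, rfl⟩
  obtain ⟨J, hJ⟩ : ∃ I : MulAut G, I = MulAut.conj j := ⟨_, rfl⟩
  have key : ∀ x : G, n * x * n⁻¹ = I (P (Q (J (P x)))) := by
    intro x
    rw [hI, hP, hQ, hJ, hn]
    simp only [MulAut.conj_apply]
    group
  replace iz : I z = z := by rw [hI]; exact iz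
  replace iy : I y = z * t1 * y := by rw [hI]; exact iy
  replace i1 : I t1 = t1 := by rw [hI]; exact i1
  replace i2 : I t2 = z * t2 := by rw [hI]; exact i2
  replace jz : J z = z := by rw [hJ]; exact jz
  replace jy : J y = z * t2 * y := by rw [hJ]; exact jy
  replace j1 : J t1 = z * t1 := by rw [hJ]; exact j1
  replace j2 : J t2 = t2 := by rw [hJ]; exact j2
  replace pz : P z = y * t1 * z := by rw [hP]; exact pz
  replace py : P y = y := by rw [hP]; exact py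
  replace p1 : P t1 = t1 := by rw [hP]; exact p1
  replace p2 : P t2 = y * t2 := by rw [hP]; exact p2
  replace qz : Q z = y * t2 * z := by rw [hQ]; exact qz
  replace qy : Q y = y := by rw [hQ]; exact qy
  replace q1 : Q t1 = y * t1 := by rw [hQ]; exact q1
  replace q2 : Q t2 = t2 := by rw [hQ]; exact q2
  have hz' : ∀ x, z * (z * x) = x := fun x => by rw [← mul_assoc, hz, one_mul]
  have hy' : ∀ x, y * (y * x) = x := fun x => by rw [← mul_assoc, hy, one_mul]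
  have h1' : ∀ x, t1 * (t1 * x) = x := fun x => by rw [← mul_assoc, h1, one_mul]
  have h2' : ∀ x, t2 * (t2 * x) = x := fun x => by rw [← mul_assoc, h2, one_mul]
  have hyz' : ∀ x, y * (z * x) = z * (y * x) := fun x => by rw [← mul_assoc, hyz, mul_assoc]
  have h1z' : ∀ x, t1 * (z * x) = z * (t1 * x) := fun x => by rw [← mul_assoc, h1z, mul_assoc]
  have h2z' : ∀ x, t2 * (z * x) = z * (t2 * x) := fun x => by rw [← mul_assoc, h2z, mul_assoc]
  have h1y' : ∀ x, t1 * (y * x) = y * (t1 * x) := fun x => by rw [← mul_assoc, h1y, mul_assoc]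
  have h2y' : ∀ x, t2 * (y * x) = y * (t2 * x) := fun x => by rw [← mul_assoc, h2y, mul_assoc]
  have h21' : ∀ x, t2 * (t1 * x) = t1 * (t2 * x) := fun x => by rw [← mul_assoc, h21, mul_assoc]
  refine ⟨?_, ?_, ?_, ?_⟩ <;> rw [key] <;>
    simp only [map_mul, iz, iy, i1, i2, jz, jy, j1, j2, pz, py, p1, p2, qz, qy, q1, q2, hz, hy, h1, h2, hyz, h1z,
      h2z, h1y, h2y, h21, hz', hy', h1', h2', hyz', h1z', h2z', h1y', h2y', h21', mul_assoc, mul_one, one_mul]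

variable {G : Type*} [Group G] [Finite G] {Om : Set (Subgroup G)} {A : Type*} [CommGroup A] {phi : G →* A}

namespace Cfg

variable {K K' J J' T S S' : Subgroup G}

/-- `x y x⁻¹ = z (x x^y) y` -/
theorem conj_y (d : Dat Om phi) (c : Cfg Om K K' J J' T S S') {x : G} (hx : x ∈ K ⊓ S) (hxx : x * x = zz K) :
    x * zz J * x⁻¹ = zz K * (x * (zz J * x * (zz J)⁻¹)) * zz J := by
  have h1 : x⁻¹ = zz K * x := by
    rw [inv_eq_iff_mul_eq_one, ← c.comm_S hx.2, ← mul_assoc, hxx, d.hyp.zz_mul c.mK.hK]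
  have h2 := c.comm
  calc x * zz J * x⁻¹ = x * zz J * (zz K * x) := by rw [h1]
    _ = x * (zz J * zz K) * x := by group
    _ = (x * zz K) * zz J * x := by rw [← h2]; group
    _ = zz K * x * zz J * x := by rw [c.comm_S hx.2]
    _ = zz K * (x * (zz J * x * (zz J)⁻¹)) * zz J := by group

/-- `x` commutes with `x x^y` -/
theorem conj_self (d : Dat Om phi) (c : Cfg Om K K' J J' T S S') {x : G} (hx : x ∈ K ⊓ S) :
    x * (x * (zz J * x * (zz J)⁻¹)) * x⁻¹ = x * (zz J * x * (zz J)⁻¹) := by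
  have h1 := c.commQ d hx (c.conj_mem d hx)
  calc x * (x * (zz J * x * (zz J)⁻¹)) * x⁻¹ = x * (x * (zz J * x * (zz J)⁻¹)) * x⁻¹ := rfl
    _ = x * ((zz J * x * (zz J)⁻¹) * x) * x⁻¹ := by rw [h1]
    _ = _ := by group

/-- conjugation of `j j^y` by `i` -/
theorem conj_other (d : Dat Om phi) (c : Cfg Om K K' J J' T S S') {i j : G} (hi : i ∈ K ⊓ S) (hj : j ∈ K ⊓ S)
    (h : i * j = zz K * (j * i)) :
    i * (j * (zz J * j * (zz J)⁻¹)) * i⁻¹ = zz K * (j * (zz J * j * (zz J)⁻¹)) := by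
  have h1 := c.commQ d hi (c.conj_mem d hj)
  calc i * (j * (zz J * j * (zz J)⁻¹)) * i⁻¹ = (i * j) * (zz J * j * (zz J)⁻¹) * i⁻¹ := by group
    _ = zz K * j * (i * (zz J * j * (zz J)⁻¹)) * i⁻¹ := by rw [h]; group
    _ = zz K * (j * (zz J * j * (zz J)⁻¹)) := by rw [h1]; group

/-- `V` is commutative -/
theorem VV_commute (d : Dat Om phi) (c : Cfg Om K K' J J' T S S') {s t : G} (hs : s ∈ c.VV d) (ht : t ∈ c.VV d) :
    s * t = t * s := by
  have h1 := c.VV_sq d hs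
  have h2 := c.VV_sq d ht
  have h3 := c.VV_sq d (mul_mem hs ht)
  have h4 : s⁻¹ = s := inv_eq_of_mul_eq_one_right h1
  have h5 : t⁻¹ = t := inv_eq_of_mul_eq_one_right h2
  calc s * t = (s * t)⁻¹ := (inv_eq_of_mul_eq_one_right h3).symm
    _ = t * s := by rw [mul_inv_rev, h4, h5]

/-- the product -/
theorem diag_mul (d : Dat Om phi) (c : Cfg Om K K' J J' T S S') {i j : G} (hi : i ∈ K ⊓ S) (hj : j ∈ K ⊓ S) :
    (i * j) * (zz J * (i * j) * (zz J)⁻¹) = i * (zz J * i * (zz J)⁻¹) * (j * (zz J * j * (zz J)⁻¹)) := by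
  have h5 := c.commQ d hj (c.conj_mem d hi)
  calc (i * j) * (zz J * (i * j) * (zz J)⁻¹)
      = i * (j * (zz J * i * (zz J)⁻¹)) * (zz J * j * (zz J)⁻¹) := by group
    _ = i * ((zz J * i * (zz J)⁻¹) * j) * (zz J * j * (zz J)⁻¹) := by rw [h5]
    _ = _ := by group

end Cfg

namespace Fr

variable {K K' J J' T S S' : Subgroup G} {i j p q : G}

theorem symm (f : Fr Om K K' J J' T S S' i j p q) : Fr Om J J' K K' T S' S p q i j :=
  { f.toCfg.symm with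
    hi := f.hp, hj := f.hq, hp := f.hi, hq := f.hj, i2 := f.p2, j2 := f.q2, ji := f.qp, ji' := f.qp', p2 := f.i2
    q2 := f.j2, qp := f.ji, qp' := f.ji', ip := f.ip.symm, jq := f.jq.symm }

theorem anti (d : Dat Om phi) (f : Fr Om K K' J J' T S S' i j p q) : i * j = zz K * (j * i) :=
  (d.qz f.mK.hK (f.toCfg.sylK d)).anti f.hi f.hj f.i2 f.j2 f.ji f.ji'

theorem anti' (d : Dat Om phi) (f : Fr Om K K' J J' T S S' i j p q) : j * i = zz K * (i * j) := by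
  rw [f.anti d, ← mul_assoc, d.hyp.zz_mul f.mK.hK, one_mul]

/-- the elements `x x^y`, `x ∈ Q₁` of order 4 -/
theorem diag_cases (d : Dat Om phi) (f : Fr Om K K' J J' T S S' i j p q) {x : G} (hx : x ∈ K ⊓ S)
    (hxx : x * x = zz K) :
    ((x = i ∨ x = zz K * i) ∧ x * (zz J * x * (zz J)⁻¹) = i * (zz J * i * (zz J)⁻¹)) ∨
    ((x = j ∨ x = zz K * j) ∧ x * (zz J * x * (zz J)⁻¹) = j * (zz J * j * (zz J)⁻¹)) ∨
    ((x = i * j ∨ x = zz K * (i * j)) ∧ x * (zz J * x * (zz J)⁻¹) =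
      i * (zz J * i * (zz J)⁻¹) * (j * (zz J * j * (zz J)⁻¹))) := by
  have c := f.toCfg
  have hz1 := d.hyp.zz_ne f.mK.hK
  have hz2 := d.hyp.zz_mul f.mK.hK
  rcases (d.qz f.mK.hK (c.sylK d)).cases f.hi f.hj f.i2 f.j2 f.ji f.ji' hx with h | h | h | h | h | h | h | h
  · exfalso; rw [h, one_mul] at hxx; exact hz1 hxx.symm
  · exfalso; rw [h, hz2] at hxx; exact hz1 hxx.symm
  · exact Or.inl ⟨Or.inl h, by rw [h]⟩
  · exact Or.inl ⟨Or.inr h, by rw [h]; exact c.diag_z d f.hi⟩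
  · exact Or.inr (Or.inl ⟨Or.inl h, by rw [h]⟩)
  · exact Or.inr (Or.inl ⟨Or.inr h, by rw [h]; exact c.diag_z d f.hj⟩)
  · exact Or.inr (Or.inr ⟨Or.inl h, by rw [h]; exact c.diag_mul d f.hi f.hj⟩)
  · exact Or.inr (Or.inr ⟨Or.inr h, by rw [h, c.diag_z d (mul_mem f.hi f.hj)]; exact c.diag_mul d f.hi f.hj⟩)

/-- **(I3)** -/
theorem exists_f (d : Dat Om phi) (f : Fr Om K K' J J' T S S' i j p q) :
    ∃ g : G, Odd (orderOf g) ∧ phi g ≠ 1 ∧ g * zz K = zz K * g ∧ g * zz J = zz J * g ∧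
      ∀ x ∈ K ⊓ S, x * x = zz K → g * (x * (zz J * x * (zz J)⁻¹)) = x * (zz J * x * (zz J)⁻¹) * g := by
  have c := f.toCfg
  obtain ⟨e, heK, hey, heQ, heo, he1, hef⟩ := c.exists_c d
  have hez := c.comm_of_sup d heK
  obtain ⟨t1, ht1⟩ : ∃ t, t = i * (zz J * i * (zz J)⁻¹) := ⟨_, rfl⟩
  obtain ⟨t2, ht2⟩ : ∃ t, t = j * (zz J * j * (zz J)⁻¹) := ⟨_, rfl⟩
  have ht1' : t1 = p * (zz K * p * (zz K)⁻¹) := by rw [ht1, f.ip]
  have ht2' : t2 = q * (zz K * q * (zz K)⁻¹) := by rw [ht2, f.jq]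
  have h1V : t1 ∈ c.VV d := by rw [ht1]; exact c.four_mem d f.hi
  have h2V : t2 ∈ c.VV d := by rw [ht2]; exact c.four_mem d f.hj
  have hz2 := d.hyp.zz_mul f.mK.hK
  have hy2 := d.hyp.zz_mul f.mJ.hK
  have f' := f.symm
  have c' := f'.toCfg
  obtain ⟨n, hn⟩ : ∃ n, n = i * p * q * j * p := ⟨_, rfl⟩
  have hconjz : ∀ x ∈ K ⊓ S, x * zz K * x⁻¹ = zz K := fun x hx => by rw [c.comm_S hx.2, mul_inv_cancel_right]
  have hconjy : ∀ x ∈ J ⊓ S', x * zz J * x⁻¹ = zz J := fun x hx => by rw [c'.comm_S hx.2, mul_inv_cancel_right]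
  obtain ⟨w1, w2, w3, w4⟩ := word_aux (i := i) (j := j) (p := p) (q := q) hz2 hy2 (c.VV_sq d h1V) (c.VV_sq d h2V)
    c.comm.symm (c.VV_comm d h1V).1 (c.VV_comm d h2V).1 (c.VV_comm d h1V).2 (c.VV_comm d h2V).2
    (c.VV_commute d h2V h1V) (hconjz i f.hi) (by rw [ht1]; exact c.conj_y d f.hi f.i2)
    (by rw [ht1]; exact c.conj_self d f.hi) (by rw [ht2]; exact c.conj_other d f.hi f.hj (f.anti d))
    (hconjz j f.hj) (by rw [ht2]; exact c.conj_y d f.hj f.j2)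
    (by rw [ht1]; exact c.conj_other d f.hj f.hi (f.anti' d)) (by rw [ht2]; exact c.conj_self d f.hj)
    (by rw [ht1']; exact c'.conj_y d f.hp f.p2) (hconjy p f.hp) (by rw [ht1']; exact c'.conj_self d f.hp)
    (by rw [ht2']; exact c'.conj_other d f.hp f.hq (f'.anti d))
    (by rw [ht2']; exact c'.conj_y d f.hq f.q2) (hconjy q f.hq)
    (by rw [ht1']; exact c'.conj_other d f.hq f.hp (f'.anti' d)) (by rw [ht2']; exact c'.conj_self d f.hq) hn
  have hphi : phi n = 1 := by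
    have h1 : ∀ x ∈ K ⊓ S, phi x = 1 := fun x hx => (d.ft K f.mK.hK).two x (isP_of_mem c.hS.2.1 hx.2)
    have h2 : ∀ x ∈ J ⊓ S', phi x = 1 := fun x hx => (d.ft K f.mK.hK).two x (isP_of_mem c.hS'.2.1 hx.2)
    rw [hn, map_mul, map_mul, map_mul, map_mul, h1 i f.hi, h1 j f.hj, h2 p f.hp, h2 q f.hq]
    simp
  -- the action of `e`
  have hconj : ∀ x ∈ K ⊓ S, e * (x * (zz J * x * (zz J)⁻¹)) * e⁻¹ =
      (e * x * e⁻¹) * (zz J * (e * x * e⁻¹) * (zz J)⁻¹) := fun x _ => Cfg.conj_diag hey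
  have hmem : ∀ u ∈ K ⊓ S, e * u * e⁻¹ ∈ K ⊓ S := fun u hu => (mem_normalizer_iff.1 heQ u).1 hu
  have hsq : ∀ u, u * u = zz K → (e * u * e⁻¹) * (e * u * e⁻¹) = zz K := by
    intro u hu
    calc (e * u * e⁻¹) * (e * u * e⁻¹) = e * (u * u) * e⁻¹ := by group
      _ = zz K := by rw [hu, hez, mul_inv_cancel_right]
  have hne : ∀ x ∈ K ⊓ S, x * x = zz K → e * (x * (zz J * x * (zz J)⁻¹)) * e⁻¹ ≠ x * (zz J * x * (zz J)⁻¹) := by
    intro x hx hxx h
    rw [hconj x hx] at h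
    exact c.diag_inj d hx (hmem x hx) (hef x hx hxx).1 (hef x hx hxx).2 h.symm
  have hij2 : (i * j) * (i * j) = zz K := by
    calc (i * j) * (i * j) = i * (j * i) * j := by group
      _ = (i * zz K) * (i * j) * j := by rw [f.anti' d]; group
      _ = zz K * (i * i) * (j * j) := by rw [c.comm_S f.hi.2]; group
      _ = zz K := by rw [f.i2, f.j2, mul_assoc, hz2, mul_one]
  have hcyc : (e * t1 * e⁻¹ = t2 ∧ e * t2 * e⁻¹ = t1 * t2) ∨ (e * t1 * e⁻¹ = t1 * t2 ∧ e * t2 * e⁻¹ = t1) := by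
    have h1 : e * t1 * e⁻¹ = t1 ∨ e * t1 * e⁻¹ = t2 ∨ e * t1 * e⁻¹ = t1 * t2 := by
      rw [ht1, hconj i f.hi, ← ht1]
      rcases f.diag_cases d (hmem i f.hi) (hsq i f.i2) with h | h | h
      · left; rw [h.2, ← ht1]
      · right; left; rw [h.2, ← ht2]
      · right; right; rw [h.2, ← ht1, ← ht2]
    have h2 : e * t2 * e⁻¹ = t1 ∨ e * t2 * e⁻¹ = t2 ∨ e * t2 * e⁻¹ = t1 * t2 := by
      rw [ht2, hconj j f.hj, ← ht2]
      rcases f.diag_cases d (hmem j f.hj) (hsq j f.j2) with h | h | h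
      · left; rw [h.2, ← ht1]
      · right; left; rw [h.2, ← ht2]
      · right; right; rw [h.2, ← ht1, ← ht2]
    have h3 : e * t1 * e⁻¹ ≠ t1 := by rw [ht1]; exact hne i f.hi f.i2
    have h4 : e * t2 * e⁻¹ ≠ t2 := by rw [ht2]; exact hne j f.hj f.j2
    have h5 : e * (t1 * t2) * e⁻¹ ≠ t1 * t2 := by
      have := hne (i * j) (mul_mem f.hi f.hj) hij2
      rwa [c.diag_mul d f.hi f.hj, ← ht1, ← ht2] at this
    have h6 : e * (t1 * t2) * e⁻¹ = (e * t1 * e⁻¹) * (e * t2 * e⁻¹) := by group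
    have h12 : t1 ≠ t2 := by
      rw [ht1, ht2]; exact c.diag_inj d f.hi f.hj f.ji f.ji'
    rcases h1 with h1 | h1 | h1
    · exact absurd h1 h3
    · rcases h2 with h2 | h2 | h2
      · exfalso
        apply h5
        rw [h6, h1, h2, c.VV_commute d h2V h1V]
      · exact absurd h2 h4
      · exact Or.inl ⟨h1, h2⟩
    · rcases h2 with h2 | h2 | h2
      · exact Or.inr ⟨h1, h2⟩
      · exact absurd h2 h4
      · exfalso
        apply h12
        exact mul_left_cancel (mul_right_cancel (h1.trans h2.symm))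
  -- the element centralising `A`
  obtain ⟨g, hg1, hgz, hgy, hgt1, hgt2⟩ : ∃ g : G, phi g ≠ 1 ∧ g * zz K = zz K * g ∧ g * zz J = zz J * g ∧
      g * t1 = t1 * g ∧ g * t2 = t2 * g := by
    have inv_conj : ∀ {a b : G}, n * a * n⁻¹ = b → n⁻¹ * b * n = a := by
      intro a b h; rw [← h]; group
    rcases hcyc with ⟨h1, h2⟩ | ⟨h1, h2⟩
    · refine ⟨n⁻¹ * e, ?_, ?_, ?_, ?_, ?_⟩
      · rw [map_mul, map_inv, hphi, inv_one, one_mul]; exact he1
      · rw [← mul_inv_eq_iff_eq_mul]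
        calc n⁻¹ * e * zz K * (n⁻¹ * e)⁻¹ = n⁻¹ * (e * zz K * e⁻¹) * n := by group
          _ = zz K := by rw [hez, mul_inv_cancel_right]; exact inv_conj w1
      · rw [← mul_inv_eq_iff_eq_mul]
        calc n⁻¹ * e * zz J * (n⁻¹ * e)⁻¹ = n⁻¹ * (e * zz J * e⁻¹) * n := by group
          _ = zz J := by rw [hey, mul_inv_cancel_right]; exact inv_conj w2
      · rw [← mul_inv_eq_iff_eq_mul]
        calc n⁻¹ * e * t1 * (n⁻¹ * e)⁻¹ = n⁻¹ * (e * t1 * e⁻¹) * n := by group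
          _ = t1 := by rw [h1]; exact inv_conj w3
      · rw [← mul_inv_eq_iff_eq_mul]
        calc n⁻¹ * e * t2 * (n⁻¹ * e)⁻¹ = n⁻¹ * (e * t2 * e⁻¹) * n := by group
          _ = t2 := by rw [h2]; exact inv_conj w4
    · refine ⟨n * e, ?_, ?_, ?_, ?_, ?_⟩
      · rw [map_mul, hphi, one_mul]; exact he1
      · rw [← mul_inv_eq_iff_eq_mul]
        calc n * e * zz K * (n * e)⁻¹ = n * (e * zz K * e⁻¹) * n⁻¹ := by group
          _ = zz K := by rw [hez, mul_inv_cancel_right]; exact w1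
      · rw [← mul_inv_eq_iff_eq_mul]
        calc n * e * zz J * (n * e)⁻¹ = n * (e * zz J * e⁻¹) * n⁻¹ := by group
          _ = zz J := by rw [hey, mul_inv_cancel_right]; exact w2
      · rw [← mul_inv_eq_iff_eq_mul]
        calc n * e * t1 * (n * e)⁻¹ = n * (e * t1 * e⁻¹) * n⁻¹ := by group
          _ = (n * t1 * n⁻¹) * (n * t2 * n⁻¹) := by rw [h1]; group
          _ = t1 := by
            rw [w3, w4, c.VV_commute d h1V h2V, ← mul_assoc, c.VV_sq d h2V, one_mul]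
      · rw [← mul_inv_eq_iff_eq_mul]
        calc n * e * t2 * (n * e)⁻¹ = n * (e * t2 * e⁻¹) * n⁻¹ := by group
          _ = t2 := by rw [h2]; exact w3
  obtain ⟨m, hm⟩ := exists_two_pow g
  have hpow : ∀ {a : G}, g * a = a * g → g ^ 2 ^ m * a = a * g ^ 2 ^ m := fun {a} h =>
    ((show Commute g a from h).pow_left _).eq
  refine ⟨g ^ 2 ^ m, hm, phi_two_pow (d.ft K f.mK.hK) hg1 m, hpow hgz, hpow hgy, fun x hx hxx => ?_⟩
  rcases f.diag_cases d hx hxx with h | h | h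
  · rw [h.2, ← ht1]; exact hpow hgt1
  · rw [h.2, ← ht2]; exact hpow hgt2
  · rw [h.2, ← ht1, ← ht2]
    exact ((show Commute (g ^ 2 ^ m) t1 from hpow hgt1).mul_right (hpow hgt2)).eq

end Fr

end Cfsg.Agent.Cit.QTwo.CI
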