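import Cfsg.Agent.Cit.QTwo.Reduce
import Cfsg.Agent.Cit.QTwo.CaseIMain
import Cfsg.Agent.Cit.QTwo.CCEnd
import Cfsg.Agent.Cit.QTwo.CCMat
import Cfsg.Agent.Cit.TSimple
import Cfsg.Agent.Cit.CoreOne

/-!
# [Q2]: `Q2Leaf`

* `q2Leaf_of_cExc` : `Q2Leaf` from the odd order theorem, `CExc`, S1169, Bender's theorem (both for simple groups)
  and S1173.
-/

set_option autoImplicit false
set_option linter.dupNamespace false
set_option linter.style.haveILetI false

namespace Cfsg.Agent.Cit.QTwo.Main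

open Subgroup Cfsg Cfsg.Agent.Cit

universe u

/-- S1169 for all simple groups -/
def S1169Stmt : Prop := ∀ (G : Type u) [Group G] [Finite G] [IsSimpleGroup G], Two.H1169 G

/-- **[Q2]**: `L = G` if `MinG Om L`, from the statement `CExc` (`L` is `G₂(q)` or `³D₄(q)` and a member is covered by
`L` modulo the core) -/
theorem q2Leaf_of_cExc (odd : CoresG.OddStmt.{u}) (hE : CC.CExc.{u}) (h1169 : S1169Stmt.{u})
    (bend : ∀ (G : Type u) [Group G] [Finite G] [IsSimpleGroup G], CloEnd.Bend G)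
    (h1173 : CoreOne.S1173Stmt.{u}) : Q2Leaf.{u} := by
  intro G _ _ Om L m
  by_contra hne
  obtain ⟨φ, w⟩ := Red.exists_wd m odd hne fun K hK hcov => CC.cc hE CC.cMat m (Red.isT m odd hne) hne hK hcov
  haveI := m.simple
  exact w.false_of (h1169 L) (bend L)
    (h1173 G (oddCore_eq_bot_of_simple m.normal m.simple m.cent (Red.two_dvd_of_simple odd m.simple m.nab)))

end Cfsg.Agent.Cit.QTwo.Main
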