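import Cfsg.Agent.Cit.QTwo.NnMove

/-!
# R18, leaf [Q2], part (N): the count

`Ov Om y` = the members over `y`. `Mv.dvd_count`: if `Om(S)` has `2 m` members, then `4 ^ (m - 2)` divides the number of
members over `y`, which divides `2 m`.
-/

set_option autoImplicit false
set_option linter.unusedSectionVars false

namespace Cfsg.Agent.Cit.QTwo.NnCount

open Subgroup Cfsg Cfsg.Agent.Cit SolvTwo AutAct NnK NnMove

variable {G : Type*} [Group G]

/-! ### orbits of 2-groups with small stabilisers -/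

theorem dvd_of_stab {W : Type*} [Group W] [Finite W] {Y : Type*} [Finite Y] [MulAction W Y] (hW : IsPGroup 2 W)
    {a : ℕ} (ha : 4 ^ (a + 1) ∣ Nat.card W) (hst : ∀ i : Y, Nat.card (MulAction.stabilizer W i) ≤ 4) :
    4 ^ a ∣ Nat.card Y := by
  classical
  have : Fact (Nat.Prime 2) := ⟨Nat.prime_two⟩
  have i1 := Fintype.ofFinite W
  have i2 := Fintype.ofFinite Y
  have i3 : Fintype (Quotient (MulAction.orbitRel W Y)) := Fintype.ofFinite _
  have i4 : ∀ b : Y, Fintype (MulAction.stabilizer W b) := fun b => Fintype.ofFinite _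
  rw [Nat.card_eq_fintype_card, MulAction.card_eq_sum_card_group_div_card_stabilizer W Y]
  apply Finset.dvd_sum
  intro ω _
  rw [← Nat.card_eq_fintype_card, ← Nat.card_eq_fintype_card]
  obtain ⟨s, hs⟩ := IsPGroup.iff_card.1 hW
  obtain ⟨t, ht⟩ := IsPGroup.iff_card.1 (hW.to_subgroup (MulAction.stabilizer W ω.out))
  have h1 := hst ω.out
  rw [ht] at h1
  rw [hs] at ha
  rw [hs, ht]
  have e4 : ∀ b : ℕ, 4 ^ b = 2 ^ (2 * b) := fun b => by rw [pow_mul]; norm_num
  rw [e4] at ha ⊢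
  have h2 : 2 * (a + 1) ≤ s := (Nat.pow_dvd_pow_iff_le_right (by norm_num)).1 ha
  have h3 : t ≤ 2 := by
    by_contra h
    have : 2 ^ 3 ≤ 2 ^ t := Nat.pow_le_pow_right (by norm_num) (by omega)
    omega
  rw [Nat.pow_div (by omega) (by norm_num)]
  exact pow_dvd_pow 2 (by omega)

/-! ### members over `y` -/

/-- the members of `Om` over `y` -/
def Ov (Om : Set (Subgroup G)) (y : G) : Set (Subgroup G) := {L | L ∈ Om ∧ zz L = y}

variable {Om : Set (Subgroup G)} [Finite G]

theorem cj_mem_Ov (w : NW Om) {y g : G} (hg : g * y = y * g) {L : Subgroup G} (hL : L ∈ Ov Om y) :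
    cj g L ∈ Ov Om y := by
  refine ⟨w.hyp.conj L hL.1 g, ?_⟩
  rw [w.hyp.zz_cj hL.1, hL.2, hg, mul_inv_cancel_right]

theorem ncard_Ov (w : NW Om) {J K : Subgroup G} (hJ : J ∈ Om) (hK : K ∈ Om) :
    (Ov Om (zz J)).ncard = (Ov Om (zz K)).ncard := by
  obtain ⟨g, rfl⟩ := w.cls K hK J hJ
  have h1 : Ov Om (zz (cj g K)) = cj g '' Ov Om (zz K) := by
    ext L
    constructor
    · rintro ⟨hL, hz⟩
      refine ⟨cj g⁻¹ L, ⟨w.hyp.conj L hL _, ?_⟩, cj_cj_inv g L⟩
      rw [w.hyp.zz_cj hL, hz, w.hyp.zz_cj hK]; group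
    · rintro ⟨M, ⟨hM, hz⟩, rfl⟩
      refine ⟨w.hyp.conj M hM _, ?_⟩
      rw [w.hyp.zz_cj hM, hz, w.hyp.zz_cj hK]
  rw [h1]
  exact Set.ncard_image_of_injective _ fun _ _ h => cj_inj.1 h

theorem Ov_subset (w : NW Om) {S : Sylow 2 G} {K : Subgroup G} (hK : K ∈ OmS Om (S : Subgroup G)) :
    Ov Om (zz K) ⊆ OmS Om (S : Subgroup G) := fun _ hL => w.hyp.mem_OmS_of_zz_eq S hK hL.1 hL.2

theorem Ov_dvd (w : NW Om) {S : Sylow 2 G} {J : Subgroup G} (hJ : J ∈ Om) :
    (Ov Om (zz J)).ncard ∣ (OmS Om (S : Subgroup G)).ncard := by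
  classical
  have hfin : (OmS Om (S : Subgroup G)).Finite := Set.toFinite _
  rw [Set.ncard_eq_toFinset_card _ hfin, Finset.card_eq_sum_card_image (fun K : Subgroup G => zz K)]
  apply Finset.dvd_sum
  intro b hb
  obtain ⟨K, hK, rfl⟩ := Finset.mem_image.1 hb
  have hK' : K ∈ OmS Om (S : Subgroup G) := hfin.mem_toFinset.1 hK
  rw [ncard_Ov w hJ hK'.1]
  have h1 : Ov Om (zz K) = ((hfin.toFinset.filter fun L => zz L = zz K : Finset (Subgroup G)) : Set (Subgroup G)) := by
    ext L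
    simp only [Finset.coe_filter, Set.Finite.mem_toFinset, Set.mem_ofPred_eq]
    constructor
    · intro hL; exact ⟨Ov_subset w hK' hL, hL.2⟩
    · intro hL; exact ⟨hL.1.1, hL.2⟩
  rw [h1, Set.ncard_coe_finset]

theorem two_mul_le (w : NW Om) {S : Sylow 2 G} {J K L : Subgroup G} (hJ : J ∈ Om)
    (hK : K ∈ OmS Om (S : Subgroup G)) (hL : L ∈ OmS Om (S : Subgroup G)) (hne : zz K ≠ zz L) :
    2 * (Ov Om (zz J)).ncard ≤ (OmS Om (S : Subgroup G)).ncard := by
  have hd : Disjoint (Ov Om (zz K)) (Ov Om (zz L)) := by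
    rw [Set.disjoint_left]
    intro M h1 h2
    exact hne (h1.2.symm.trans h2.2)
  have h1 := Set.ncard_union_eq hd (Set.toFinite _) (Set.toFinite _)
  rw [← ncard_Ov w hJ hK.1, ← ncard_Ov w hJ hL.1] at h1
  have h2 := Set.ncard_le_ncard (Set.union_subset (Ov_subset w hK) (Ov_subset w hL)) (Set.toFinite _)
  omega

/-! ### the groups `WW T` -/

/-- the group generated by the `q q^y`, `q ∈ K ⊓ S`, `K ∈ T` -/
def WW (S : Subgroup G) (y : G) (T : Finset (Subgroup G)) : Subgroup G :=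
  closure {g | ∃ K ∈ T, ∃ q ∈ K ⊓ S, g = vv y q}

theorem vv_mem_WW {S : Subgroup G} {y : G} {T : Finset (Subgroup G)} {K : Subgroup G} (hK : K ∈ T) {q : G}
    (hq : q ∈ K ⊓ S) : vv y q ∈ WW S y T := subset_closure ⟨K, hK, q, hq, rfl⟩

theorem WW_mono {S : Subgroup G} {y : G} {T T' : Finset (Subgroup G)} (h : T ⊆ T') : WW S y T ≤ WW S y T' := by
  apply Subgroup.closure_mono
  rintro _ ⟨K, hK, q, hq, rfl⟩
  exact ⟨K, h hK, q, hq, rfl⟩

variable {S : Sylow 2 G} {y : G}

/-- `T` is a set of members, at most one of each `y`-orbit -/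
structure Gd (Om : Set (Subgroup G)) (S : Sylow 2 G) (y : G) (T : Finset (Subgroup G)) : Prop where
  mem : ∀ K ∈ T, K ∈ OmS Om (S : Subgroup G)
  ne : ∀ K ∈ T, ∀ L ∈ T, L ≠ cj y K

theorem Gd.mono {T T' : Finset (Subgroup G)} (h : Gd Om S y T') (hs : T ⊆ T') : Gd Om S y T :=
  ⟨fun K hK => h.mem K (hs hK), fun K hK L hL => h.ne K (hs hK) L (hs hL)⟩

theorem WW_le (m : Mv Om S y) (w : NW Om) {T : Finset (Subgroup G)} (h : Gd Om S y T) :
    WW (S : Subgroup G) y T ≤ DD Om (S : Subgroup G) := by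
  unfold WW
  rw [closure_le]
  rintro _ ⟨K, hK, q, hq, rfl⟩
  exact m.vv_mem w (h.mem K hK) hq

theorem WW_comm_y (m : Mv Om S y) (w : NW Om) {T : Finset (Subgroup G)} (h : Gd Om S y T) :
    ∀ g ∈ WW (S : Subgroup G) y T, g * y = y * g := by
  have h1 : WW (S : Subgroup G) y T ≤ centralizer {y} := by
    unfold WW
    rw [closure_le]
    rintro _ ⟨K, hK, q, hq, rfl⟩
    exact mem_centralizer_singleton_iff.2 (m.vv_comm_y w (h.mem K hK) hq)
  exact fun g hg => mem_centralizer_singleton_iff.1 (h1 hg)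

theorem WW_comm (m : Mv Om S y) (w : NW Om) {T : Finset (Subgroup G)} (h : Gd Om S y T) {L : Subgroup G}
    (hL : L ∈ OmS Om (S : Subgroup G)) (hLT : L ∉ T) (hLT' : cj y L ∉ T) :
    WW (S : Subgroup G) y T ≤ centralizer ((L ⊓ (S : Subgroup G) : Subgroup G) : Set G) := by
  unfold WW
  rw [closure_le]
  rintro _ ⟨K, hK, q, hq, rfl⟩
  rw [SetLike.mem_coe, mem_centralizer_iff]
  intro x hx
  refine (m.vv_comm_other w (h.mem K hK) hL ?_ ?_ hq hx).symm
  · rintro rfl; exact hLT hK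
  · rintro rfl
    rw [m.cj_cj w] at hLT'
    exact hLT' hK

/-- `4 ^ |T|` divides `|WW T|` -/
theorem WW_card (m : Mv Om S y) (w : NW Om) (T : Finset (Subgroup G)) (h : Gd Om S y T) :
    4 ^ T.card ∣ Nat.card (WW (S : Subgroup G) y T) := by
  classical
  induction T using Finset.induction_on with
  | empty => simp
  | insert K T hK ih =>
    have hKm : K ∈ insert K T := Finset.mem_insert_self K T
    have hs : T ⊆ insert K T := Finset.subset_insert K T
    have hKO := h.mem K hKm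
    have hT := h.mono hs
    have h1 := ih hT
    set W' := WW (S : Subgroup G) y (insert K T) with hW'
    set C := centralizer ((K ⊓ (S : Subgroup G) : Subgroup G) : Set G) with hC
    have h2 : WW (S : Subgroup G) y T ≤ C ⊓ W' := by
      refine le_inf (WW_comm m w hT hKO hK ?_) (WW_mono hs)
      intro h3
      exact h.ne K hKm _ (hs h3) rfl
    have hW2 : IsPGroup 2 W' := S.isPGroup'.to_le ((WW_le m w h).trans DD_le)
    have h3 : Nat.card (C ⊓ W' : Subgroup G) * C.relIndex W' = Nat.card W' := by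
      rw [← inf_relIndex_right]
      have h4 := relIndex_mul_relIndex ⊥ (C ⊓ W') W' bot_le inf_le_right
      rwa [relIndex_bot_left, relIndex_bot_left] at h4
    rw [Finset.card_insert_of_notMem hK, pow_succ, ← h3]
    refine Nat.mul_dvd_mul (h1.trans (card_dvd_of_le h2)) ?_
    -- the index is a power of 2, at least 4
    obtain ⟨k, hk⟩ := hW2.index (C.subgroupOf W')
    have hk' : C.relIndex W' = 2 ^ k := hk
    obtain ⟨c, v, n, hc⟩ := w.hyp.exists_gq hKO.1 (syl_inf S.isPGroup' hKO)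
    have hvW : ∀ q ∈ K ⊓ (S : Subgroup G), vv y q ∈ W' := fun q hq => vv_mem_WW hKm hq
    have hvC : ∀ q ∈ K ⊓ (S : Subgroup G), vv y q ∈ C → ∀ b ∈ K ⊓ (S : Subgroup G), q * b = b * q := by
      intro q hq hqC b hb
      exact m.comm_of_vv_comm w hKO hq hb ((mem_centralizer_iff.1 hqC) b hb).symm
    have c1 : vv y c ∉ C := fun hcC => hc.not_comm (hvC c hc.c_mem hcC v hc.v_mem).symm
    have c2 : vv y v ∉ C := fun hcC => hc.not_comm (hvC v hc.v_mem hcC c hc.c_mem)
    have c3 : vv y c * vv y v ∉ C := by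
      rw [← m.vv_mul w hKO hc.c_mem hc.v_mem]
      intro hcC
      have h5 := hvC (c * v) (mul_mem hc.c_mem hc.v_mem) hcC v hc.v_mem
      apply hc.not_comm
      calc v * c = (v * (c * v)) * v⁻¹ := by group
        _ = (c * v * v) * v⁻¹ := by rw [h5]
        _ = c * v := by group
    have hk0 : k ≠ 0 := by
      rintro rfl
      rw [pow_zero, relIndex_eq_one] at hk'
      exact c1 (hk' (hvW c hc.c_mem))
    have hk1 : k ≠ 1 := by
      rintro rfl
      rw [pow_one] at hk'
      have h5 := mul_mem_iff_of_index_two (H := C.subgroupOf W') hk' (a := ⟨_, hvW c hc.c_mem⟩)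
        (b := ⟨_, hvW v hc.v_mem⟩)
      simp only [mem_subgroupOf] at h5
      exact c3 (h5.2 ⟨fun h => absurd h c1, fun h => absurd h c2⟩)
    rw [hk']
    have : (4 : ℕ) = 2 ^ 2 := by norm_num
    rw [this]
    exact pow_dvd_pow 2 (by omega)

/-- a system of representatives of the `y`-orbits on `Om(S)` -/
theorem exists_gd (m : Mv Om S y) (w : NW Om) : ∃ T : Finset (Subgroup G), Gd Om S y T ∧
    (OmS Om (S : Subgroup G)).ncard = 2 * T.card := by
  classical
  have hfin : (OmS Om (S : Subgroup G)).Finite := Set.toFinite _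
  let e := Finite.equivFin (Subgroup G)
  let T : Finset (Subgroup G) := hfin.toFinset.filter fun K => e K < e (cj y K)
  have hT : ∀ K, K ∈ T ↔ K ∈ OmS Om (S : Subgroup G) ∧ e K < e (cj y K) := by
    intro K; simp [T]
  have hinj : Function.Injective (fun K : Subgroup G => cj y K) := fun _ _ h => cj_inj.1 h
  have hd : Disjoint T (T.image fun K => cj y K) := by
    rw [Finset.disjoint_left]
    intro K hK hK'
    obtain ⟨L, hL, rfl⟩ := Finset.mem_image.1 hK'
    have h1 := ((hT _).1 hK).2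
    have h2 := ((hT _).1 hL).2
    rw [m.cj_cj w] at h1
    exact lt_asymm h1 h2
  refine ⟨T, ⟨fun K hK => ((hT K).1 hK).1, ?_⟩, ?_⟩
  · rintro K hK L hL rfl
    exact (Finset.disjoint_left.1 hd hL) (Finset.mem_image.2 ⟨K, hK, rfl⟩)
  · have h1 : hfin.toFinset = T ∪ T.image fun K => cj y K := by
      ext K
      rw [Set.Finite.mem_toFinset, Finset.mem_union, hT, Finset.mem_image]
      constructor
      · intro hK
        rcases lt_trichotomy (e K) (e (cj y K)) with h | h | h
        · exact Or.inl ⟨hK, h⟩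
        · exact absurd (e.injective h).symm (m.mv K hK)
        · refine Or.inr ⟨cj y K, ?_, m.cj_cj w K⟩
          rw [hT, m.cj_cj w]
          exact ⟨m.cj_mem w hK, h⟩
      · rintro (h | ⟨L, hL, rfl⟩)
        · exact h.1
        · exact m.cj_mem w ((hT L).1 hL).1
    rw [Set.ncard_eq_toFinset_card _ hfin, h1, Finset.card_union_of_disjoint hd,
      Finset.card_image_of_injective _ hinj]
    omega

/-- the action on the members over `y` -/
@[reducible] def actOv (w : NW Om) (W : Subgroup G) (hW : ∀ g ∈ W, g * y = y * g) : MulAction W (Ov Om y) where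
  smul g L := ⟨cj g L.1, cj_mem_Ov w (hW g g.2) L.2⟩
  one_smul _ := Subtype.ext (cj_one _)
  mul_smul _ _ _ := Subtype.ext (cj_mul _ _ _)

/-- **(N3)** -/
theorem dvd_count (m : Mv Om S y) (w : NW Om) {a : ℕ} (h : (OmS Om (S : Subgroup G)).ncard = 2 * (a + 2)) :
    4 ^ a ∣ (Ov Om y).ncard := by
  classical
  obtain ⟨T, hT, hTc⟩ := exists_gd m w
  have hcard : T.card = a + 2 := by omega
  obtain ⟨K, hK⟩ : T.Nonempty := Finset.card_pos.1 (by omega)
  have hT0 : Gd Om S y (T.erase K) := hT.mono (Finset.erase_subset _ _)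
  have hc0 : (T.erase K).card = a + 1 := by rw [Finset.card_erase_of_mem hK]; omega
  set W := WW (S : Subgroup G) y (T.erase K) with hW
  have hKO := hT.mem K hK
  have hcomm : W ≤ centralizer ((K ⊓ (S : Subgroup G) : Subgroup G) : Set G) := by
    refine WW_comm m w hT0 hKO (Finset.notMem_erase _ _) ?_
    intro h3
    exact hT.ne K hK _ (Finset.mem_of_mem_erase h3) rfl
  have hWD := WW_le m w hT0
  have hW2 : IsPGroup 2 W := S.isPGroup'.to_le (hWD.trans DD_le)
  let _ := actOv w W (WW_comm_y m w hT0)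
  have h1 := dvd_of_stab (Y := Ov Om y) hW2 (a := a) (by rw [← hc0]; exact WW_card m w _ hT0) (by
    rintro ⟨L, hL⟩
    obtain ⟨f, hf⟩ := exists_fx (w.ty L hL.1)
    have hN : ∀ g : MulAction.stabilizer W (⟨L, hL⟩ : Ov Om y), (g.1.1 : G) ∈ normalizer (L : Set G) := by
      intro g
      rw [mem_normalizer_iff_cj]
      exact congrArg Subtype.val g.2
    have h2 : ∀ g : MulAction.stabilizer W (⟨L, hL⟩ : Ov Om y), ∃ i, Acts L f (g.1.1 : G) (rep i) := fun g =>
      exists_acts w hL.1 hf (hN g) (isP_zpowers_of S.isPGroup' (DD_le (hWD g.1.2)))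
    choose F hF using h2
    have hinj : Function.Injective F := by
      intro g g' hgg
      have h3 : Triv ((g.1.1 : G)⁻¹ * g'.1.1) L :=
        triv_of_acts hf (hN g) (hN g') (hF g) (by rw [hgg]; exact hF g')
      have h4 : (g.1.1 : G)⁻¹ * g'.1.1 = 1 := by
        have h5 : (g.1.1 : G)⁻¹ * g'.1.1 ∈ W := W.mul_mem (W.inv_mem g.1.2) g'.1.2
        refine m.faith w hKO (hWD h5) ?_ hL.1 hL.2 (mul_mem (inv_mem (hN g)) (hN g')) h3
        intro x hx
        exact (mem_centralizer_iff.1 (hcomm h5) x hx).symm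
      exact Subtype.ext (Subtype.ext (inv_mul_eq_one.1 h4))
    have h6 := Nat.card_le_card_of_injective F hinj
    rwa [Nat.card_eq_fintype_card (α := Fin 4), Fintype.card_fin] at h6)
  rwa [Nat.card_coe_set_eq] at h1

end Cfsg.Agent.Cit.QTwo.NnCount
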