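import Mathlib

/-!
# R18, leaf [Q2], part (N): a fixed point lemma, and finite facts

* `exists_fix` : `S` a 2-subgroup, `N` a subgroup of odd order, `x` any element. There is `c ∈ x N` with
  `g * c = c * h` for all `g, h ∈ S`, `h ∈ N(N)`, such that `x⁻¹ * g * x * h⁻¹ ∈ N`.
* `perm_four` : a permutation of a set with 2 or 4 points commuting with a fixed point free involution has
  order dividing 4.
-/

set_option autoImplicit false

namespace Cfsg.Agent.Cit.QTwo.NnFix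

open Subgroup

variable {G : Type*} [Group G]

/-- the stabiliser of the coset `x N` in `G × G` acting by `(g, h) • w = g w h⁻¹` -/
def stab (N : Subgroup G) (x : G) : Subgroup (G × G) where
  carrier := {p | ∀ w, x⁻¹ * w ∈ N ↔ x⁻¹ * (p.1 * w * p.2⁻¹) ∈ N}
  one_mem' := by intro w; simp
  mul_mem' := by
    intro p q hp hq w
    have h1 : (p * q).1 * w * (p * q).2⁻¹ = p.1 * (q.1 * w * q.2⁻¹) * p.2⁻¹ := by
      simp only [Prod.fst_mul, Prod.snd_mul]; group
    rw [h1]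
    exact (hq w).trans (hp _)
  inv_mem' := by
    intro p hp w
    have h1 := hp (p⁻¹.1 * w * p⁻¹.2⁻¹)
    have h2 : p.1 * (p⁻¹.1 * w * p⁻¹.2⁻¹) * p.2⁻¹ = w := by
      simp only [Prod.fst_inv, Prod.snd_inv]; group
    rw [h2] at h1
    exact h1.symm

/-- **the fixed point lemma** -/
theorem exists_fix [Finite G] {S N : Subgroup G} (hS : IsPGroup 2 S) (hN : ¬ 2 ∣ Nat.card N) (x : G) :
    ∃ c, x⁻¹ * c ∈ N ∧ ∀ g ∈ S, ∀ h ∈ S, h ∈ normalizer (N : Set G) → x⁻¹ * g * x * h⁻¹ ∈ N →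
      g * c = c * h := by
  have : Fact (Nat.Prime 2) := ⟨Nat.prime_two⟩
  let T : Subgroup (G × G) := S.prod S ⊓ stab N x
  have hT : IsPGroup 2 T := by
    rintro ⟨⟨g, h⟩, ⟨⟨hg, hh⟩, -⟩⟩
    obtain ⟨a, ha⟩ := hS ⟨g, hg⟩
    obtain ⟨b, hb⟩ := hS ⟨h, hh⟩
    have ha' : g ^ 2 ^ a = 1 := congrArg Subtype.val ha
    have hb' : h ^ 2 ^ b = 1 := congrArg Subtype.val hb
    refine ⟨a + b, Subtype.ext (Prod.ext ?_ ?_)⟩
    · show g ^ 2 ^ (a + b) = 1
      rw [pow_add, pow_mul, ha', one_pow]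
    · show h ^ 2 ^ (a + b) = 1
      rw [pow_add, mul_comm, pow_mul, hb', one_pow]
  let X : Type _ := {w : G // x⁻¹ * w ∈ N}
  let act : MulAction T X :=
    { smul := fun p w => ⟨p.1.1 * w.1 * p.1.2⁻¹, (p.2.2 w.1).1 w.2⟩
      one_smul := fun w => Subtype.ext (by show (1 : G) * w.1 * (1 : G)⁻¹ = w.1; group)
      mul_smul := fun p q w => Subtype.ext (by
        show p.1.1 * q.1.1 * w.1 * (p.1.2 * q.1.2)⁻¹ = p.1.1 * (q.1.1 * w.1 * q.1.2⁻¹) * p.1.2⁻¹
        group) }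
  let e : X ≃ N :=
    { toFun := fun w => ⟨x⁻¹ * w.1, w.2⟩
      invFun := fun n => ⟨x * n.1, by rw [inv_mul_cancel_left]; exact n.2⟩
      left_inv := fun w => Subtype.ext (by simp)
      right_inv := fun n => Subtype.ext (by simp) }
  have hX : ¬ 2 ∣ Nat.card X := by rw [Nat.card_congr e]; exact hN
  have : Finite X := Finite.of_equiv _ e.symm
  obtain ⟨⟨c, hc⟩, hfix⟩ := hT.nonempty_fixed_point_of_prime_not_dvd_card X hX
  refine ⟨c, hc, ?_⟩
  intro g hg h hh hhN hgh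
  have hn : ∀ w, w ∈ N ↔ h * w * h⁻¹ ∈ N := mem_normalizer_iff.1 hhN
  have hmem : (g, h) ∈ T := by
    refine ⟨⟨hg, hh⟩, ?_⟩
    intro w
    have h1 : x⁻¹ * (g * w * h⁻¹) = (x⁻¹ * g * x * h⁻¹) * (h * (x⁻¹ * w) * h⁻¹) := by group
    show x⁻¹ * w ∈ N ↔ x⁻¹ * (g * w * h⁻¹) ∈ N
    rw [h1, N.mul_mem_cancel_left hgh]
    exact hn _
  have h1 := hfix ⟨(g, h), hmem⟩
  have h2 : g * c * h⁻¹ = c := congrArg Subtype.val h1
  rw [mul_inv_eq_iff_eq_mul] at h2
  exact h2

/-! ### permutations of 2 or 4 points -/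

set_option maxRecDepth 100000 in
theorem fin_four : ∀ t : Fin 4 → Fin 4, (∀ i, t (t i) = i) → (∀ i, t i ≠ i) →
    ∀ s : Fin 4 → Fin 4, (∀ i, s (t i) = t (s i)) → (∀ i j, s i = s j → i = j) →
      ∀ i, s (s (s (s i))) = i := by
  decide +kernel

set_option maxRecDepth 100000 in
theorem fin_two : ∀ s : Fin 2 → Fin 2, (∀ i j, s i = s j → i = j) → ∀ i, s (s (s (s i))) = i := by
  decide +kernel

/-- permutations of a set with 2 or 4 points commuting with a fixed point free involution -/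
theorem perm_four {Y : Type*} (hY : Nat.card Y = 2 ∨ Nat.card Y = 4) (s t : Y → Y) (htt : ∀ i, t (t i) = i)
    (ht : ∀ i, t i ≠ i) (hst : ∀ i, s (t i) = t (s i)) (hs : Function.Injective s) :
    ∀ i, s (s (s (s i))) = i := by
  have key : ∀ k, Nat.card Y = k → k ≠ 0 → (∀ s t : Fin k → Fin k, (∀ i, t (t i) = i) → (∀ i, t i ≠ i) →
      (∀ i, s (t i) = t (s i)) → (∀ i j, s i = s j → i = j) → ∀ i, s (s (s (s i))) = i) →
      ∀ i, s (s (s (s i))) = i := by
    intro k hk hk0 hf i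
    have : Finite Y := Nat.finite_of_card_ne_zero (by rw [hk]; exact hk0)
    let e : Y ≃ Fin k := (Finite.equivFin Y).trans (finCongr hk)
    have h1 := hf (fun a => e (s (e.symm a))) (fun a => e (t (e.symm a))) (fun a => by simp [htt])
      (fun a h => ht (e.symm a) (by rw [← e.apply_eq_iff_eq]; simpa using h)) (fun a => by simp [hst])
      (fun a b h => by
        have := hs (e.injective h)
        exact e.symm.injective this) (e i)
    simpa using h1
  rcases hY with h | h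
  · exact key 2 h (by norm_num) (fun s t _ _ _ h4 => fin_two s h4)
  · exact key 4 h (by norm_num) (fun s t h1 h2 h3 h4 => fin_four t h1 h2 s h3 h4)

end Cfsg.Agent.Cit.QTwo.NnFix
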