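import Cfsg.Agent.Cit.QTwo.NnFix
import Cfsg.Agent.Cit.AutAct
import Cfsg.Agent.Cit.CorTwo
import Cfsg.Agent.Cit.SolvTwo

/-!
# R18, leaf [Q2], part (N): members of `SL₂(3)`-type, an element `k ∈ K`

`exists_kd` : for a 2-subgroup `S` and `K ∈ Om(S)` of type `SL₂(3)` there is `k ∈ K` centralising `L ⊓ S` for all other
`L ∈ Om(S)` and inducing an automorphism of order 3 on `K ⊓ S`.
-/

set_option autoImplicit false
set_option linter.unusedSectionVars false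

namespace Cfsg.Agent.Cit.QTwo.NnK

open Subgroup Cfsg Cfsg.Agent.Cit SolvTwo

variable {G : Type*} [Group G]

/-! ### finite facts on `SL₂(3)` -/

/-- the 2-elements of `SL₂(3)` -/
def Two (p : X) : Prop := p * p = zX ∨ p = 1 ∨ p = zX

instance (p : X) : Decidable (Two p) := by unfold Two; infer_instance

set_option maxRecDepth 100000 in
theorem X_inv : ∀ x : X, x * x = 1 → x ≠ 1 → x = zX := by decide +kernel

set_option maxRecDepth 100000 in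
theorem X_cover : ∀ a b : X, a * a = zX → b * b = zX → (a * b) * (a * b) = zX → ∀ p : X, Two p →
    p = 1 ∨ p = zX ∨ p = a ∨ p = a * zX ∨ p = b ∨ p = b * zX ∨ p = a * b ∨ p = a * b * zX := by
  decide +kernel

set_option maxRecDepth 100000 in
theorem X_alpha : ∀ p : X, Two p → ∃ q : X, Two q ∧
    (q⁻¹ * (cX * q * cX⁻¹) = p ∨ q⁻¹ * (cX * q * cX⁻¹) = p * zX) := by
  decide +kernel

set_option maxRecDepth 100000 in
theorem X_beta : ∀ q : X, q * q = zX →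
    (q⁻¹ * (cX * q * cX⁻¹)) * (q⁻¹ * (cX * q * cX⁻¹)) = zX := by
  decide +kernel

set_option maxRecDepth 100000 in
theorem X_conj_two : ∀ q : X, Two q → Two (cX * q * cX⁻¹) := by decide +kernel

theorem X_three : cX * (cX * (cX : X)) = 1 := by decide +kernel

theorem isType_of_isT {K : Subgroup G} (h : IsT K) : IsType K := by
  refine Or.inl ⟨ZMod 3, inferInstance, inferInstance, ?_, h⟩
  rw [ZMod.card]; decide

/-- `f : K → SL₂(3)` surjective with kernel `O(K)` -/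
structure FX (K : Subgroup G) (f : K →* X) : Prop where
  surj : Function.Surjective f
  ker : ∀ x : K, f x = 1 ↔ (x : G) ∈ OO K

theorem exists_fx {K : Subgroup G} (h : IsT K) : ∃ f, FX K f := by
  obtain ⟨e⟩ := h
  refine ⟨e.toMonoidHom.comp (QuotientGroup.mk' (oddCore K)),
    e.surjective.comp (QuotientGroup.mk'_surjective _), ?_⟩
  intro x
  show e (QuotientGroup.mk x) = 1 ↔ _
  rw [map_eq_one_iff e e.injective, QuotientGroup.eq_one_iff, OO, mem_map]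
  constructor
  · intro hx; exact ⟨x, hx, rfl⟩
  · rintro ⟨y, hy, hyx⟩
    have : y = x := Subtype.ext hyx
    rwa [this] at hy

namespace FX

variable {K : Subgroup G} {f : K →* X}

theorem eq_iff (h : FX K f) {x y : K} : f x = f y ↔ (x : G)⁻¹ * y ∈ OO K := by
  rw [← inv_mul_eq_one, ← map_inv, ← map_mul, h.ker]
  rfl

variable [Finite G] {Om : Set (Subgroup G)} {S : Subgroup G}

theorem zz (h : FX K f) (hy : Hyp Om) (hK : K ∈ Om) : f ⟨zz K, hy.zz_mem hK⟩ = zX := by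
  apply X_inv
  · rw [← map_mul]
    have h1 : (⟨Cit.zz K, hy.zz_mem hK⟩ : K) * ⟨Cit.zz K, hy.zz_mem hK⟩ = 1 := Subtype.ext (hy.zz_mul hK)
    rw [h1, map_one]
  · rw [Ne, h.ker]
    intro h1
    have h2 := AutAct.eq_one_of_OO (K := K) (x := Cit.zz K) h1 (n := 1)
      (by rw [pow_one, pow_two]; exact hy.zz_mul hK)
    exact hy.zz_ne hK h2

theorem inj (h : FX K f) (hS : IsPGroup 2 S) {x y : G} (hx : x ∈ K ⊓ S) (hy : y ∈ K ⊓ S)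
    (hf : f ⟨x, hx.1⟩ = f ⟨y, hy.1⟩) : x = y := by
  rw [h.eq_iff] at hf
  have h1 : x⁻¹ * y ∈ S := mul_mem (inv_mem hx.2) hy.2
  have h2 := eq_one_of_mem_odd hS (odd_OO K) h1 hf
  exact (inv_mul_eq_one.1 h2)

theorem two (_h : FX K f) (_hy : Hyp Om) (_hK : K ∈ Om) (hS : IsPGroup 2 S) {x : G} (hx : x ∈ K ⊓ S) :
    Two (f ⟨x, hx.1⟩) := by
  obtain ⟨n, hn⟩ := hS ⟨x, hx.2⟩
  have hn' : x ^ 2 ^ n = 1 := congrArg Subtype.val hn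
  have h1 : (f ⟨x, hx.1⟩) ^ 2 ^ n = 1 := by
    rw [← map_pow]
    have : (⟨x, hx.1⟩ : K) ^ 2 ^ n = 1 := Subtype.ext hn'
    rw [this, map_one]
  have hco : ∀ y : X, y ^ 2 ^ n = 1 → y ^ 3 = 1 → y = 1 := by
    intro y h4 h3
    have h5 := Nat.dvd_gcd (orderOf_dvd_of_pow_eq_one h4) (orderOf_dvd_of_pow_eq_one h3)
    have h6 : Nat.gcd (2 ^ n) 3 = 1 := Nat.Coprime.pow_left n (by norm_num)
    rw [h6, Nat.dvd_one, orderOf_eq_one_iff] at h5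
    exact h5
  have hz := X_rel.2.2.2.2.1
  rcases X_cases (f ⟨x, hx.1⟩) with h2 | h2 | h2 | h2 | h2
  · exact Or.inl h2
  · exact Or.inr (Or.inl h2)
  · exact Or.inr (Or.inr h2)
  · right; left
    exact hco _ h1 (by rw [pow_succ, pow_two, h2])
  · right; right
    have h3 : f ⟨x, hx.1⟩ * f ⟨x, hx.1⟩ = 1 := by
      refine hco _ ?_ ?_
      · rw [← pow_two, ← pow_mul, mul_comm, pow_mul, h1, one_pow]
      · calc (f ⟨x, hx.1⟩ * f ⟨x, hx.1⟩) ^ 3 =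
            (f ⟨x, hx.1⟩ * f ⟨x, hx.1⟩ * f ⟨x, hx.1⟩) * (f ⟨x, hx.1⟩ * f ⟨x, hx.1⟩ * f ⟨x, hx.1⟩) := by
              simp only [pow_succ, pow_zero, one_mul, mul_assoc]
          _ = 1 := by rw [h2, hz]
    rw [h3, one_mul] at h2
    exact h2

/-- all 2-elements of `SL₂(3)` come from `K ⊓ S` -/
theorem lift (h : FX K f) (hy : Hyp Om) (hS : IsPGroup 2 S) (hK : K ∈ OmS Om S) {p : X} (hp : Two p) :
    ∃ x, ∃ hx : x ∈ K ⊓ S, f ⟨x, hx.1⟩ = p := by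
  obtain ⟨c, v, n, hc⟩ := hy.exists_gq hK.1 (syl_inf hS hK)
  obtain ⟨q₁, h1, q₂, h2, o1, o2, o12, -⟩ := hc.exists_pair
  have hz : f ⟨Cit.zz K, hy.zz_mem hK.1⟩ = zX := h.zz hy hK.1
  have hzS : Cit.zz K ∈ K ⊓ S := hc.z_mem
  have h12 : q₁ * q₂ ∈ K ⊓ S := mul_mem h1 h2
  have sq : ∀ q (hq : q ∈ K ⊓ S), orderOf q = 4 → f ⟨q, hq.1⟩ * f ⟨q, hq.1⟩ = zX := by
    intro q hq ho
    rw [← map_mul, ← hz]
    congr 1
    exact Subtype.ext (hy.sq_eq_zz hK.1 hq.1 ho)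
  have m12 : f ⟨q₁, h1.1⟩ * f ⟨q₂, h2.1⟩ = f ⟨q₁ * q₂, h12.1⟩ := by rw [← map_mul]; rfl
  have mz : ∀ q (hq : q ∈ K ⊓ S), ∃ x, ∃ hx : x ∈ K ⊓ S, f ⟨x, hx.1⟩ = f ⟨q, hq.1⟩ * zX := by
    intro q hq
    refine ⟨q * Cit.zz K, mul_mem hq hzS, ?_⟩
    rw [← hz, ← map_mul]; rfl
  rcases X_cover _ _ (sq q₁ h1 o1) (sq q₂ h2 o2) (by rw [m12]; exact sq _ h12 o12) p hp with
    h3 | h3 | h3 | h3 | h3 | h3 | h3 | h3
  · exact ⟨1, one_mem _, by rw [h3]; exact map_one f⟩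
  · exact ⟨Cit.zz K, hzS, by rw [h3, hz]⟩
  · exact ⟨q₁, h1, h3.symm⟩
  · rw [h3]; exact mz _ h1
  · exact ⟨q₂, h2, h3.symm⟩
  · rw [h3]; exact mz _ h2
  · exact ⟨q₁ * q₂, h12, by rw [h3, m12]⟩
  · rw [h3, m12]; exact mz _ h12

end FX

/-- the element `k` -/
structure KD (Om : Set (Subgroup G)) (S K : Subgroup G) (k : G) : Prop where
  mem : k ∈ K
  cen : ∀ L ∈ OmS Om S, L ≠ K → ∀ b ∈ L ⊓ S, k * b = b * k
  nor : ∀ q ∈ K ⊓ S, k * q * k⁻¹ ∈ K ⊓ S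
  ex : ∀ p ∈ K ⊓ S, ∃ q ∈ K ⊓ S, q⁻¹ * (k * q * k⁻¹) = p ∨ q⁻¹ * (k * q * k⁻¹) = p * zz K
  sq : ∀ q ∈ K ⊓ S, q * q = zz K → (q⁻¹ * (k * q * k⁻¹)) * (q⁻¹ * (k * q * k⁻¹)) = zz K
  three : ∀ q ∈ K ⊓ S, k * (k * (k * q * k⁻¹) * k⁻¹) * k⁻¹ = q

theorem exists_kd [Finite G] {Om : Set (Subgroup G)} (hy : Hyp Om) (ht : ∀ K ∈ Om, IsT K) {S K : Subgroup G}
    (hS : IsPGroup 2 S) (hK : K ∈ OmS Om S) : ∃ k, KD Om S K k := by
  obtain ⟨f, hf⟩ := exists_fx (ht K hK.1)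
  obtain ⟨⟨k0, hk0⟩, hfk0⟩ := hf.surj cX
  obtain ⟨k, hk, hkf⟩ := NnFix.exists_fix hS (odd_OO K) k0
  have hkK : k ∈ K := by
    have := K.mul_mem hk0 (OO_le K hk)
    rwa [mul_inv_cancel_left] at this
  have hfk : f ⟨k, hkK⟩ = cX := by
    rw [← hfk0, eq_comm, hf.eq_iff]
    exact hk
  have hzz := hf.zz hy hK.1
  -- the action on `K ⊓ S`
  have act : ∀ q (hq : q ∈ K ⊓ S), ∃ hq' : k * q * k⁻¹ ∈ K ⊓ S,
      f ⟨k * q * k⁻¹, hq'.1⟩ = cX * f ⟨q, hq.1⟩ * cX⁻¹ := by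
    intro q hq
    obtain ⟨q1, hq1, hq1f⟩ := hf.lift hy hS hK (X_conj_two _ (hf.two hy hK.1 hS hq))
    have h1 : q1 * k = k * q := by
      refine hkf q1 hq1.2 q hq.2 (le_normalizer_OO K hq.1) ?_
      have h2 : k0⁻¹ * q1 * k0 * q⁻¹ ∈ K :=
        K.mul_mem (K.mul_mem (K.mul_mem (K.inv_mem hk0) hq1.1) hk0) (K.inv_mem hq.1)
      rw [show k0⁻¹ * q1 * k0 * q⁻¹ = ((⟨k0⁻¹ * q1 * k0 * q⁻¹, h2⟩ : K) : G) from rfl, ← hf.ker]
      have h3 : (⟨k0⁻¹ * q1 * k0 * q⁻¹, h2⟩ : K) =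
        (⟨k0, hk0⟩ : K)⁻¹ * ⟨q1, hq1.1⟩ * ⟨k0, hk0⟩ * (⟨q, hq.1⟩ : K)⁻¹ := rfl
      rw [h3, map_mul, map_mul, map_mul, map_inv, map_inv, hfk0, hq1f]
      group
    have h2 : k * q * k⁻¹ = q1 := by rw [← h1]; group
    refine ⟨by rw [h2]; exact hq1, ?_⟩
    rw [← hq1f]
    congr 1
    exact Subtype.ext h2
  refine ⟨k, hkK, ?_, fun q hq => (act q hq).1, ?_, ?_, ?_⟩
  · intro L hL hLK b hb
    have hbN : b ∈ normalizer (K : Set G) := hy.DD_le_normalizer hS hK (inf_le_DD hL hb)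
    obtain ⟨n, hn⟩ := hS ⟨b, hb.2⟩
    have hT : AutAct.Triv b K := AutAct.triv_of_cent (isType_of_isT (ht K hK.1)) (syl_inf hS hK) hbN
      (b := n) (congrArg Subtype.val hn) (fun x hx => hy.comm hS hL hK hLK hb hx)
    have h1 : b * k = k * b := by
      refine hkf b hb.2 b hb.2 ?_ ?_
      · rw [mem_normalizer_iff_cj, ← OO_cj, mem_normalizer_iff_cj.1 hbN]
      · have h2 := hT k0 hk0
        have h3 := (mem_normalizer_iff.1 (inv_mem (le_normalizer_OO K hk0)) _).1 h2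
        have h4 : k0⁻¹ * (b * k0 * b⁻¹ * k0⁻¹) * k0⁻¹⁻¹ = k0⁻¹ * b * k0 * b⁻¹ := by group
        rwa [h4] at h3
    exact h1.symm
  · intro p hp
    obtain ⟨u, hu, hup⟩ := X_alpha _ (hf.two hy hK.1 hS hp)
    obtain ⟨q, hq, hqu⟩ := hf.lift hy hS hK hu
    obtain ⟨hq', hfq⟩ := act q hq
    have hm : q⁻¹ * (k * q * k⁻¹) ∈ K ⊓ S := mul_mem (inv_mem hq) hq'
    have hfm : f ⟨q⁻¹ * (k * q * k⁻¹), hm.1⟩ = u⁻¹ * (cX * u * cX⁻¹) := by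
      have h3 : (⟨q⁻¹ * (k * q * k⁻¹), hm.1⟩ : K) = (⟨q, hq.1⟩ : K)⁻¹ * ⟨k * q * k⁻¹, hq'.1⟩ := rfl
      rw [h3, map_mul, map_inv, hfq, hqu]
    refine ⟨q, hq, ?_⟩
    rcases hup with h1 | h1
    · left
      exact hf.inj hS hm hp (by rw [hfm, h1])
    · right
      have hzS := hy.zz_mem_inf hS hK
      refine hf.inj hS hm (mul_mem hp hzS) ?_
      rw [hfm, h1, ← hzz, ← map_mul]; rfl
  · intro q hq hqq
    obtain ⟨hq', hfq⟩ := act q hq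
    have hm : q⁻¹ * (k * q * k⁻¹) ∈ K ⊓ S := mul_mem (inv_mem hq) hq'
    have h1 : f ⟨q, hq.1⟩ * f ⟨q, hq.1⟩ = zX := by
      rw [← hzz, ← map_mul]
      congr 1
      exact Subtype.ext hqq
    refine hf.inj hS (mul_mem hm hm) (hy.zz_mem_inf hS hK) ?_
    rw [hzz, ← X_beta _ h1]
    have h3 : (⟨(q⁻¹ * (k * q * k⁻¹)) * (q⁻¹ * (k * q * k⁻¹)), (mul_mem hm hm).1⟩ : K) =
      ((⟨q, hq.1⟩ : K)⁻¹ * ⟨k * q * k⁻¹, hq'.1⟩) * ((⟨q, hq.1⟩ : K)⁻¹ * ⟨k * q * k⁻¹, hq'.1⟩) := rfl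
    rw [h3, map_mul, map_mul, map_inv, hfq]
  · intro q hq
    obtain ⟨hq1, hf1⟩ := act q hq
    obtain ⟨hq2, hf2⟩ := act _ hq1
    obtain ⟨hq3, hf3⟩ := act _ hq2
    refine hf.inj hS hq3 hq ?_
    rw [hf3, hf2, hf1]
    have h1 : cX * (cX * (cX * f ⟨q, hq.1⟩ * cX⁻¹) * cX⁻¹) * cX⁻¹ =
      (cX * (cX * cX)) * f ⟨q, hq.1⟩ * (cX * (cX * cX))⁻¹ := by group
    rw [h1, X_three]; group

end Cfsg.Agent.Cit.QTwo.NnK
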