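import Cfsg.Agent.Cit.AutAct
import Cfsg.Agent.Cit.SolvTwo
import Cfsg.Agent.Cit.SubCent

/-!
# Orientation preserving automorphisms of `SL₂(3)` ([Q2] of THEOREM T)

`exists_conj_of_aut` : an automorphism `α` of `X = SL₂(3)` of 2-power order with `(α c c⁻¹)⁴ = 1` for all `c` is
conjugation by some `q`, `q⁴ = 1`.
-/

set_option autoImplicit false
set_option linter.style.haveILetI false

namespace Cfsg.Agent.Cit.QTwo

open Subgroup Cfsg SolvTwo

section SL

set_option maxRecDepth 100000 in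
theorem X_pair : ∀ a b : X, a * a = zX → b * b * b = 1 → a * b * (a * b) * (a * b) = iX * cX * (iX * cX) * (iX * cX) →
    (b * cX⁻¹) ^ 4 = 1 → ∃ s : X, s * iX = a * s ∧ s * cX = b * s := by
  decide +kernel

set_option maxRecDepth 100000 in
theorem X_word : ∀ x : X, ∃ a : Fin 3, ∃ b : Fin 4, ∃ c : Fin 3, ∃ d : Fin 4,
    x = cX ^ (a : ℕ) * iX ^ (b : ℕ) * cX ^ (c : ℕ) * iX ^ (d : ℕ) := by
  decide +kernel

set_option maxRecDepth 100000 in
theorem X_invol : ∀ x : X, x * x = 1 → x = 1 ∨ x = zX := by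
  decide +kernel

set_option maxRecDepth 100000 in
theorem X_mod : ∀ x y : X, x ^ 4 ≠ 1 → ∃ n : Fin 3, ((x ^ (n : ℕ))⁻¹ * y) ^ 4 = 1 := by
  decide +kernel

set_option maxRecDepth 100000 in
theorem X_z : ∀ x : X, x * zX = zX * x := by
  decide +kernel

theorem X_eq_of_two {α β : X →* X} (hi : α iX = β iX) (hc : α cX = β cX) : α = β := by
  ext1 x
  obtain ⟨a, b, c, d, rfl⟩ := X_word x
  simp only [map_mul, map_pow, hi, hc]

theorem map_zX (α : MulAut X) : α zX = zX := by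
  obtain ⟨-, -, -, -, hz, hz1, -⟩ := X_rel
  rcases X_invol (α zX) (by rw [← map_mul, hz, map_one]) with h | h
  · exact absurd ((MulEquiv.map_eq_one_iff α).1 h) hz1
  · exact h

/-- a homomorphism of `X` to a commutative group killing the elements of 2-power order -/
theorem pow_four_of_map {A : Type*} [CommGroup A] (ψ : X →* A) (h4 : ∀ y : X, y ^ 4 = 1 → ψ y = 1)
    (hne : ∃ y : X, ψ y ≠ 1) {x : X} (hx : ψ x = 1) : x ^ 4 = 1 := by
  by_contra h
  obtain ⟨y, hy⟩ := hne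
  obtain ⟨n, hn⟩ := X_mod x y h
  apply hy
  have h1 := h4 _ hn
  rwa [map_mul, map_inv, map_pow, hx, one_pow, inv_one, one_mul] at h1

theorem exists_conj_of_aut {α : MulAut X} {k : ℕ} (hα : α ^ 2 ^ k = 1) (hc : ∀ c : X, (α c * c⁻¹) ^ 4 = 1) :
    ∃ q : X, q ^ 4 = 1 ∧ α = MulAut.conj q := by
  obtain ⟨hi, -, hc3, -, hz, -, -⟩ := X_rel
  obtain ⟨s, hs1, hs2⟩ := X_pair (α iX) (α cX) (by rw [← map_mul, hi, map_zX])
    (by rw [← map_mul, ← map_mul, hc3, map_one]) (by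
      have h1 : α (iX * cX * (iX * cX) * (iX * cX)) = iX * cX * (iX * cX) * (iX * cX) := by
        have h2 : iX * cX * (iX * cX) * (iX * cX) = 1 ∨ iX * cX * (iX * cX) * (iX * cX) = zX := by
          decide +kernel
        rcases h2 with h2 | h2
        · rw [h2, map_one]
        · rw [h2, map_zX]
      simpa only [map_mul] using h1) (hc cX)
  have h1 : α = MulAut.conj s := by
    have h2 : α.toMonoidHom = (MulAut.conj s).toMonoidHom := by
      apply X_eq_of_two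
      · change α iX = s * iX * s⁻¹
        rw [hs1, mul_inv_cancel_right]
      · change α cX = s * cX * s⁻¹
        rw [hs2, mul_inv_cancel_right]
    ext1 x
    exact DFunLike.congr_fun h2 x
  have h3 : (MulAut.conj s : MulAut X) ^ 2 ^ k = 1 := by rw [← h1, hα]
  have h4 : s ^ 4 = s * s * (s * s) := by simp only [pow_succ, pow_zero, one_mul, mul_assoc]
  rcases X_cases s with h | h | h | h | h
  · exact ⟨s, by rw [h4, h, hz], h1⟩
  · exact ⟨s, by rw [h, one_pow], h1⟩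
  · exact ⟨s, by rw [h4, h, hz, one_mul], h1⟩
  · -- order dividing 3
    refine ⟨1, one_pow _, ?_⟩
    have h4 : (MulAut.conj s : MulAut X) ^ 3 = 1 := by
      rw [← map_pow, pow_succ, pow_two, h, map_one]
    have h5 := Nat.dvd_gcd (orderOf_dvd_of_pow_eq_one h3) (orderOf_dvd_of_pow_eq_one h4)
    have h6 : Nat.gcd (2 ^ k) 3 = 1 := Nat.Coprime.pow_left k (by norm_num)
    rw [h6, Nat.dvd_one, orderOf_eq_one_iff] at h5
    rw [h1, h5, map_one]
  · refine ⟨1, one_pow _, ?_⟩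
    have h4 : (MulAut.conj s : MulAut X) ^ 3 = 1 := by
      rw [← map_pow, pow_succ, pow_two, h]
      ext1 x
      change zX * x * zX⁻¹ = x
      rw [← X_z, mul_inv_cancel_right]
    have h5 := Nat.dvd_gcd (orderOf_dvd_of_pow_eq_one h3) (orderOf_dvd_of_pow_eq_one h4)
    have h6 : Nat.gcd (2 ^ k) 3 = 1 := Nat.Coprime.pow_left k (by norm_num)
    rw [h6, Nat.dvd_one, orderOf_eq_one_iff] at h5
    rw [h1, h5, map_one]

set_option maxRecDepth 100000 in
theorem X_four : ∀ x y : X, x ^ 4 = 1 → y ^ 4 = 1 → (x * y) ^ 4 = 1 := by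
  decide +kernel

set_option maxRecDepth 100000 in
theorem X_sq_cen : ∀ x y : X, x ^ 4 = 1 → x * x * y = y * (x * x) := by
  decide +kernel

end SL

variable {G : Type*} [Group G] {K Q : Subgroup G}

/-- in a group isomorphic to `X` every element with `y⁴ = 1` lies in every Sylow 2-subgroup -/
theorem mem_sylow_of_pow_four {Y : Type*} [Group Y] [Finite Y] (e : Y ≃* X) (P : Sylow 2 Y) {y : Y} (hy : y ^ 4 = 1) :
    y ∈ P := by
  haveI : Fact (Nat.Prime 2) := ⟨Nat.prime_two⟩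
  have he : ∀ a : Y, (e a) ^ 4 = 1 ↔ a ^ 4 = 1 := by
    intro a
    rw [← map_pow, MulEquiv.map_eq_one_iff]
  let S0 : Subgroup Y :=
    { carrier := {a | a ^ 4 = 1}
      one_mem' := one_pow _
      mul_mem' := by
        intro a b ha hb
        change (a * b) ^ 4 = 1
        rw [← he, map_mul]
        exact X_four _ _ ((he a).2 ha) ((he b).2 hb)
      inv_mem' := by
        intro a ha
        change a⁻¹ ^ 4 = 1
        rw [inv_pow, inv_eq_one]; exact ha }
  have hS0 : IsPGroup 2 S0 := by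
    rintro ⟨a, ha⟩
    exact ⟨2, Subtype.ext ha⟩
  obtain ⟨P', hP'⟩ := hS0.exists_le_sylow
  obtain ⟨u, hu⟩ := MulAction.exists_smul_eq Y P' P
  have h1 : u⁻¹ * y * u ∈ S0 := by
    change (u⁻¹ * y * u) ^ 4 = 1
    have h2 : (u⁻¹ * y * u) ^ 4 = u⁻¹ * y ^ 4 * u := by
      have := conj_pow (i := 4) (a := u⁻¹) (b := y)
      rwa [inv_inv] at this
    rw [h2, hy, mul_one, inv_mul_cancel]
  have h2 := hP' h1
  rw [← hu]
  change y ∈ ((u • P' : Sylow 2 Y) : Subgroup Y)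
  rw [Sylow.coe_subgroup_smul, Subgroup.mem_pointwise_smul_iff_inv_smul_mem]
  simpa [MulAut.smul_def] using h2

/-- **(F1)** -/
theorem exists_triv [Finite G] (hT : IsT K) {A : Type*} [CommGroup A] (φ : G →* A) (hO : ∀ x ∈ OO K, φ x = 1)
    (h2 : ∀ x : G, IsPGroup 2 (zpowers x) → φ x = 1) (hne : ∃ k ∈ K, φ k ≠ 1) (hQ : Syl Q K) {g : G}
    (hg : g ∈ normalizer (K : Set G)) {b : ℕ} (hg2 : g ^ 2 ^ b = 1) :
    (∃ q ∈ Q, AutAct.Triv (q⁻¹ * g) K) ∧ AutAct.Triv (g * g) K := by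
  obtain ⟨e⟩ := hT
  let ψ₀ : ↥K ⧸ oddCore ↥K →* A := QuotientGroup.lift (oddCore ↥K) (φ.comp K.subtype) (by
    intro x hx
    exact hO _ ⟨x, hx, rfl⟩)
  have hψ₀ : ∀ x : K, ψ₀ (QuotientGroup.mk x) = φ x := fun x => rfl
  let ψ : X →* A := ψ₀.comp e.symm.toMonoidHom
  -- 2-elements
  have hψ4 : ∀ y : X, y ^ 4 = 1 → ψ y = 1 := by
    intro y hy
    obtain ⟨k, hk⟩ := QuotientGroup.mk_surjective (e.symm y)
    change ψ₀ (e.symm y) = 1
    rw [← hk, hψ₀]
    have h4 : (k : G) ^ 4 ∈ OO K := by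
      have h5 : (QuotientGroup.mk (k ^ 4) : ↥K ⧸ oddCore ↥K) = 1 := by
        rw [QuotientGroup.mk_pow, hk, ← map_pow, hy, map_one]
      exact ⟨_, (QuotientGroup.eq_one_iff _).1 h5, rfl⟩
    have hm : ¬ 2 ∣ Nat.card (OO K) := odd_OO K
    set m := Nat.card (OO K) with hmdef
    have h5 : ((k : G) ^ 4) ^ m = 1 := by
      have := pow_card_eq_one' (G := OO K) (x := ⟨_, h4⟩)
      exact congrArg Subtype.val this
    have h6 : φ ((k : G) ^ m) = 1 := by
      apply h2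
      rw [IsPGroup.iff_card]
      have h7 : orderOf ((k : G) ^ m) ∣ 2 ^ 2 := by
        apply orderOf_dvd_of_pow_eq_one
        rw [← pow_mul, mul_comm, pow_mul]; exact h5
      obtain ⟨j, -, hj⟩ := (Nat.dvd_prime_pow Nat.prime_two).1 h7
      exact ⟨j, by rw [Nat.card_zpowers, hj]⟩
    have h7 : (φ (k : G)) ^ m = 1 := by rw [← map_pow, h6]
    have h8 : (φ (k : G)) ^ 4 = 1 := by rw [← map_pow, hO _ h4]
    have h9 := Nat.dvd_gcd (orderOf_dvd_of_pow_eq_one h7) (orderOf_dvd_of_pow_eq_one h8)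
    have h10 : Nat.gcd m 4 = 1 := by
      have : Nat.Coprime m 2 := by
        rw [Nat.coprime_comm]
        exact (Nat.Prime.coprime_iff_not_dvd Nat.prime_two).2 hm
      exact Nat.Coprime.pow_right 2 this
    rw [h10, Nat.dvd_one, orderOf_eq_one_iff] at h9
    exact h9
  have hψne : ∃ y : X, ψ y ≠ 1 := by
    obtain ⟨k, hk, hk1⟩ := hne
    refine ⟨e (QuotientGroup.mk ⟨k, hk⟩), ?_⟩
    change ψ₀ (e.symm (e _)) ≠ 1
    rw [MulEquiv.symm_apply_apply, hψ₀]
    exact hk1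
  -- the automorphism
  let α₀ : MulAut (↥K ⧸ oddCore ↥K) := AutAct.act K ⟨g, hg⟩
  let α : MulAut X := (e.symm.trans α₀).trans e
  have hα : ∀ x, α x = e (α₀ (e.symm x)) := fun x => rfl
  have hαpow : ∀ (n : ℕ) (x : X), (α ^ n) x = e ((α₀ ^ n) (e.symm x)) := by
    intro n
    induction n with
    | zero => intro x; simp
    | succ n ih =>
      intro x
      rw [pow_succ, pow_succ, MulAut.mul_apply, MulAut.mul_apply, ih, hα, MulEquiv.symm_apply_apply]
  have hαb : α ^ 2 ^ b = 1 := by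
    ext1 x
    rw [hαpow, ← map_pow]
    have h3 : (⟨g, hg⟩ : ↥(normalizer (K : Set G))) ^ 2 ^ b = 1 := Subtype.ext hg2
    rw [h3, map_one, MulAut.one_apply, MulEquiv.apply_symm_apply, MulAut.one_apply]
  have hαc : ∀ c : X, (α c * c⁻¹) ^ 4 = 1 := by
    intro c
    apply pow_four_of_map ψ hψ4 hψne
    obtain ⟨k, hk⟩ := QuotientGroup.mk_surjective (e.symm c)
    have h3 : e.symm (α c * c⁻¹) = QuotientGroup.mk (⟨g * k * g⁻¹, AutAct.conj_mem hg k.2⟩ * k⁻¹ : K) := by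
      rw [map_mul, map_inv, hα, MulEquiv.symm_apply_apply, ← hk, QuotientGroup.mk_mul, QuotientGroup.mk_inv]
      rfl
    change ψ₀ (e.symm (α c * c⁻¹)) = 1
    rw [h3, hψ₀]
    change φ (g * k * g⁻¹ * (k : G)⁻¹) = 1
    rw [map_mul, map_mul, map_mul, map_inv, map_inv]
    rw [mul_comm (φ g) (φ k), mul_inv_cancel_right, mul_inv_cancel]
  obtain ⟨q, hq4, hαq⟩ := exists_conj_of_aut hαb hαc
  obtain ⟨P, hP1, hP2⟩ := AutAct.exists_sylow hQ
  have hq4' : (e.symm q) ^ 4 = 1 := by rw [← map_pow, hq4, map_one]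
  obtain ⟨x, hx, hxq⟩ := hP2 _ (mem_sylow_of_pow_four e P hq4')
  have hxK := hQ.1 hx
  have hα₀ : ∀ y, α₀ y = e.symm q * y * (e.symm q)⁻¹ := by
    intro y
    apply e.injective
    have h3 := hα (e y)
    rw [MulEquiv.symm_apply_apply] at h3
    rw [← h3, hαq, map_mul, map_mul, map_inv, MulEquiv.apply_symm_apply]
    rfl
  have hact : ∀ k (hk : k ∈ K), (QuotientGroup.mk ⟨g * k * g⁻¹, AutAct.conj_mem hg hk⟩ : ↥K ⧸ oddCore ↥K) =
      QuotientGroup.mk ⟨x * k * x⁻¹, K.mul_mem (K.mul_mem hxK hk) (K.inv_mem hxK)⟩ := by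
    intro k hk
    have h3 := hα₀ (QuotientGroup.mk ⟨k, hk⟩)
    rw [hxq, ← QuotientGroup.mk_mul, ← QuotientGroup.mk_inv, ← QuotientGroup.mk_mul] at h3
    exact h3
  refine ⟨⟨x, hx, ?_⟩, ?_⟩
  · intro k hk
    have h3 := (AutAct.mk_eq_iff' _ _).1 (hact k hk)
    have h4 := SubCent.conj_mem_OO (K.inv_mem hxK) h3
    convert h4 using 1
    group
  · intro k hk
    have h3 := hact _ (AutAct.conj_mem hg hk)
    have h4 := (AutAct.mk_eq_iff' _ _).1 h3
    have h5 := (AutAct.mk_eq_iff' _ _).1 (hact k hk)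
    have h6 := SubCent.conj_mem_OO hxK h5
    -- `x x` is central modulo the core
    have h7 : x * (x * k * x⁻¹) * x⁻¹ * k⁻¹ ∈ OO K := by
      have h8 : (QuotientGroup.mk ⟨x * (x * k * x⁻¹) * x⁻¹, K.mul_mem (K.mul_mem hxK (K.mul_mem (K.mul_mem hxK hk)
          (K.inv_mem hxK))) (K.inv_mem hxK)⟩ : ↥K ⧸ oddCore ↥K) = QuotientGroup.mk ⟨k, hk⟩ := by
        apply e.injective
        have h9 : (⟨x * (x * k * x⁻¹) * x⁻¹, K.mul_mem (K.mul_mem hxK (K.mul_mem (K.mul_mem hxK hk)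
          (K.inv_mem hxK))) (K.inv_mem hxK)⟩ : K) = ⟨x, hxK⟩ * ⟨x, hxK⟩ * ⟨k, hk⟩ * (⟨x, hxK⟩ * ⟨x, hxK⟩)⁻¹ := by
          apply Subtype.ext
          change x * (x * k * x⁻¹) * x⁻¹ = x * x * k * (x * x)⁻¹
          group
        rw [h9, QuotientGroup.mk_mul, QuotientGroup.mk_mul, QuotientGroup.mk_inv, QuotientGroup.mk_mul, ← hxq,
          map_mul, map_mul, map_inv, map_mul, MulEquiv.apply_symm_apply, X_sq_cen _ _ hq4, mul_inv_cancel_right]
      exact (AutAct.mk_eq_iff' _ _).1 h8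
    have h8 := (OO K).mul_mem ((OO K).mul_mem h4 h6) h7
    convert h8 using 1
    group

end Cfsg.Agent.Cit.QTwo
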