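import Cfsg.Agent.Cit.QTwo.World
import Cfsg.Agent.Cit.TPieces
import Cfsg.Agent.Cit.CoresG

/-!
# [Q2], part (0): reduction of `MinG Om L`, `L ≠ G`, to the world `Wd`

* `Red.syl_le` : the Sylow 2-subgroups of the members lie in `L` (LEMMA B);
* `Red.core_eq_bot` : `O(H) = 1` for `H ≥ L`; `Red.le_of_perfect`;
* `Red.isT` : `L ≠ G` implies that all members are of type `SL₂(3)`;
* `Red.sup_eq_top` : `G = L K`;
* `Red.exists_wd` : if (CC) holds, there is `φ : G → Z/3` with `Wd Om L φ`.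
-/

set_option autoImplicit false
set_option linter.style.haveILetI false
set_option linter.unusedSectionVars false

namespace Cfsg.Agent.Cit.QTwo.Red

open Subgroup Cfsg Cfsg.Agent.Cit SubCent CoresG

universe u

variable {G : Type u} [Group G] [Finite G] {Om : Set (Subgroup G)} {L K J Q H : Subgroup G}

/-- a simple nonabelian group has even order -/
theorem two_dvd_of_simple (odd : OddStmt.{u}) {X : Type u} [Group X] [Finite X] (hs : IsSimpleGroup X)
    (hn : ¬ IsMulCommutative X) : 2 ∣ Nat.card X := by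
  by_contra h
  apply hn
  have h1 : Group.IsSolvable X := odd X h
  haveI := hs
  exact ⟨⟨IsSimpleGroup.comm_iff_isSolvable.2 h1⟩⟩

theorem OO_eq_bot (odd : OddStmt.{u}) (hs : IsSimpleGroup L) (hn : ¬ IsMulCommutative L) : OO L = ⊥ := by
  haveI := hs
  haveI : (oddCore L).Normal := Lib.Cores.pPrimeCore_normal 2
  rcases IsSimpleGroup.eq_bot_or_eq_top_of_normal (oddCore L) inferInstance with h | h
  · rw [OO, h, Subgroup.map_bot]
  · exfalso
    have h1 := not_two_dvd_oddCore L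
    rw [h, card_top] at h1
    exact h1 (two_dvd_of_simple odd hs hn)

/-- `O(H) = 1` for `H ≥ L` -/
theorem OO_eq_bot_of_le (odd : OddStmt.{u}) (hN : L.Normal) (hs : IsSimpleGroup L) (hn : ¬ IsMulCommutative L)
    (hc : centralizer (L : Set G) = ⊥) (hLH : L ≤ H) : OO H = ⊥ := by
  have h1 : OO H ⊓ L ≤ OO L := by
    refine le_OO inf_le_right ?_ (fun h => odd_OO H (h.trans (card_dvd_of_le inf_le_left)))
    intro x hx
    rw [mem_normalizer_iff_cj, cj_inf, mem_normalizer_iff_cj.1 (le_normalizer hx),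
      mem_normalizer_iff_cj.1 (le_normalizer_OO H (hLH hx))]
  rw [OO_eq_bot odd hs hn] at h1
  rw [← le_bot_iff, ← hc]
  intro x hx
  rw [mem_centralizer_iff]
  intro y hy
  have h2 : y * x * y⁻¹ * x⁻¹ ∈ OO H ⊓ L := by
    refine mem_inf.2 ⟨?_, ?_⟩
    · exact mul_mem ((mem_normalizer_iff.1 (le_normalizer_OO H (hLH hy)) x).1 hx) (inv_mem hx)
    · have h3 : y * (x * y⁻¹ * x⁻¹) ∈ L := L.mul_mem hy (hN.conj_mem _ (L.inv_mem hy) x)
      have h4 : y * (x * y⁻¹ * x⁻¹) = y * x * y⁻¹ * x⁻¹ := by group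
      rwa [h4] at h3
  have h3 := h1 h2
  rw [mem_bot, mul_inv_eq_one, mul_inv_eq_iff_eq_mul] at h3
  exact h3

theorem core_eq_bot (odd : OddStmt.{u}) (hN : L.Normal) (hs : IsSimpleGroup L) (hn : ¬ IsMulCommutative L)
    (hc : centralizer (L : Set G) = ⊥) (hLH : L ≤ H) : pPrimeCore 2 H = ⊥ := by
  have h1 := OO_eq_bot_of_le odd hN hs hn hc hLH
  rw [OO, Subgroup.map_eq_bot_iff_of_injective _ H.subtype_injective] at h1
  exact h1

/-- a perfect subgroup of `H`, `|H : H ∩ L|` odd, is contained in `L` -/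
theorem le_of_perfect (odd : OddStmt.{u}) (hN : L.Normal) {D : Subgroup G} (hD : ⁅D, D⁆ = D) (hDH : D ≤ H) (hH : ¬ 2 ∣ L.relIndex H) :
    D ≤ L := by
  have hcard : Nat.card (D.map (QuotientGroup.mk' L)) ∣ L.relIndex H := by
    have h1 : Nat.card (H.map (QuotientGroup.mk' L)) = L.relIndex H := by
      rw [← relIndex_ker, QuotientGroup.ker_mk']
    rw [← h1]
    exact card_dvd_of_le (Subgroup.map_mono hDH)
  haveI : Group.IsSolvable (D.map (QuotientGroup.mk' L)) := odd _ fun h => hH (h.trans hcard)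
  have h2 : D.map (QuotientGroup.mk' L) = ⊥ := by
    by_contra hne
    haveI : Nontrivial (D.map (QuotientGroup.mk' L)) := (Subgroup.nontrivial_iff_ne_bot _).2 hne
    have h3 := Group.IsSolvable.commutator_lt_top_of_nontrivial (G := D.map (QuotientGroup.mk' L))
    apply h3.ne
    have h4 : ⁅D.map (QuotientGroup.mk' L), D.map (QuotientGroup.mk' L)⁆ = D.map (QuotientGroup.mk' L) := by
      rw [← map_commutator, hD]
    apply Subgroup.map_injective (D.map (QuotientGroup.mk' L)).subtype_injective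
    rw [_root_.commutator_def, map_commutator, ← MonoidHom.range_eq_map, range_subtype, h4]
  rw [Subgroup.map_eq_bot_iff, QuotientGroup.ker_mk'] at h2
  exact h2

section

variable (m : MinG Om L)

include m

theorem isType : ∀ K ∈ Om, IsType K := fun K hK => Ty.isType (m.ty K hK)

theorem syl_le (odd : OddStmt.{u}) (hK : K ∈ Om) (hQ : Syl Q K) : Q ≤ L := by
  refine m.hyp.lemmaB_of_isType hK (isType m K hK) ?_ (OO_eq_bot odd m.simple m.nab) ?_ hQ
  · haveI := m.normal
    rw [normalizer_eq_top]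
    exact le_top
  · intro h
    have h1 : zz K ∈ centralizer (L : Set G) := by
      rw [mem_centralizer_iff]
      intro x hx
      exact mem_centralizer_singleton_iff.1 (h hx)
    rw [m.cent, mem_bot] at h1
    exact m.hyp.zz_ne hK h1

theorem zz_mem (odd : OddStmt.{u}) (hK : K ∈ Om) : zz K ∈ L := by
  obtain ⟨Q, hQ⟩ := Hyp.exists_syl K
  obtain ⟨c, v, n, hq⟩ := m.hyp.exists_gq hK hQ
  exact syl_le m odd hK hQ hq.z_mem

theorem odd_relIndex (odd : OddStmt.{u}) (hK : K ∈ Om) : ¬ 2 ∣ L.relIndex K := by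
  obtain ⟨Q, hQ⟩ := Hyp.exists_syl K
  exact fun h => hQ.2.2 (h.trans (relIndex_dvd_of_le_left K (syl_le m odd hK hQ)))

/-- one member in `L` : `L = G` -/
theorem eq_top_of_le (hK : K ∈ Om) (hKL : K ≤ L) : L = ⊤ := by
  rw [← top_le_iff, ← m.gen]
  refine sSup_le fun J hJ => ?_
  obtain ⟨g, rfl⟩ := m.cls K hK J hJ
  rintro _ ⟨x, hx, rfl⟩
  exact m.normal.conj_mem x (hKL hx) g

theorem isT (odd : OddStmt.{u}) (hne : L ≠ ⊤) : ∀ K ∈ Om, SolvTwo.IsT K := by
  intro K hK
  rcases m.ty K hK with h | ⟨-, h⟩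
  · exact h
  · exact absurd (eq_top_of_le m hK (le_of_perfect odd m.normal h le_rfl (odd_relIndex m odd hK))) hne

/-- the images of `zz K` under `L` generate `L` : `zz K` cannot commute with all its conjugates -/
theorem exists_not_comm (odd : OddStmt.{u}) (hK : K ∈ Om) : ∃ l ∈ L, zz K * (l * zz K * l⁻¹) ≠ l * zz K * l⁻¹ * zz K := by
  by_contra hall
  push Not at hall
  haveI := m.simple
  have hzL := zz_mem m odd hK
  -- the elements of `L` commuting with all conjugates of `z`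
  have h1 : normalClosure ({(⟨zz K, hzL⟩ : L)} : Set L) = ⊤ := by
    rcases IsSimpleGroup.eq_bot_or_eq_top_of_normal (normalClosure ({(⟨zz K, hzL⟩ : L)} : Set L)) inferInstance with
      h | h
    · exfalso
      have h2 : (⟨zz K, hzL⟩ : L) ∈ normalClosure ({(⟨zz K, hzL⟩ : L)} : Set L) :=
        subset_normalClosure (Set.mem_singleton _)
      rw [h, mem_bot] at h2
      exact m.hyp.zz_ne hK (congrArg Subtype.val h2)
    · exact h
  have h2 : normalClosure ({(⟨zz K, hzL⟩ : L)} : Set L) ≤ centralizer {(⟨zz K, hzL⟩ : L)} := by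
    rw [normalClosure, closure_le]
    intro x hx
    obtain ⟨y, hy, hyx⟩ := Group.mem_conjugatesOfSet_iff.1 hx
    rw [Set.mem_singleton_iff] at hy
    subst hy
    obtain ⟨c, hc⟩ := isConj_iff.1 hyx
    rw [SetLike.mem_coe, mem_centralizer_singleton_iff, ← hc]
    exact Subtype.ext (hall c c.2).symm
  have h3 : zz K ∈ centralizer (L : Set G) := by
    rw [mem_centralizer_iff]
    intro x hx
    have h4 : (⟨x, hx⟩ : L) ∈ centralizer {(⟨zz K, hzL⟩ : L)} := by
      apply h2
      rw [h1]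
      trivial
    exact congrArg Subtype.val (mem_centralizer_singleton_iff.1 h4)
  rw [m.cent, mem_bot] at h3
  exact m.hyp.zz_ne hK h3

/-- **`G = L K`** -/
theorem sup_eq_top (odd : OddStmt.{u}) (hne : L ≠ ⊤) (hK : K ∈ Om) : L ⊔ K = ⊤ := by
  by_contra hH
  have hLH : L ≤ L ⊔ K := le_sup_left
  have hKH : K ≤ L ⊔ K := le_sup_right
  have hT := isT m odd hne
  have hTr : ∀ J ∈ restrX Om (L ⊔ K), SolvTwo.IsT J := by
    rintro _ ⟨J, hJ, rfl⟩
    obtain ⟨e⟩ := hT J hJ.1
    exact ⟨(SubCent.quotEquiv hJ).trans e⟩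
  have hyp' : Hyp (restrX Om (L ⊔ K)) := hyp_restrX m.hyp _
  have hp : HasPieces (restrX Om (L ⊔ K)) := by
    have h1 := RdOm.tt_of_lt m.hyp (isType m) m.uni m.ind hH
    rw [RdOm.rd_image_eq (fun K hK => Or.inl (hTr K (by rwa [RdOm.OmIn_eq] at hK))), RdOm.OmIn_eq] at h1
    exact (tt_iff_hasPieces hyp' (core_eq_bot odd m.normal m.simple m.nab m.cent hLH)).1 h1
  have hKr : K.subgroupOf (L ⊔ K) ∈ restrX Om (L ⊔ K) := ⟨K, mem_cov_of_le hK hKH, rfl⟩
  rcases hp.eq_or_quasisimple hyp' hKr with h1 | ⟨-, ⟨h1, -⟩, -⟩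
  · -- the conjugates of `K` are equal or commute
    obtain ⟨l, hl, hlz⟩ := exists_not_comm m odd hK
    have hJH : cj l K ≤ L ⊔ K := by
      rw [← mem_normalizer_iff_cj.1 (le_normalizer (hLH hl))]
      exact cj_mono l hKH
    have hJ : cj l K ∈ Om := m.hyp.conj K hK l
    have hJr : (cj l K).subgroupOf (L ⊔ K) ∈ restrX Om (L ⊔ K) := ⟨_, mem_cov_of_le hJ hJH, rfl⟩
    have hzJ : zz (cj l K) = l * zz K * l⁻¹ := m.hyp.zz_cj hK l
    have h2 : l * zz K * l⁻¹ ∈ cj l K := by rw [← hzJ]; exact m.hyp.zz_mem hJ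
    by_cases h3 : pc (restrX Om (L ⊔ K)) (K.subgroupOf (L ⊔ K)) =
        pc (restrX Om (L ⊔ K)) ((cj l K).subgroupOf (L ⊔ K))
    · have h4 : (cj l K).subgroupOf (L ⊔ K) ≤ K.subgroupOf (L ⊔ K) := by
        have h5 := le_pc (Om := restrX Om (L ⊔ K)) (K := (cj l K).subgroupOf (L ⊔ K))
        rwa [← h3, h1] at h5
      have h5 : l * zz K * l⁻¹ ∈ K := h4 (show (⟨_, hJH h2⟩ : ↥(L ⊔ K)) ∈ (cj l K).subgroupOf (L ⊔ K) from h2)
      exact hlz (m.hyp.comm_zz hK (le_normalizer h5)).symm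
    · have h4 := pc_comm hKr hJr h3 (le_pc (show (⟨zz K, hKH (m.hyp.zz_mem hK)⟩ : ↥(L ⊔ K)) ∈
        K.subgroupOf (L ⊔ K) from m.hyp.zz_mem hK))
      have h5 := (mem_centralizer_iff.1 h4) _ (le_pc (show (⟨_, hJH h2⟩ : ↥(L ⊔ K)) ∈
        (cj l K).subgroupOf (L ⊔ K) from h2))
      exact hlz (congrArg Subtype.val h5).symm
  · -- the quasisimple piece lies in `L`
    set D' := pc (restrX Om (L ⊔ K)) (K.subgroupOf (L ⊔ K)) with hD'
    have hper : ⁅D'.map (L ⊔ K).subtype, D'.map (L ⊔ K).subtype⁆ = D'.map (L ⊔ K).subtype := by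
      rw [← map_commutator]
      congr 1
      have h2 := h1.commutator_eq_top
      have h3 := congrArg (Subgroup.map D'.subtype) h2
      rwa [_root_.commutator_def, map_commutator, ← MonoidHom.range_eq_map, range_subtype] at h3
    have hodd : ¬ 2 ∣ L.relIndex (L ⊔ K) := by
      haveI := m.normal
      rw [relIndex_sup_left]
      exact odd_relIndex m odd hK
    have h2 := le_of_perfect odd m.normal hper (map_subtype_le _) hodd
    apply hne
    refine eq_top_of_le m hK (le_trans ?_ h2)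
    have h3 := Subgroup.map_mono (f := (L ⊔ K).subtype) (le_pc (Om := restrX Om (L ⊔ K)) (K := K.subgroupOf (L ⊔ K)))
    rwa [map_subgroupOf_eq_of_le hKH] at h3

theorem odd_index (odd : OddStmt.{u}) (hne : L ≠ ⊤) : ¬ 2 ∣ L.index := by
  obtain ⟨K, hK⟩ := m.ne
  haveI := m.normal
  rw [← relIndex_top_right, ← sup_eq_top m odd hne hK, relIndex_sup_left]
  exact odd_relIndex m odd hK

/-- **the world of [Q2]** from `MinG Om L`, `L ≠ G` and (CC) -/
theorem exists_wd (odd : OddStmt.{u}) (hne : L ≠ ⊤)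
    (hCC : ∀ K ∈ Om, (∀ k ∈ K, ∃ o ∈ XX (zz K), k * o ∈ L) → XX (zz K) = ⊥) :
    ∃ φ : G →* Multiplicative (ZMod 3), Wd Om L φ := by
  haveI : Fact (Nat.Prime 3) := ⟨Nat.prime_three⟩
  haveI := m.normal
  obtain ⟨K, hK⟩ := m.ne
  have hT := isT m odd hne
  have htop := sup_eq_top m odd hne hK
  set X := XX (zz K) with hX
  set N : Subgroup G := L ⊔ X with hN
  have hKN : K ≤ normalizer (N : Set G) := by
    intro k hk
    rw [mem_normalizer_iff_cj, hN, cj_sup, cj_XX]
    have h1 : k * zz K * k⁻¹ = zz K := by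
      rw [m.hyp.comm_zz hK (le_normalizer hk), mul_inv_cancel_right]
    rw [h1]
    congr 1
    rw [← mem_normalizer_iff_cj, normalizer_eq_top]
    trivial
  have hLN : L ≤ normalizer (N : Set G) := le_sup_left.trans le_normalizer
  haveI hNn : N.Normal := by
    rw [← normalizer_eq_top_iff, ← top_le_iff, ← htop]
    exact sup_le hLN hKN
  have hNK : N ⊔ K = ⊤ := by
    rw [← top_le_iff, ← htop]
    exact sup_le (le_sup_left.trans le_sup_left) le_sup_right
  -- the index
  have h24 : (OO K).relIndex K = 24 := by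
    obtain ⟨e⟩ := hT K hK
    rw [← CoresH.card_X, ← Nat.card_congr e.toEquiv, relIndex, index]
    have h1 : (OO K).subgroupOf K = oddCore K := by
      rw [OO, subgroupOf, comap_map_eq_self_of_injective K.subtype_injective]
    rw [h1]
  have hOX : OO K ≤ N := (CloseFus.OO_le_XX m.hyp hK).trans le_sup_right
  have hidx : N.index ∣ 3 := by
    have h1 : N.index = N.relIndex K := by
      rw [← relIndex_top_right, ← hNK, relIndex_sup_left]
    have h2 : N.relIndex K ∣ 24 := by
      rw [← h24]; exact relIndex_dvd_of_le_left K hOX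
    have h3 : ¬ 2 ∣ N.relIndex K := fun h =>
      odd_relIndex m odd hK (h.trans (relIndex_dvd_of_le_left K le_sup_left))
    rw [h1]
    have h4 : (N.relIndex K).Coprime (2 ^ 3) := by
      rw [Nat.coprime_comm]
      exact Nat.Coprime.pow_left 3 ((Nat.Prime.coprime_iff_not_dvd Nat.prime_two).2 h3)
    exact h4.dvd_of_dvd_mul_left (by norm_num; exact h2)
  have hidx3 : N.index = 3 := by
    rcases (Nat.dvd_prime Nat.prime_three).1 hidx with h | h
    · exfalso
      rw [index_eq_one] at h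
      have hcov : ∀ k ∈ K, ∃ o ∈ XX (zz K), k * o ∈ L := by
        intro k _
        have h1 : k ∈ L ⊔ X := by rw [← hN, h]; trivial
        obtain ⟨l, hl, x, hx, rfl⟩ := mem_sup_of_normal_left.1 h1
        exact ⟨x⁻¹, inv_mem hx, by rwa [mul_inv_cancel_right]⟩
      have h1 := hCC K hK hcov
      apply hne
      refine eq_top_of_le m hK fun k hk => ?_
      obtain ⟨o, ho, hko⟩ := hcov k hk
      rw [h1, mem_bot] at ho
      rwa [ho, mul_one] at hko
    · exact h
  have hcard : Nat.card (G ⧸ N) = 3 := hidx3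
  have hcard' : Nat.card (Multiplicative (ZMod 3)) = 3 := by simp
  let e : G ⧸ N ≃* Multiplicative (ZMod 3) := mulEquivOfPrimeCardEq hcard hcard'
  have hker : ∀ g : G, (e.toMonoidHom.comp (QuotientGroup.mk' N)) g = 1 ↔ g ∈ N := by
    intro g
    rw [MonoidHom.comp_apply]
    change e (QuotientGroup.mk' N g) = 1 ↔ _
    rw [MulEquiv.map_eq_one_iff, QuotientGroup.mk'_apply, QuotientGroup.eq_one_iff]
  refine ⟨e.toMonoidHom.comp (QuotientGroup.mk' N), m.hyp, hT, m.ne, m.cls, m.normal, m.simple, m.nab, m.cent, ?_,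
    odd_index m odd hne, m.ind, ?_, ?_, ?_⟩
  · have h1 := OO_eq_bot_of_le (H := ⊤) odd m.normal m.simple m.nab m.cent le_top
    have h2 : pPrimeCore 2 G ≤ OO ⊤ := by
      haveI : (pPrimeCore 2 G).Normal := Lib.Cores.pPrimeCore_normal 2
      refine le_OO le_top ?_ (not_two_dvd_oddCore G)
      rw [normalizer_eq_top]
    rw [h1] at h2
    exact le_bot_iff.1 h2
  · intro g hg
    obtain ⟨b, hb⟩ := exists_pow_of_zpowers hg
    set y := (e.toMonoidHom.comp (QuotientGroup.mk' N)) g with hy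
    have h1 : orderOf y ∣ 2 ^ b := by
      apply orderOf_dvd_of_pow_eq_one
      rw [hy, ← map_pow, hb, map_one]
    have h2 : orderOf y ∣ 3 := (orderOf_dvd_natCard y).trans (dvd_of_eq hcard')
    have h3 : orderOf y ∣ 1 := by
      have : Nat.Coprime (2 ^ b) 3 := Nat.Coprime.pow_left b (by norm_num)
      rw [← this.gcd_eq_one]
      exact Nat.dvd_gcd h1 h2
    exact orderOf_eq_one_iff.1 (Nat.dvd_one.1 h3)
  · intro J hJ
    by_contra hall
    push Not at hall
    obtain ⟨g, hg⟩ := m.cls J hJ K hK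
    have h1 : K ≤ N := by
      rw [hg]
      rintro _ ⟨x, hx, rfl⟩
      exact hNn.conj_mem x ((hker x).1 (hall x hx)) g
    rw [sup_eq_left.2 h1] at hNK
    rw [hNK, index_top] at hidx3
    omega
  · intro J hJ x hx
    rw [hker]
    obtain ⟨g, hg⟩ := m.cls K hK J hJ
    rw [hg, m.hyp.zz_cj hK, ← cj_XX, mem_cj] at hx
    have h1 := hNn.conj_mem _ (le_sup_right (a := L) hx : _ ∈ N) g
    have h2 : g * (g⁻¹ * x * g) * g⁻¹ = x := by group
    rwa [h2] at h1

end

end Cfsg.Agent.Cit.QTwo.Red
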