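import Cfsg.Agent.Cit.CovES
import Cfsg.Agent.Cit.CorTwo
import Cfsg.Agent.Cit.CloCount
import Cfsg.Agent.Cit.OneBasic
import Cfsg.Prelude.Def_TwoFusion

/-!
# R18, leaf [Q2], part (II): `E(S)` is strongly closed (helper818; text helper149, bb #10944)

`S` a Sylow 2-subgroup such that every involution `zz J ∈ S`, `J ∈ Om`, is `zz K` for some `K ∈ Om(S)`, and
such that for `1 ≠ v ∈ E(S)` the members covered by `C(v)` are `X_v`-conjugate to members of `Om(S)`.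

* `In.exists_conj` : `zz J ∈ C(v)`, `1 ≠ v ∈ E(S)`: `zz J` is `X_v`-conjugate to `zz K`, `K ∈ Om(S)`;
* `In.stronglyClosed` : `E(S)` is strongly closed in `S`.
-/

set_option autoImplicit false
set_option linter.unusedSectionVars false
set_option linter.style.haveILetI false

namespace Cfsg.Agent.Cit.QTwo.Two

open Subgroup Cfsg Cfsg.Agent.Cit SubCent

variable {G : Type*} [Group G] {Om : Set (Subgroup G)}

/-- hypotheses of (II) on the Sylow 2-subgroup `S` -/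
structure In (Om : Set (Subgroup G)) (S : Sylow 2 G) : Prop where
  hyp : Hyp Om
  inv : ∀ J ∈ Om, zz J ∈ (S : Subgroup G) → ∃ K ∈ OmS Om (S : Subgroup G), zz K = zz J
  cover : ∀ v ∈ ES Om (S : Subgroup G), v ≠ 1 → ∀ J ∈ cov Om (centralizer {v}),
    ∃ x ∈ XX v, cj x J ∈ OmS Om (S : Subgroup G)

theorem isPGroup_zpowers_of_sq {t : G} (tt : t * t = 1) : IsPGroup 2 (zpowers t) := by
  rintro ⟨a, ha⟩
  obtain ⟨i, rfl⟩ := mem_zpowers_iff.1 ha
  refine ⟨1, Subtype.ext ?_⟩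
  show (t ^ i) ^ (2 ^ 1) = 1
  rw [pow_one, pow_two, ← (Commute.refl t).mul_zpow, tt, one_zpow]

namespace In

variable [Finite G] {S : Sylow 2 G} (h : In Om S)

include h

theorem inv' {R : Subgroup G} (hR : IsPGroup 2 R) (hle : DD Om (S : Subgroup G) ≤ R) {J : Subgroup G}
    (hJ : J ∈ Om) (hz : zz J ∈ R) : ∃ K ∈ OmS Om (S : Subgroup G), zz K = zz J := by
  obtain ⟨g, hg⟩ := exists_le_cj S hR
  have h1 : zz (cj g⁻¹ J) ∈ (S : Subgroup G) := by
    rw [h.hyp.zz_cj hJ]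
    exact mem_cj.1 (hg hz) |> fun h => by rwa [inv_inv]
  obtain ⟨K, hK, hKz⟩ := h.inv _ (h.hyp.conj J hJ g⁻¹) h1
  refine ⟨cj g K, ?_, ?_⟩
  · rw [← h.hyp.OmS_eq S (isPGroup_cj S.isPGroup' (g := g)) (hle.trans hg)]
    exact cj_mem_OmS h.hyp.conj g hK
  · rw [h.hyp.zz_cj hK.1, hKz, h.hyp.zz_cj hJ]
    group

/-- **(*)** -/
theorem exists_conj {v : G} (hv : v ∈ ES Om (S : Subgroup G)) (hv1 : v ≠ 1) {J : Subgroup G} (hJ : J ∈ Om)
    (hc : zz J * v = v * zz J) : ∃ K ∈ OmS Om (S : Subgroup G), ∃ x ∈ XX v, zz J = x * zz K * x⁻¹ := by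
  have hDv : DD Om (S : Subgroup G) ≤ centralizer {v} :=
    (DD_le_centralizer_ES h.hyp S.isPGroup').trans (centralizer_le (Set.singleton_subset_iff.2 hv))
  obtain ⟨T, hT, hDT⟩ := Cit.exists_syl_ge (S.isPGroup'.to_le DD_le) hDv
  have hzC : zz J ∈ centralizer ({v} : Set G) := mem_centralizer_singleton_iff.2 hc
  obtain ⟨T', hT', hzT'⟩ := Cit.exists_syl_ge (P := zpowers (zz J)) (C := centralizer {v})
    (isPGroup_zpowers_of_sq (h.hyp.zz_mul hJ)) (zpowers_le.2 hzC)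
  obtain ⟨c, hc', hcT⟩ := hT'.exists_conj hT
  -- `c zz J c⁻¹ ∈ T`
  have h1 : zz (cj c J) ∈ T := by
    rw [h.hyp.zz_cj hJ, ← hcT]
    exact conj_mem_cj (hzT' (mem_zpowers _))
  obtain ⟨K, hK, hKz⟩ := h.inv' hT.2.1 hDT (h.hyp.conj J hJ c) h1
  -- the member `K₁ = c⁻¹ K c`
  have hci : c⁻¹ ∈ centralizer ({v} : Set G) := inv_mem hc'
  have h2 : cj c⁻¹ K ∈ cov Om (centralizer {v}) :=
    cj_mem_cov_of_mem h.hyp.conj (le_normalizer hci) (CovES.mem_cov_of_mem_ES h.hyp S.isPGroup' hK hv)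
  obtain ⟨x, hx, h5⟩ := h.cover v hv hv1 _ h2
  refine ⟨_, h5, x⁻¹, inv_mem hx, ?_⟩
  rw [h.hyp.zz_cj h2.1, h.hyp.zz_cj hK.1, hKz, h.hyp.zz_cj hJ]
  group

/-- `zz J` lies in `E(S) X_v` -/
theorem zz_mem_sup {v : G} (hv : v ∈ ES Om (S : Subgroup G)) (hv1 : v ≠ 1) {J : Subgroup G} (hJ : J ∈ Om)
    (hc : zz J * v = v * zz J) : ∃ K ∈ OmS Om (S : Subgroup G), ∃ k ∈ XX v, zz J = zz K * k := by
  obtain ⟨K, hK, x, hx, hJx⟩ := h.exists_conj hv hv1 hJ hc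
  refine ⟨K, hK, (zz K)⁻¹ * x * zz K * x⁻¹, ?_, ?_⟩
  · have h1 : (zz K)⁻¹ ∈ centralizer ({v} : Set G) := by
      apply inv_mem
      rw [mem_centralizer_singleton_iff]
      exact ES_comm h.hyp S.isPGroup' (zz_mem_ES hK) hv
    have h2 := (mem_normalizer_iff.1 (centralizer_le_normalizer_XX v h1) x).1 hx
    rw [inv_inv] at h2
    exact mul_mem h2 (inv_mem hx)
  · rw [hJx]; group

/-- the Sylow 2-subgroups of `C(g e g⁻¹)` -/
theorem exists_frame {e : G} (he : e ∈ ES Om (S : Subgroup G)) (g : G) {T : Subgroup G}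
    (hT : Syl T (centralizer {g * e * g⁻¹})) : ∃ w : G, w * e * w⁻¹ = g * e * g⁻¹ ∧
      (∀ K ∈ OmS Om (S : Subgroup G), w * zz K * w⁻¹ ∈ T) ∧
      (∀ J ∈ Om, zz J ∈ T → ∃ K ∈ OmS Om (S : Subgroup G), zz J = w * zz K * w⁻¹) := by
  have hDe : DD Om (S : Subgroup G) ≤ centralizer {e} :=
    (DD_le_centralizer_ES h.hyp S.isPGroup').trans (centralizer_le (Set.singleton_subset_iff.2 he))
  obtain ⟨T₀, hT₀, hDT⟩ := Cit.exists_syl_ge (S.isPGroup'.to_le DD_le) hDe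
  have h1 : Syl (cj g T₀) (centralizer {g * e * g⁻¹}) := by
    have := hT₀.cj g
    rwa [cj_centralizer] at this
  obtain ⟨u, hu, huT⟩ := h1.exists_conj hT
  have hu' := mem_centralizer_singleton_iff.1 hu
  rw [← cj_mul] at huT
  refine ⟨u * g, ?_, ?_, ?_⟩
  · calc u * g * e * (u * g)⁻¹ = u * (g * e * g⁻¹) * u⁻¹ := by group
      _ = g * e * g⁻¹ := by rw [hu', mul_inv_cancel_right]
  · intro K hK
    rw [← huT]
    exact conj_mem_cj (hDT (inf_le_DD hK (h.hyp.zz_mem_inf S.isPGroup' hK)))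
  · intro J hJ hJT
    rw [← huT, mem_cj] at hJT
    have h2 : zz (cj (u * g)⁻¹ J) ∈ T₀ := by
      rw [h.hyp.zz_cj hJ, inv_inv]
      exact hJT
    obtain ⟨K, hK, hKz⟩ := h.inv' hT₀.2.1 hDT (h.hyp.conj J hJ (u * g)⁻¹) h2
    refine ⟨K, hK, ?_⟩
    rw [hKz, h.hyp.zz_cj hJ]
    group

/-- case 1: `s = g e g⁻¹` commutes with some `zz K`, `K ∈ Om(S)` -/
theorem mem_of_comm {e : G} (he : e ∈ ES Om (S : Subgroup G)) (g : G) (hs : g * e * g⁻¹ ∈ (S : Subgroup G))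
    {K₁ : Subgroup G} (hK₁ : K₁ ∈ OmS Om (S : Subgroup G)) (hc : zz K₁ * (g * e * g⁻¹) = g * e * g⁻¹ * zz K₁) :
    g * e * g⁻¹ ∈ ES Om (S : Subgroup G) := by
  have hz1 : zz K₁ ∈ ES Om (S : Subgroup G) := zz_mem_ES hK₁
  obtain ⟨T, hT, hzT⟩ := Cit.exists_syl_ge (P := zpowers (zz K₁)) (C := centralizer {g * e * g⁻¹})
    (isPGroup_zpowers_of_sq (h.hyp.zz_mul hK₁.1)) (zpowers_le.2 (mem_centralizer_singleton_iff.2 hc))
  obtain ⟨w, hw, hwT, hTw⟩ := h.exists_frame he g hT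
  obtain ⟨K₀, hK₀, hK₀z⟩ := hTw K₁ hK₁.1 (hzT (mem_zpowers _))
  have key : cj w (ES Om (S : Subgroup G)) ≤ ES Om (S : Subgroup G) ⊔ XX (zz K₁) := by
    rw [cj_ES h.hyp, ES_le_iff]
    intro J hJ
    rw [OmS_cj h.hyp.conj] at hJ
    obtain ⟨K, hK, rfl⟩ := hJ
    have h1 : zz (cj w K) * zz K₁ = zz K₁ * zz (cj w K) := by
      rw [hK₀z, h.hyp.zz_cj hK.1]
      have h2 := ES_comm h.hyp S.isPGroup' (zz_mem_ES hK) (zz_mem_ES hK₀)
      calc w * zz K * w⁻¹ * (w * zz K₀ * w⁻¹) = w * (zz K * zz K₀) * w⁻¹ := by group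
        _ = w * (zz K₀ * zz K) * w⁻¹ := by rw [h2]
        _ = w * zz K₀ * w⁻¹ * (w * zz K * w⁻¹) := by group
    obtain ⟨K', hK', k, hk, hkk⟩ := h.zz_mem_sup hz1 (h.hyp.zz_ne hK₁.1) (h.hyp.conj K hK.1 w) h1
    rw [hkk]
    exact mul_mem (mem_sup_left (zz_mem_ES hK')) (mem_sup_right hk)
  have h1 : g * e * g⁻¹ ∈ ES Om (S : Subgroup G) ⊔ XX (zz K₁) := by
    rw [← hw]
    exact key (conj_mem_cj he)
  have hn : ES Om (S : Subgroup G) ≤ normalizer (XX (zz K₁) : Set G) := by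
    refine le_trans ?_ (centralizer_le_normalizer_XX _)
    intro a ha
    exact mem_centralizer_singleton_iff.2 (ES_comm h.hyp S.isPGroup' ha hz1)
  obtain ⟨a, ha, k, hk, hak⟩ := OneBasic.exists_mul_of_mem_sup hn h1
  have hkS : k ∈ (S : Subgroup G) := by
    have h2 : k = a⁻¹ * (g * e * g⁻¹) := by rw [hak]; group
    rw [h2]
    exact mul_mem (inv_mem (ES_le h.hyp S.isPGroup' ha)) hs
  have hk1 := eq_one_of_mem_odd S.isPGroup' (odd_XX (zz K₁)) hkS hk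
  rw [hak, hk1, mul_one]
  exact ha

theorem exists_xy {K : Subgroup G} (hK : K ∈ OmS Om (S : Subgroup G)) : ∃ x ∈ K ⊓ (S : Subgroup G),
    ∃ y ∈ K ⊓ (S : Subgroup G), x * x = zz K ∧ y * y = zz K ∧ x * y * x⁻¹ = y⁻¹ := by
  obtain ⟨c, v, n, hc⟩ := h.hyp.exists_gq hK.1 (syl_inf S.isPGroup' hK)
  refine ⟨v, hc.v_mem, c ^ 2 ^ n, pow_mem hc.c_mem _, hc.v_sq, ?_, ?_⟩
  · rw [← pow_two, ← pow_mul, ← pow_succ]
    exact hc.z_eq
  · rw [← conj_pow, hc.conj, inv_pow]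

/-- case 2: `s = g e g⁻¹` commutes with no `zz K`, `K ∈ Om(S)` -/
theorem exists_comm {e : G} (he : e ∈ ES Om (S : Subgroup G)) (he1 : e ≠ 1) (g : G)
    (hs : g * e * g⁻¹ ∈ (S : Subgroup G)) :
    ∃ K ∈ OmS Om (S : Subgroup G), zz K * (g * e * g⁻¹) = g * e * g⁻¹ * zz K := by
  by_contra hno
  push Not at hno
  set s := g * e * g⁻¹ with hsdef
  have hss : s * s = 1 := by
    have h1 := ES_sq h.hyp S.isPGroup' he
    calc s * s = g * (e * e) * g⁻¹ := by rw [hsdef]; group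
      _ = 1 := by rw [h1]; group
  have hsi : s⁻¹ = s := inv_eq_of_mul_eq_one_left hss
  have hsn : s ∈ normalizer ((S : Subgroup G) : Set G) := le_normalizer hs
  have hcs : ∀ K ∈ OmS Om (S : Subgroup G), cj s K ∈ OmS Om (S : Subgroup G) :=
    fun K hK => cj_mem_OmS' h.hyp.conj hsn hK
  have hcc : ∀ K : Subgroup G, cj s (cj s K) = K := fun K => by rw [← cj_mul, hss, cj_one]
  have hmove : ∀ K ∈ OmS Om (S : Subgroup G), s * zz K * s⁻¹ ≠ zz K := by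
    intro K hK h1
    rw [mul_inv_eq_iff_eq_mul] at h1
    exact hno K hK h1.symm
  have hne : ∀ K ∈ OmS Om (S : Subgroup G), cj s K ≠ K := by
    intro K hK h1
    apply hmove K hK
    rw [← h.hyp.zz_cj hK.1, h1]
  -- representatives
  obtain ⟨f, hf⟩ := Countable.exists_injective_nat (Subgroup G)
  let κ := {K : Subgroup G // K ∈ OmS Om (S : Subgroup G) ∧ f K < f (cj s K)}
  have hdiff : ∀ a b : κ, a ≠ b → (a : Subgroup G) ≠ b ∧ (a : Subgroup G) ≠ cj s b ∧ cj s (a : Subgroup G) ≠ b ∧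
      cj s (a : Subgroup G) ≠ cj s b := by
    intro a b hab
    have h1 : (a : Subgroup G) ≠ b := fun h2 => hab (Subtype.ext h2)
    have h2 : (a : Subgroup G) ≠ cj s b := by
      intro h2
      have h3 := a.2.2
      have h4 := b.2.2
      rw [h2, hcc] at h3
      omega
    refine ⟨h1, h2, ?_, fun h3 => h1 (cj_inj.1 h3)⟩
    intro h3
    apply h2
    rw [← h3, hcc]
  have hXY := fun a : κ => h.exists_xy a.2.1
  choose x' hx' y' hy' hxx' hyy' hxy' using hXY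
  -- conjugation by `s`
  have hσmem : ∀ (a : κ) (q : G), q ∈ (a : Subgroup G) ⊓ (S : Subgroup G) →
      s * q * s⁻¹ ∈ cj s (a : Subgroup G) ⊓ (S : Subgroup G) := by
    intro a q hq
    exact mem_inf.2 ⟨conj_mem_cj (mem_inf.1 hq).1, (S : Subgroup G).mul_mem
      ((S : Subgroup G).mul_mem hs (mem_inf.1 hq).2) ((S : Subgroup G).inv_mem hs)⟩
  have hcomm1 : ∀ (a : κ) (q r : G), q ∈ (a : Subgroup G) ⊓ (S : Subgroup G) →
      r ∈ (a : Subgroup G) ⊓ (S : Subgroup G) → q * (s * r * s⁻¹) = s * r * s⁻¹ * q := by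
    intro a q r hq hr
    exact h.hyp.comm S.isPGroup' a.2.1 (hcs _ a.2.1) (hne _ a.2.1).symm hq (hσmem a r hr)
  have hσσ : ∀ q : G, s * (s * q * s⁻¹) * s⁻¹ = q := by
    intro q
    calc s * (s * q * s⁻¹) * s⁻¹ = (s * s) * q * (s * s)⁻¹ := by group
      _ = q := by rw [hss]; group
  let V : G → G := fun q => q * (s * q * s⁻¹)
  have hV : ∀ q, V q = q * (s * q * s⁻¹) := fun q => rfl
  have hVs : ∀ (a : κ) (q : G), q ∈ (a : Subgroup G) ⊓ (S : Subgroup G) → V q * s = s * V q := by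
    intro a q hq
    have h1 : s * V q * s⁻¹ = V q := by
      calc s * V q * s⁻¹ = (s * q * s⁻¹) * (s * (s * q * s⁻¹) * s⁻¹) := by rw [hV]; group
        _ = (s * q * s⁻¹) * q := by rw [hσσ]
        _ = V q := (hcomm1 a q q hq hq).symm
    rw [mul_inv_eq_iff_eq_mul] at h1
    exact h1.symm
  have hVS : ∀ (a : κ) (q : G), q ∈ (a : Subgroup G) ⊓ (S : Subgroup G) → V q ∈ (S : Subgroup G) :=
    fun a q hq => (S : Subgroup G).mul_mem (mem_inf.1 hq).2 (mem_inf.1 (hσmem a q hq)).2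
  have hVmul : ∀ (a : κ) (q r : G), q ∈ (a : Subgroup G) ⊓ (S : Subgroup G) →
      r ∈ (a : Subgroup G) ⊓ (S : Subgroup G) → V q * V r = V (q * r) := by
    intro a q r hq hr
    calc V q * V r = q * ((s * q * s⁻¹) * r) * (s * r * s⁻¹) := by rw [hV, hV]; group
      _ = q * (r * (s * q * s⁻¹)) * (s * r * s⁻¹) := by rw [hcomm1 a r q hr hq]
      _ = V (q * r) := by rw [hV]; group
  have hVone : V 1 = 1 := by rw [hV]; group
  have hVinv : ∀ (a : κ) (q : G), q ∈ (a : Subgroup G) ⊓ (S : Subgroup G) → V q⁻¹ = (V q)⁻¹ := by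
    intro a q hq
    apply eq_inv_of_mul_eq_one_left
    rw [hVmul a _ _ (inv_mem hq) hq, inv_mul_cancel, hVone]
  have hVV : ∀ (a b : κ) (q r : G), a ≠ b → q ∈ (a : Subgroup G) ⊓ (S : Subgroup G) →
      r ∈ (b : Subgroup G) ⊓ (S : Subgroup G) → V q * V r = V r * V q := by
    intro a b q r hab hq hr
    obtain ⟨d1, d2, d3, d4⟩ := hdiff a b hab
    have e1 : q * r = r * q := h.hyp.comm S.isPGroup' a.2.1 b.2.1 d1 hq hr
    have e2 : q * (s * r * s⁻¹) = (s * r * s⁻¹) * q :=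
      h.hyp.comm S.isPGroup' a.2.1 (hcs _ b.2.1) d2 hq (hσmem b r hr)
    have e3 : (s * q * s⁻¹) * r = r * (s * q * s⁻¹) :=
      h.hyp.comm S.isPGroup' (hcs _ a.2.1) b.2.1 d3 (hσmem a q hq) hr
    have e4 : (s * q * s⁻¹) * (s * r * s⁻¹) = (s * r * s⁻¹) * (s * q * s⁻¹) :=
      h.hyp.comm S.isPGroup' (hcs _ a.2.1) (hcs _ b.2.1) d4 (hσmem a q hq) (hσmem b r hr)
    exact ((show Commute q r from e1).mul_right e2).mul_left ((show Commute _ r from e3).mul_right e4)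
  have hzm : ∀ a : κ, zz (a : Subgroup G) ∈ (a : Subgroup G) ⊓ (S : Subgroup G) :=
    fun a => h.hyp.zz_mem_inf S.isPGroup' a.2.1
  -- the Sylow 2-subgroup `T` of `C(s)`
  obtain ⟨T, hT, hST⟩ := Cit.exists_syl_ge (P := (S : Subgroup G) ⊓ centralizer {s}) (C := centralizer {s})
    (S.isPGroup'.to_le inf_le_left) inf_le_right
  obtain ⟨w, hw, hwT, hTw⟩ := h.exists_frame he g hT
  have hVT : ∀ (a : κ) (q : G), q ∈ (a : Subgroup G) ⊓ (S : Subgroup G) → V q ∈ T := fun a q hq =>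
    hST (mem_inf.2 ⟨hVS a q hq, mem_centralizer_singleton_iff.2 (hVs a q hq)⟩)
  set Y : Set G := {y | y ∈ T ∧ ∃ J ∈ Om, y = zz J} with hY
  have hYconj : ∀ t ∈ T, ∀ y ∈ Y, t * y * t⁻¹ ∈ Y := by
    rintro t ht y ⟨hyT, J, hJ, rfl⟩
    exact ⟨T.mul_mem (T.mul_mem ht hyT) (T.inv_mem ht), cj t J, h.hyp.conj J hJ t, (h.hyp.zz_cj hJ t).symm⟩
  -- `Om(S)` is not empty
  have hOm : (OmS Om (S : Subgroup G)).Nonempty := by
    rw [Set.nonempty_iff_ne_empty]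
    intro h1
    have h2 : ES Om (S : Subgroup G) = ⊥ := by rw [ES, h1, Set.image_empty, Subgroup.closure_empty]
    rw [h2, mem_bot] at he
    exact he1 he
  have hcase : ∀ K ∈ OmS Om (S : Subgroup G), f K < f (cj s K) ∨ f (cj s K) < f K := by
    intro K hK
    rcases lt_trichotomy (f K) (f (cj s K)) with h1 | h1 | h1
    · exact Or.inl h1
    · exact absurd (hf h1).symm (hne K hK)
    · exact Or.inr h1
  have hκne : Nonempty κ := by
    obtain ⟨K, hK⟩ := hOm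
    rcases hcase K hK with h1 | h1
    · exact ⟨⟨K, hK, h1⟩⟩
    · exact ⟨⟨cj s K, hcs K hK, by rw [hcc]; exact h1⟩⟩
  have hcard : Y.ncard ≤ 2 * Nat.card κ := by
    have h1 : Y ⊆ (fun K : Subgroup G => w * zz K * w⁻¹) '' OmS Om (S : Subgroup G) := by
      rintro y ⟨hyT, J, hJ, rfl⟩
      obtain ⟨K, hK, hKz⟩ := hTw J hJ hyT
      exact ⟨K, hK, hKz.symm⟩
    have h2 : OmS Om (S : Subgroup G) ⊆
        {K | K ∈ OmS Om (S : Subgroup G) ∧ f K < f (cj s K)} ∪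
          cj s '' {K | K ∈ OmS Om (S : Subgroup G) ∧ f K < f (cj s K)} := by
      intro K hK
      rcases hcase K hK with h1 | h1
      · exact Or.inl ⟨hK, h1⟩
      · exact Or.inr ⟨cj s K, ⟨hcs K hK, by rw [hcc]; exact h1⟩, hcc K⟩
    calc Y.ncard ≤ _ := Set.ncard_le_ncard h1 (Set.toFinite _)
      _ ≤ (OmS Om (S : Subgroup G)).ncard := Set.ncard_image_le (Set.toFinite _)
      _ ≤ _ := Set.ncard_le_ncard h2 (Set.toFinite _)
      _ ≤ _ := Set.ncard_union_le _ _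
      _ ≤ Nat.card κ + Nat.card κ := by
          refine Nat.add_le_add (le_of_eq ?_) ((Set.ncard_image_le (Set.toFinite _)).trans (le_of_eq ?_))
          · rfl
          · rfl
      _ = 2 * Nat.card κ := by ring
  have hYne : Y.Nonempty := by
    obtain ⟨K, hK⟩ := hOm
    exact ⟨w * zz K * w⁻¹, hwT K hK, cj w K, h.hyp.conj K hK.1 w, (h.hyp.zz_cj hK.1 w).symm⟩
  obtain ⟨z, hz, hz1, q, hq, hzq⟩ := CloCount.exists_commute (κ := κ) (fun a => V (x' a)) (fun a => V (y' a))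
    (fun a => V (zz (a : Subgroup G))) (Set.toFinite Y) hYne hcard
    (fun a => by rw [hVmul a _ _ (hx' a) (hx' a), hxx'])
    (fun a => by rw [hVmul a _ _ (hy' a) (hy' a), hyy'])
    (fun a => by rw [hVmul a _ _ (hzm a) (hzm a), h.hyp.zz_mul a.2.1.1, hVone])
    (fun a h1 => by
      apply hmove _ a.2.1
      rw [hV] at h1
      have h2 := eq_inv_of_mul_eq_one_right h1
      rw [h2, h.hyp.zz_inv a.2.1.1])
    (fun a => by
      rw [← hVinv a _ (hx' a), hVmul a _ _ (hx' a) (hy' a),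
        hVmul a _ _ (mul_mem (hx' a) (hy' a)) (inv_mem (hx' a)), hxy', hVinv a _ (hy' a)])
    (fun a b hab => hVV a b _ _ hab (hx' a) (hx' b)) (fun a b hab => hVV a b _ _ hab (hx' a) (hy' b))
    (fun a q hq => hYconj _ (hVT a _ (hx' a)) q hq) (fun a q hq => hYconj _ (hVT a _ (hy' a)) q hq)
  -- `z ∈ E(S)` commutes with `s`
  have hzE : z ∈ ES Om (S : Subgroup G) ⊓ centralizer {s} := by
    refine (closure_le _).2 ?_ hz
    rintro _ ⟨a, rfl⟩
    refine mem_inf.2 ⟨?_, mem_centralizer_singleton_iff.2 (hVs a _ (hzm a))⟩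
    show zz (a : Subgroup G) * (s * zz (a : Subgroup G) * s⁻¹) ∈ ES Om (S : Subgroup G)
    rw [← h.hyp.zz_cj a.2.1.1]
    exact mul_mem (zz_mem_ES a.2.1) (zz_mem_ES (hcs _ a.2.1))
  obtain ⟨hzE, hzs⟩ := mem_inf.1 hzE
  have hzs' : z * s = s * z := mem_centralizer_singleton_iff.1 hzs
  obtain ⟨hqT, J, hJ, rfl⟩ := hq
  obtain ⟨K, hK, k, hk, hJk⟩ := h.zz_mem_sup hzE hz1 hJ hzq.symm
  have hqs : zz J * s = s * zz J := mem_centralizer_singleton_iff.1 (hT.1 hqT)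
  -- `[s, zz K] ∈ X_z`
  have hsz : s ∈ centralizer ({z} : Set G) := mem_centralizer_singleton_iff.2 hzs'.symm
  have h1 : s * k * s⁻¹ ∈ XX z := (mem_normalizer_iff.1 (centralizer_le_normalizer_XX z hsz) k).1 hk
  have h2 : (s * zz K * s⁻¹) * (s * k * s⁻¹) = zz K * k := by
    calc (s * zz K * s⁻¹) * (s * k * s⁻¹) = s * (zz K * k) * s⁻¹ := by group
      _ = s * zz J * s⁻¹ := by rw [hJk]
      _ = zz J := by rw [← hqs, mul_inv_cancel_right]
      _ = zz K * k := hJk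
  have h3 : (zz K)⁻¹ * (s * zz K * s⁻¹) = k * (s * k * s⁻¹)⁻¹ := by
    rw [inv_mul_eq_iff_eq_mul, ← mul_assoc, ← h2]
    group
  have h4 : (zz K)⁻¹ * (s * zz K * s⁻¹) = 1 := by
    refine eq_one_of_mem_odd S.isPGroup' (odd_XX z) ?_ (by rw [h3]; exact mul_mem hk (inv_mem h1))
    have h5 : zz K ∈ (S : Subgroup G) := (h.hyp.zz_mem_inf S.isPGroup' hK).2
    exact (S : Subgroup G).mul_mem ((S : Subgroup G).inv_mem h5)
      ((S : Subgroup G).mul_mem ((S : Subgroup G).mul_mem hs h5) ((S : Subgroup G).inv_mem hs))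
  rw [inv_mul_eq_one] at h4
  exact hmove K hK h4.symm

/-- **(II), the claim.** -/
theorem stronglyClosed : IsStronglyClosed (ES Om (S : Subgroup G)) (S : Subgroup G) := by
  refine ⟨ES_le h.hyp S.isPGroup', fun e he g hs => ?_⟩
  by_cases he1 : e = 1
  · rw [he1, mul_one, mul_inv_cancel]
    exact one_mem _
  · obtain ⟨K, hK, hc⟩ := h.exists_comm he he1 g hs
    exact h.mem_of_comm he g hs hK hc

end In

end Cfsg.Agent.Cit.QTwo.Two
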