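import Cfsg.Agent.Cit.QTwo.Two
import Cfsg.Agent.Cit.CloEnd
import Cfsg.Agent.Cit.Parab

/-!
# R18, leaf [Q2], part (II): the end (helper818; text helper149, bb #10944)

`L` a simple normal subgroup of odd index of `G`, `C_G(L) = 1`; `In Om S`, `Om ≠ ∅`: contradiction, by
Goldschmidt's theorem (S1169) and Bender's theorem for `L`.
-/

set_option autoImplicit false
set_option linter.unusedSectionVars false
set_option linter.style.haveILetI false

namespace Cfsg.Agent.Cit.QTwo.Two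

open Subgroup Cfsg Cfsg.Agent.Cit SubCent

/-- S1169 for the group `L` -/
def H1169 (L : Type*) [Group L] : Prop := ∀ (S : Sylow 2 L) (A : Subgroup L), A ≠ ⊥ → IsMulCommutative A →
  IsStronglyClosed A (S : Subgroup L) → IsMulCommutative (S : Subgroup L) ∨ ∃ H : Subgroup L, IsStronglyEmbedded H

variable {G : Type*} [Group G] {Om : Set (Subgroup G)}

/-- a 2-subgroup lies in a normal subgroup of odd index -/
theorem le_of_odd_index [Finite G] {L P : Subgroup G} (hL : L.Normal) (hi : ¬ 2 ∣ L.index) (hP : IsPGroup 2 P) :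
    P ≤ L := by
  intro x hx
  obtain ⟨k, hk⟩ := hP ⟨x, hx⟩
  have hk' : x ^ 2 ^ k = 1 := congrArg Subtype.val hk
  rw [← QuotientGroup.eq_one_iff (N := L)]
  have h1 : orderOf (x : G ⧸ L) ∣ 2 ^ k := by
    apply orderOf_dvd_of_pow_eq_one
    rw [← QuotientGroup.mk_pow, hk', QuotientGroup.mk_one]
  have h2 : orderOf (x : G ⧸ L) ∣ L.index := orderOf_dvd_natCard _
  have h3 : Nat.Coprime (2 ^ k) L.index :=
    Nat.Coprime.pow_left k ((Nat.Prime.coprime_iff_not_dvd Nat.prime_two).2 hi)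
  exact orderOf_eq_one_iff.1 (Nat.eq_one_of_dvd_coprimes h3 h1 h2)

namespace In

variable [Finite G] {S : Sylow 2 G}

/-- `|C| = 1` is impossible: all the involutions `zz K`, `K ∈ Om(S)`, equal -/
theorem false_of_one (h : In Om S) {L : Subgroup G} (hLn : L.Normal) (hLs : IsSimpleGroup L)
    (hLi : ¬ 2 ∣ L.index) (hLc : centralizer (L : Set G) = ⊥) {K : Subgroup G}
    (hK : K ∈ OmS Om (S : Subgroup G)) (h1 : ∀ J ∈ OmS Om (S : Subgroup G), zz J = zz K) : False := by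
  have hzE : zz K ∈ ES Om (S : Subgroup G) := zz_mem_ES hK
  obtain ⟨N, hN, hNo, hNz⟩ := Parab.zstar (z := zz K) (h.hyp.orderOf_zz hK.1) (by
    intro g hg
    have h2 : zz (cj g K) * zz K = zz K * zz (cj g K) := by
      rw [h.hyp.zz_cj hK.1]
      exact hg
    obtain ⟨J, hJ, x, hx, hJx⟩ := h.exists_conj hzE (h.hyp.zz_ne hK.1) (h.hyp.conj K hK.1 g) h2
    rw [h.hyp.zz_cj hK.1, h1 J hJ] at hJx
    rw [hJx]
    have h3 : x * zz K = zz K * x := mem_centralizer_singleton_iff.1 (XX_le _ hx)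
    rw [h3, mul_inv_cancel_right])
  have hzL : zz K ∈ L := le_of_odd_index hLn hLi S.isPGroup' (h.hyp.zz_mem_inf S.isPGroup' hK).2
  -- `N ⊓ L = 1`
  have h2 : N ⊓ L = ⊥ := by
    have h3 : (N.subgroupOf L).Normal := hN.comap _
    rcases h3.eq_bot_or_eq_top with h4 | h4
    · rw [eq_bot_iff]
      rintro x ⟨hxN, hxL⟩
      have h5 : (⟨x, hxL⟩ : L) ∈ N.subgroupOf L := hxN
      rw [h4, mem_bot] at h5
      exact congrArg Subtype.val h5
    · exfalso
      rw [subgroupOf_eq_top] at h4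
      have h5 : orderOf (⟨zz K, h4 hzL⟩ : N) ∣ Nat.card N := orderOf_dvd_natCard _
      rw [Subgroup.orderOf_mk, h.hyp.orderOf_zz hK.1] at h5
      rw [← Nat.not_even_iff_odd, even_iff_two_dvd] at hNo
      exact hNo h5
  -- `zz K` centralises `L`
  have h3 : zz K ∈ centralizer (L : Set G) := by
    rw [mem_centralizer_iff]
    intro g hg
    have h4 : zz K * g * (zz K)⁻¹ * g⁻¹ ∈ N ⊓ L :=
      mem_inf.2 ⟨hNz g, L.mul_mem (hLn.conj_mem g hg (zz K)) (L.inv_mem hg)⟩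
    rw [h2, mem_bot, mul_inv_eq_one, mul_inv_eq_iff_eq_mul] at h4
    exact h4.symm
  rw [hLc, mem_bot] at h3
  exact h.hyp.zz_ne hK.1 h3

/-- **(II)** -/
theorem false_of (h : In Om S) {L : Subgroup G} (hLn : L.Normal) (hLs : IsSimpleGroup L)
    (hLi : ¬ 2 ∣ L.index) (hLc : centralizer (L : Set G) = ⊥) (hne : Om.Nonempty) (h1169 : H1169 ↥L)
    (hB : CloEnd.Bend ↥L) : False := by
  obtain ⟨K, hK⟩ := h.hyp.OmS_nonempty S hne
  by_cases h1 : ∀ J ∈ OmS Om (S : Subgroup G), zz J = zz K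
  · exact h.false_of_one hLn hLs hLi hLc hK h1
  push Not at h1
  obtain ⟨J, hJ, hJK⟩ := h1
  have hne' : J ≠ K := fun h2 => hJK (by rw [h2])
  have hSL : (S : Subgroup G) ≤ L := le_of_odd_index hLn hLi S.isPGroup'
  have hEL : ES Om (S : Subgroup G) ≤ L := (ES_le h.hyp S.isPGroup').trans hSL
  -- two commuting nonabelian subgroups
  have key : ∀ K ∈ OmS Om (S : Subgroup G), ∃ x ∈ (K ⊓ (S : Subgroup G)).subgroupOf L,
      ∃ y ∈ (K ⊓ (S : Subgroup G)).subgroupOf L, x * y ≠ y * x := by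
    intro K hK
    obtain ⟨c, v, n, hq⟩ := h.hyp.exists_gq hK.1 (syl_inf S.isPGroup' hK)
    have hv : v ∈ K ⊓ (S : Subgroup G) := hq.v_mem
    have hc : c ∈ K ⊓ (S : Subgroup G) := hq.c_mem
    exact ⟨⟨v, hSL (mem_inf.1 hv).2⟩, hv, ⟨c, hSL (mem_inf.1 hc).2⟩, hc,
      fun h2 => hq.not_comm (congrArg Subtype.val h2)⟩
  have hTwo : CloEnd.Two ↥L := by
    refine ⟨(S : Subgroup G).subgroupOf L, (K ⊓ (S : Subgroup G)).subgroupOf L,
      (J ⊓ (S : Subgroup G)).subgroupOf L, S.isPGroup'.comap_subtype, ?_, ?_, ?_, key K hK, key J hJ⟩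
    · exact fun x hx => (mem_inf.1 (mem_subgroupOf.1 hx)).2
    · exact fun x hx => (mem_inf.1 (mem_subgroupOf.1 hx)).2
    · intro x hx y hy
      exact Subtype.ext (h.hyp.comm S.isPGroup' hK hJ hne'.symm (mem_subgroupOf.1 hx) (mem_subgroupOf.1 hy))
  -- `E(S)` is strongly closed in `S` with respect to `L`
  have hsc := h.stronglyClosed
  have e1 : (ES Om (S : Subgroup G)).subgroupOf L ≠ ⊥ := by
    intro h2
    have h3 : (⟨zz K, hEL (zz_mem_ES hK)⟩ : L) ∈ (ES Om (S : Subgroup G)).subgroupOf L := zz_mem_ES hK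
    rw [h2, mem_bot] at h3
    exact h.hyp.zz_ne hK.1 (congrArg Subtype.val h3)
  have e2 : IsMulCommutative ((ES Om (S : Subgroup G)).subgroupOf L) := by
    refine ⟨⟨fun a b => Subtype.ext (Subtype.ext ?_)⟩⟩
    exact ES_comm h.hyp S.isPGroup' (mem_subgroupOf.1 a.2) (mem_subgroupOf.1 b.2)
  have e3 : IsStronglyClosed ((ES Om (S : Subgroup G)).subgroupOf L) (S.subtype hSL : Subgroup L) :=
    ⟨fun x hx => hsc.1 hx, fun x hx g hg => hsc.2 x hx g hg⟩
  rcases h1169 (S.subtype hSL) _ e1 e2 e3 with h2 | ⟨H, hH⟩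
  · obtain ⟨x, hx, y, hy, hxy⟩ := key K hK
    apply hxy
    have h3 := h2.is_comm.comm ⟨x, (mem_inf.1 (mem_subgroupOf.1 hx)).2⟩ ⟨y, (mem_inf.1 (mem_subgroupOf.1 hy)).2⟩
    exact congrArg Subtype.val h3
  · exact hTwo.not_stronglyEmbedded hB H hH

end In

end Cfsg.Agent.Cit.QTwo.Two
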