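import Cfsg.Agent.Cit.QTwo.World
import Cfsg.Agent.Cit.TPieces
import Cfsg.Agent.Cit.CoreTools
import Cfsg.Agent.Cit.TyTrans

/-!
# The world of [Q2]: `T0(t)` and (F5)

* `Solo Ω` : the members of `Ω` are isomorphic to `SL₂(3)` and commute pairwise; `Solo.mem_pCore`;
* `eq_bot_of_mem_pCore` : `O(H) = 1`, `t ∈ O₂(H)`, `t² = 1` ⟹ `O(C_H(t)) = 1`;
* `Wd.solo` : the images of the members covered by `C(t)` in `C(t)/O(C(t))`, if `φ (O(C(t))) = 1`;
* (F5') `T0`, `Wd.t0`, `Wd.t0_zz`, `Wd.OO_inf_le`; (F5) `Wd.phi_XX`; `Wd.exists_conj_of_cov`.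
-/

set_option autoImplicit false
set_option linter.style.haveILetI false
set_option linter.unusedSectionVars false

namespace Cfsg.Agent.Cit.QTwo

open Subgroup Cfsg SubCent AutAct

universe u

/-! ### Abstract part -/

section Abs

variable {Y : Type*} [Group Y] [Finite Y] {Ω : Set (Subgroup Y)}

/-- the members are isomorphic to `SL₂(3)` and commute pairwise -/
structure Solo (Ω : Set (Subgroup Y)) : Prop where
  hyp : Hyp Ω
  ty : ∀ K ∈ Ω, SolvTwo.IsT K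
  core : ∀ K ∈ Ω, OO K = ⊥
  comm : ∀ K ∈ Ω, ∀ J ∈ Ω, K ≠ J → ∀ x ∈ K, ∀ y ∈ J, x * y = y * x

theorem exists_equiv {K : Subgroup Y} (hT : SolvTwo.IsT K) (hO : OO K = ⊥) : Nonempty (K ≃* SolvTwo.X) := by
  obtain ⟨e⟩ := hT
  have h1 : oddCore ↥K = ⊥ := by
    rw [OO, Subgroup.map_eq_bot_iff_of_injective _ K.subtype_injective] at hO
    exact hO
  exact ⟨((QuotientGroup.quotientBot.symm).trans (QuotientGroup.quotientMulEquivOfEq h1.symm)).trans e⟩

/-- the elements `x ∈ K` with `x⁴ = 1` lie in `O₂` -/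
theorem Solo.mem_pCore (s : Solo Ω) {K : Subgroup Y} (hK : K ∈ Ω) {x : Y} (hx : x ∈ K) (h4 : x ^ 4 = 1) :
    x ∈ pCore 2 Y := by
  obtain ⟨e⟩ := exists_equiv (s.ty K hK) (s.core K hK)
  have he : ∀ a : K, (e a) ^ 4 = 1 ↔ (a : Y) ^ 4 = 1 := by
    intro a
    rw [← map_pow, MulEquiv.map_eq_one_iff, ← Subgroup.coe_pow, OneMemClass.coe_eq_one]
  -- `Q = {x ∈ K | x⁴ = 1}`
  let Q : Subgroup Y :=
    { carrier := {a | a ∈ K ∧ a ^ 4 = 1}
      one_mem' := ⟨one_mem _, one_pow _⟩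
      mul_mem' := by
        rintro a b ⟨ha, ha4⟩ ⟨hb, hb4⟩
        refine ⟨mul_mem ha hb, ?_⟩
        have h1 := X_four _ _ ((he ⟨a, ha⟩).2 ha4) ((he ⟨b, hb⟩).2 hb4)
        rw [← map_mul, he] at h1
        exact h1
      inv_mem' := by
        rintro a ⟨ha, ha4⟩
        exact ⟨inv_mem ha, by rw [inv_pow, ha4, inv_one]⟩ }
  have hQ2 : IsPGroup 2 Q := by
    rintro ⟨a, ha⟩
    exact ⟨2, Subtype.ext ha.2⟩
  set N : Subgroup Y := sSup Ω with hN
  haveI hNn : N.Normal := by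
    refine ⟨fun n hn g => ?_⟩
    have h1 : N ≤ cj g⁻¹ N := by
      rw [hN]
      refine sSup_le fun J hJ => ?_
      rw [← cj_cj_inv g⁻¹ J, cj_le_cj]
      exact le_sSup (s.hyp.conj _ hJ _)
    have h2 := h1 hn
    rw [mem_cj, inv_inv] at h2
    exact h2
  have hQN : Q ≤ N := fun a ha => (le_sSup hK : K ≤ N) ha.1
  have hn : N ≤ normalizer (Q : Set Y) := by
    rw [hN]
    refine sSup_le fun J hJ g hg => ?_
    have key : ∀ g ∈ J, ∀ a ∈ Q, g * a * g⁻¹ ∈ Q := by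
      rintro g hg a ⟨ha, ha4⟩
      by_cases hJK : J = K
      · subst hJK
        refine ⟨J.mul_mem (J.mul_mem hg ha) (J.inv_mem hg), ?_⟩
        rw [conj_pow, ha4, mul_one, mul_inv_cancel]
      · rw [s.comm J hJ K hK hJK g hg a ha, mul_inv_cancel_right]
        exact ⟨ha, ha4⟩
    rw [mem_normalizer_iff]
    intro a
    refine ⟨key g hg a, fun h => ?_⟩
    have h1 := key g⁻¹ (J.inv_mem hg) _ h
    convert h1 using 1
    group
  have h1 : (Q.subgroupOf N) ≤ pCore 2 N := by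
    refine Lib.Cores.le_pCore ((normal_subgroupOf_iff_le_normalizer hQN).2 hn) ?_
    exact hQ2.comap_subtype
  have h2 := Subgroup.map_mono (f := N.subtype) h1
  rw [Lib.Cores.map_subtype_pCore 2 hNn, map_subgroupOf_eq_of_le hQN] at h2
  exact (h2 (⟨hx, h4⟩ : x ∈ Q)).2

/-- `O(H) = 1`, `t ∈ O₂(H)`, `t² = 1` ⟹ `O(C_H(t)) = 1` -/
theorem eq_bot_of_mem_pCore (hO : pPrimeCore 2 Y = ⊥) {t : Y} (ht : t * t = 1) (htP : t ∈ pCore 2 Y) : XX t = ⊥ := by
  have h1 := CoreTools.XX_le_centralizer_pCore ht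
  set C : Subgroup Y := centralizer (pCore 2 Y : Set Y) with hC
  haveI : (pCore 2 Y).Normal := Lib.Cores.pCore_normal 2
  haveI hCn : C.Normal := by rw [hC]; infer_instance
  have h2 : C ≤ centralizer {t} := centralizer_le (by
    rw [Set.singleton_subset_iff]; exact htP)
  have h3 : C ≤ normalizer (XX t : Set Y) := h2.trans (centralizer_le_normalizer_XX t)
  have h4 : XX t ≤ OO C := le_OO h1 h3 (odd_XX t)
  have h5 : OO C ≤ pPrimeCore 2 Y := by
    haveI : (OO C).Normal := by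
      refine ⟨fun n hn g => ?_⟩
      have h6 : cj g (OO C) = OO C := by
        rw [← OO_cj]
        congr 1
        rw [← mem_normalizer_iff_cj, mem_normalizer_iff]
        intro y
        refine ⟨fun h => hCn.conj_mem y h g, fun h => ?_⟩
        have := hCn.conj_mem _ h g⁻¹
        simpa [mul_assoc] using this
      rw [← h6]
      exact conj_mem_cj hn
    exact le_oddCore this (odd_OO C)
  rw [hO] at h5
  exact le_bot_iff.1 (h4.trans h5)

end Abs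

/-! ### `T0` -/

variable {G : Type u} [Group G] [Finite G] {Om : Set (Subgroup G)} {L : Subgroup G} {A : Type*} [CommGroup A]
  {φ : G →* A} {K J Q P S : Subgroup G} {t v : G}

/-- `T0(t)`: two members covered by `C(t)` are equal or commute modulo `O(C(t))` -/
def T0 (Om : Set (Subgroup G)) (t : G) : Prop :=
  ∀ K ∈ cov Om (centralizer {t}), ∀ J ∈ cov Om (centralizer {t}),
    (K ⊓ centralizer {t}) ⊔ XX t = (J ⊓ centralizer {t}) ⊔ XX t ∨
      ∀ x ∈ K ⊓ centralizer {t}, ∀ y ∈ J ⊓ centralizer {t}, x * y * x⁻¹ * y⁻¹ ∈ XX t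

/-- the epimorphism `C(t) → C(t)/O(C(t))` -/
abbrev pr (t : G) : centralizer ({t} : Set G) →* centralizer ({t} : Set G) ⧸ pPrimeCore 2 (centralizer ({t} : Set G)) :=
  haveI : (pPrimeCore 2 (centralizer ({t} : Set G))).Normal := Lib.Cores.pPrimeCore_normal 2
  QuotientGroup.mk' (pPrimeCore 2 (centralizer ({t} : Set G)))

theorem ker_pr (t : G) : (pr t).ker = pPrimeCore 2 (centralizer ({t} : Set G)) := by
  haveI : (pPrimeCore 2 (centralizer ({t} : Set G))).Normal := Lib.Cores.pPrimeCore_normal 2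
  exact QuotientGroup.ker_mk' _

theorem pr_surjective (t : G) : Function.Surjective (pr t) := by
  haveI : (pPrimeCore 2 (centralizer ({t} : Set G))).Normal := Lib.Cores.pPrimeCore_normal 2
  exact QuotientGroup.mk'_surjective _

theorem odd_ker_pr (t : G) : ¬ 2 ∣ Nat.card (pr t).ker := by
  rw [ker_pr]
  exact not_two_dvd_oddCore _

theorem pr_eq_one_iff {x : centralizer ({t} : Set G)} : pr t x = 1 ↔ (x : G) ∈ XX t := by
  rw [← MonoidHom.mem_ker, ker_pr, CoreTools.mem_XX_iff]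

theorem core_pr (t : G) : pPrimeCore 2 (centralizer ({t} : Set G) ⧸ pPrimeCore 2 (centralizer ({t} : Set G))) = ⊥ :=
  Lib.Cores.pPrimeCore_quotient_pPrimeCore 2

/-- `(K ⊓ C(t)).map` is a member of the family of `solo` -/
theorem mem_img_cov (hK : K ∈ cov Om (centralizer {t})) :
    (K.subgroupOf (centralizer {t})).map (pr t) ∈ Cit.img (pr t) (restrX Om (centralizer {t})) :=
  ⟨_, ⟨K, hK, rfl⟩, rfl⟩

theorem sup_le_of_map_le
    (h : (K.subgroupOf (centralizer {t})).map (pr t) ≤ (J.subgroupOf (centralizer {t})).map (pr t)) :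
    (K ⊓ centralizer {t}) ⊔ XX t ≤ (J ⊓ centralizer {t}) ⊔ XX t := by
  refine sup_le (fun x hx => ?_) le_sup_right
  obtain ⟨y, hy, hyx⟩ := h (⟨⟨x, hx.2⟩, hx.1, rfl⟩ :
    pr t ⟨x, hx.2⟩ ∈ (K.subgroupOf (centralizer {t})).map (pr t))
  have h1 : (y : G)⁻¹ * x ∈ XX t := by
    have h2 : pr t (y⁻¹ * ⟨x, hx.2⟩) = 1 := by rw [map_mul, map_inv, hyx, inv_mul_cancel]
    exact pr_eq_one_iff.1 h2
  have h3 : x = (y : G) * ((y : G)⁻¹ * x) := by group
  rw [h3]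
  exact mul_mem (mem_sup_left ⟨hy, y.2⟩) (mem_sup_right h1)

namespace Wd

variable (w : Wd Om L φ)

include w

theorem centralizer_ne_top (ht1 : t ≠ 1) : centralizer ({t} : Set G) ≠ ⊤ := by
  intro h
  apply ht1
  have h1 : t ∈ centralizer (L : Set G) := by
    rw [mem_centralizer_iff]
    intro x _
    have : x ∈ centralizer ({t} : Set G) := by rw [h]; trivial
    exact mem_centralizer_singleton_iff.1 this
  rw [w.cent, mem_bot] at h1
  exact h1

theorem isT_restrX (H : Subgroup G) : ∀ K ∈ restrX Om H, SolvTwo.IsT K := by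
  rintro _ ⟨K, hK, rfl⟩
  obtain ⟨e⟩ := w.ty K hK.1
  exact ⟨(SubCent.quotEquiv hK).trans e⟩

theorem tt {H : Subgroup G} (hH : H ≠ ⊤) : TT (restrX Om H) := by
  have h1 := RdOm.tt_of_lt w.hyp w.isType (Uni.of_conj w.cls) w.ind hH
  rw [RdOm.rd_image_eq (fun K hK => Or.inl (w.isT_restrX H K (by rwa [RdOm.OmIn_eq] at hK))), RdOm.OmIn_eq] at h1
  exact h1

/-- the members covered by `C(t)` in `C(t)/O(C(t))` -/
theorem solo (ht1 : t ≠ 1) (hφ : ∀ x ∈ XX t, φ x = 1) : Solo (Cit.img (pr t) (restrX Om (centralizer {t}))) := by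
  have hp : HasPieces (Cit.img (pr t) (restrX Om (centralizer {t}))) := w.tt (w.centralizer_ne_top ht1)
  have hy0 : Hyp (restrX Om (centralizer {t})) := hyp_restrX w.hyp _
  have hy : Hyp (Cit.img (pr t) (restrX Om (centralizer {t}))) := hy0.img (pr_surjective t) (odd_ker_pr t)
  have hpc : ∀ K ∈ Cit.img (pr t) (restrX Om (centralizer {t})),
      pc (Cit.img (pr t) (restrX Om (centralizer {t}))) K = K := by
    intro K hK
    rcases hp.eq_or_quasisimple hy hK with h1 | ⟨-, ⟨h1, -⟩, -⟩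
    · exact h1
    · exfalso
      obtain ⟨_, ⟨K, hK, rfl⟩, rfl⟩ := hK
      obtain ⟨k, hk, hk1⟩ := w.kphi K hK.1
      obtain ⟨o, ho, hko⟩ := hK.2 k hk
      let ψ : centralizer ({t} : Set G) ⧸ pPrimeCore 2 (centralizer ({t} : Set G)) →* A :=
        QuotientGroup.lift _ (φ.comp (centralizer ({t} : Set G)).subtype) (by
          intro x hx
          exact hφ _ (CoreTools.mem_XX_iff.2 hx))
      have h2 : ψ (pr t ⟨k * o, hko⟩) = 1 := by
        have h3 : pr t ⟨k * o, hko⟩ ∈ pc (Cit.img (pr t) (restrX Om (centralizer {t})))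
            ((K.subgroupOf (centralizer {t})).map (pr t)) :=
          le_pc ⟨⟨k * o, hko⟩, K.mul_mem hk (OO_le K ho), rfl⟩
        have h4 := Abelianization.commutator_subset_ker (ψ.comp (pc (Cit.img (pr t) (restrX Om (centralizer {t})))
            ((K.subgroupOf (centralizer {t})).map (pr t))).subtype)
        rw [h1.commutator_eq_top] at h4
        exact h4 (mem_top ⟨_, h3⟩)
      apply hk1
      change φ (k * o) = 1 at h2
      rwa [map_mul, w.phi_OO hK.1 o ho, mul_one] at h2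
  refine ⟨hy, ?_, hp.core, ?_⟩
  · rintro _ ⟨K, hK, rfl⟩
    exact TyTrans.isT_of_quot (TyTrans.quotMapOdd K (odd_ker_pr t)) (w.isT_restrX _ K hK)
  · intro K hK J hJ hne x hx y hy
    have h1 := pc_comm hK hJ (by rw [hpc K hK, hpc J hJ]; exact hne)
    rw [hpc K hK, hpc J hJ] at h1
    exact ((mem_centralizer_iff.1 (h1 hx)) y hy).symm


/-- **(F5')** -/
theorem t0 (ht1 : t ≠ 1) (hφ : ∀ x ∈ XX t, φ x = 1) : T0 Om t := by
  intro K hK J hJ
  have s := w.solo ht1 hφ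
  by_cases h : (K.subgroupOf (centralizer {t})).map (pr t) = (J.subgroupOf (centralizer {t})).map (pr t)
  · exact Or.inl (le_antisymm (sup_le_of_map_le h.le) (sup_le_of_map_le h.ge))
  · right
    intro x hx y hy
    have h1 := s.comm _ (mem_img_cov hK) _ (mem_img_cov hJ) h (pr t ⟨x, hx.2⟩) ⟨⟨x, hx.2⟩, hx.1, rfl⟩
      (pr t ⟨y, hy.2⟩) ⟨⟨y, hy.2⟩, hy.1, rfl⟩
    have h2 : pr t (⟨x, hx.2⟩ * ⟨y, hy.2⟩ * ⟨x, hx.2⟩⁻¹ * ⟨y, hy.2⟩⁻¹) = 1 := by
      rw [map_mul, map_mul, map_mul, map_inv, map_inv, h1]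
      group
    exact pr_eq_one_iff.1 h2

theorem t0_zz (hK : K ∈ Om) : T0 Om (zz K) := w.t0 (w.hyp.zz_ne hK) (w.xphi K hK)

/-- `O(K) ⊓ C(t) ≤ O(C(t))` -/
theorem OO_inf_le (ht1 : t ≠ 1) (hφ : ∀ x ∈ XX t, φ x = 1) (hK : K ∈ cov Om (centralizer {t})) :
    OO K ⊓ centralizer {t} ≤ XX t := by
  intro x hx
  have s := w.solo ht1 hφ
  have h1 := s.core _ (mem_img_cov hK)
  have h2 : pr t ⟨x, hx.2⟩ ∈ OO ((K.subgroupOf (centralizer {t})).map (pr t)) := by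
    refine map_OO_le _ _ ⟨⟨x, hx.2⟩, ?_, rfl⟩
    rw [OO_subgroupOf hK]
    exact hx.1
  rw [h1, mem_bot] at h2
  exact pr_eq_one_iff.1 h2

/-- the involution of a member covered by `C(t)` commutes with the members covered by `C(t)`, modulo `O(C(t))` -/
theorem comm_zz_mem_XX (ht1 : t ≠ 1) (hφ : ∀ x ∈ XX t, φ x = 1) (hK : K ∈ cov Om (centralizer {t}))
    (hJ : J ∈ cov Om (centralizer {t})) {x : G} (hx : x ∈ K ⊓ centralizer {t}) :
    zz J * x * (zz J)⁻¹ * x⁻¹ ∈ XX t := by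
  have s := w.solo ht1 hφ
  have hzJ := zz_mem_inf w.hyp hJ
  have key : pr t ⟨zz J, hzJ.2⟩ * pr t ⟨x, hx.2⟩ = pr t ⟨x, hx.2⟩ * pr t ⟨zz J, hzJ.2⟩ := by
    have hx' : pr t ⟨x, hx.2⟩ ∈ (K.subgroupOf (centralizer {t})).map (pr t) := ⟨⟨x, hx.2⟩, hx.1, rfl⟩
    have hz' : pr t ⟨zz J, hzJ.2⟩ ∈ (J.subgroupOf (centralizer {t})).map (pr t) := ⟨⟨zz J, hzJ.2⟩, hzJ.1, rfl⟩
    by_cases h : (K.subgroupOf (centralizer {t})).map (pr t) = (J.subgroupOf (centralizer {t})).map (pr t)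
    · rw [← h] at hz'
      have h1 : pr t ⟨zz J, hzJ.2⟩ * pr t ⟨zz J, hzJ.2⟩ = 1 := by
        rw [← map_mul]
        have h2 : (⟨zz J, hzJ.2⟩ : centralizer ({t} : Set G)) * ⟨zz J, hzJ.2⟩ = 1 :=
          Subtype.ext (w.hyp.zz_mul hJ.1)
        rw [h2, map_one]
      by_cases h2 : pr t ⟨zz J, hzJ.2⟩ = 1
      · rw [h2, one_mul, mul_one]
      · rw [s.hyp.eq_zz (mem_img_cov hK) hz' h1 h2]
        exact (s.hyp.comm_zz (mem_img_cov hK) (le_normalizer hx')).symm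
    · exact (s.comm _ (mem_img_cov hK) _ (mem_img_cov hJ) h _ hx' _ hz').symm
  have h2 : pr t (⟨zz J, hzJ.2⟩ * ⟨x, hx.2⟩ * ⟨zz J, hzJ.2⟩⁻¹ * ⟨x, hx.2⟩⁻¹) = 1 := by
    rw [map_mul, map_mul, map_mul, map_inv, map_inv, key]
    group
  exact pr_eq_one_iff.1 h2

/-- elements `x` of a member covered by `C(t)` with `x⁴ = 1` lie in `O₂(C(t) mod O(C(t)))` -/
theorem pr_mem (ht1 : t ≠ 1) (hφ : ∀ x ∈ XX t, φ x = 1) (hK : K ∈ cov Om (centralizer {t}))
    {x : G} (hx : x ∈ K) (h4 : x ^ 4 = 1) (hxt : x ∈ centralizer ({t} : Set G)) :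
    pr t ⟨x, hxt⟩ ∈ pCore 2 (centralizer ({t} : Set G) ⧸ pPrimeCore 2 (centralizer ({t} : Set G))) := by
  refine (w.solo ht1 hφ).mem_pCore (mem_img_cov hK) ⟨⟨x, hxt⟩, hx, rfl⟩ ?_
  rw [← map_pow]
  have h1 : (⟨x, hxt⟩ : centralizer ({t} : Set G)) ^ 4 = 1 := Subtype.ext h4
  rw [h1, map_one]

theorem pow_four (hP : IsPGroup 2 P) (hK : K ∈ OmS Om P) {x : G} (hx : x ∈ K ⊓ P) : x ^ 4 = 1 := by
  have h0 : zz K * zz K = 1 := w.hyp.zz_mul hK.1
  have h2 : x ^ 4 = (x * x) * (x * x) := by rw [← pow_two, ← pow_two, ← pow_mul]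
  rw [h2]
  rcases w.sq_cases hP hK hx with h1 | h1 | h1
  · rw [h1, h0]
  · rw [h1]; group
  · rw [h1, h0, one_mul]

/-- `v ∈ P ⊓ N(K)` centralising `K ⊓ P`: `K` is covered by `C(v)` -/
theorem mem_cov_of_comm (hP : IsPGroup 2 P) (hK : K ∈ OmS Om P) (hv : v ∈ P) (hvK : v ∈ normalizer (K : Set G))
    (hc : ∀ x ∈ K ⊓ P, v * x = x * v) : K ∈ cov Om (centralizer {v}) := by
  have h2 := zpowers_of_mem hP hv
  obtain ⟨b, hb⟩ := exists_pow_of_zpowers h2
  exact mem_cov_of_triv w.hyp hK.1 h2 hvK (triv_of_cent (w.isType K hK.1) (w.syl_inf hP hK) hvK hb hc)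

theorem mem_cov_zz (hP : IsPGroup 2 P) (hK : K ∈ OmS Om P) (hJ : J ∈ OmS Om P) :
    J ∈ cov Om (centralizer {zz K}) := by
  by_cases h : K = J
  · subst h
    exact mem_cov_of_le hK.1 (w.hyp.le_centralizer hK.1)
  · have h1 := w.hyp.zz_mem_inf hP hK
    exact w.mem_cov_of_comm hP hJ h1.2 (w.hyp.DD_le_normalizer hP hJ (inf_le_DD hK h1))
      fun x hx => w.hyp.comm hP hK hJ h h1 hx

/-- `D(P)` is contained in `O₂(C(z) mod O(C(z)))` -/
theorem pr_mem_of_DD (hP : IsPGroup 2 P) (hK : K ∈ OmS Om P) {x : G} (hx : x ∈ DD Om P) :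
    ∃ h : x ∈ centralizer ({zz K} : Set G),
      pr (zz K) ⟨x, h⟩ ∈ pCore 2 (centralizer ({zz K} : Set G) ⧸ pPrimeCore 2 (centralizer ({zz K} : Set G))) := by
  have h1 : DD Om P ≤ ((pCore 2 (centralizer ({zz K} : Set G) ⧸
      pPrimeCore 2 (centralizer ({zz K} : Set G)))).comap (pr (zz K))).map (centralizer ({zz K} : Set G)).subtype := by
    rw [DD_le_iff]
    intro J hJ y hy
    have hyc : y ∈ centralizer ({zz K} : Set G) := w.hyp.DD_le_centralizer hP hK (inf_le_DD hJ hy)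
    exact ⟨⟨y, hyc⟩, w.pr_mem (w.hyp.zz_ne hK.1) (w.xphi K hK.1) (w.mem_cov_zz hP hK hJ) hy.1
      (w.pow_four hP hJ hy) hyc, rfl⟩
  obtain ⟨y, hy, rfl⟩ := h1 hx
  exact ⟨y.2, hy⟩

/-- **(F5)** -/
theorem phi_XX (hP : IsPGroup 2 P) (hv : v ∈ DD Om P) (hvv : v * v = 1) (hK : K ∈ OmS Om P)
    (hc : ∀ x ∈ K ⊓ P, v * x = x * v) : ∀ x ∈ XX v, φ x = 1 := by
  have hzz := w.hyp.zz_mul hK.1
  have hzv : v * zz K = zz K * v := hc _ (w.hyp.zz_mem_inf hP hK)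
  obtain ⟨hvc, hvp⟩ := w.pr_mem_of_DD hP hK hv
  -- `XX v ⊓ C(z) ≤ XX z`
  have h1 : ∀ x ∈ XX v, x * zz K = zz K * x → φ x = 1 := by
    intro x hx hxz
    have hxc : x ∈ centralizer ({zz K} : Set G) := mem_centralizer_singleton_iff.2 hxz
    have h2 : XX (pr (zz K) ⟨v, hvc⟩) = ⊥ := by
      refine eq_bot_of_mem_pCore (core_pr (zz K)) ?_ hvp
      rw [← map_mul]
      have : (⟨v, hvc⟩ : centralizer ({zz K} : Set G)) * ⟨v, hvc⟩ = 1 := Subtype.ext hvv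
      rw [this, map_one]
    have h3 : pr (zz K) ⟨x, hxc⟩ ∈ XX (pr (zz K) ⟨v, hvc⟩) :=
      CoreTools.map_mem_XX (pr_surjective (zz K)) (odd_ker_pr (zz K)) (a := ⟨v, hvc⟩) (Subtype.ext hvv) hx
    rw [h2, mem_bot] at h3
    exact w.xphi K hK.1 x (pr_eq_one_iff.1 h3)
  intro x hx
  have hzi : (zz K)⁻¹ = zz K := CloseFus.inv_eq_self hzz
  have h2 : zz K * x * (zz K)⁻¹ ∈ XX v := CoreTools.conj_mem_XX hzv.symm hx
  have h3 : x⁻¹ * (zz K * x * (zz K)⁻¹) ∈ XX v ⊓ φ.ker := by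
    refine mem_inf.2 ⟨mul_mem (inv_mem hx) h2, ?_⟩
    rw [MonoidHom.mem_ker, map_mul, map_inv, map_mul, map_mul, map_inv,
      mul_comm (φ (zz K)) (φ x), mul_inv_cancel_right, inv_mul_cancel]
  obtain ⟨k, hk, hkz⟩ := CloseFus.exists_mul_comm (X := XX v ⊓ φ.ker)
    (fun h => odd_XX v (h.trans (card_dvd_of_le inf_le_left))) hzz h3
  have h4 := h1 (x * k) (mul_mem hx hk.1) hkz
  rwa [map_mul, MonoidHom.mem_ker.1 hk.2, mul_one] at h4

end Wd

end Cfsg.Agent.Cit.QTwo
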