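import Cfsg.Agent.Cit.QTwo.World
import Cfsg.Agent.Cit.QTwo.CCEnd
import Cfsg.Agent.Cit.TSimple
import Cfsg.Agent.Cit.Types

/-!
# [Q2], part (0): the reduction to the world `Wd`

`MinG Om L`, `L ≠ G`:

* `solv_of_ev` : groups of odd order are solvable if quasisimple groups have even order;
* `syl_le` : Sylow 2-subgroups of members lie in `L` (LEMMA B); `not_perfect`, `isT` : all members are of type
  `SL(2,3)`; `sup_eq_top` : `G = LK`; `not_dvd_index` : `G / L` has odd order;
* `exists_wd` : `Wd Om L φ` for the projection `φ` of `G` onto `G / L O(C(z))`.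
-/

set_option autoImplicit false
set_option linter.dupNamespace false
set_option linter.unusedSectionVars false
set_option linter.style.haveILetI false

namespace Cfsg.Agent.Cit.QTwo.Zero

open Subgroup Cfsg Cfsg.Agent.Cit SubCent AutAct

universe u

/-- groups of odd order are solvable -/
theorem solv_of_ev (hev : EvLeaf.{u}) : ∀ n : ℕ, ∀ (X : Type u) [Group X] [Finite X], Nat.card X = n →
    ¬ 2 ∣ Nat.card X → Group.IsSolvable X := by
  intro n
  induction n using Nat.strong_induction_on with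
  | _ n ih =>
    intro X _ _ hn h2
    rcases subsingleton_or_nontrivial X with hs | hnt
    · infer_instance
    by_cases hsim : IsSimpleGroup X
    · by_cases hcomm : IsMulCommutative X
      · exact Group.isSolvable_of_comm fun a b => hcomm.is_comm.comm a b
      · exfalso
        have hs' : IsSimpleGroup ↥(⊤ : Subgroup X) := (topEquiv (G := X)).isSimpleGroup
        have h3 : IsQuasisimple ↥(⊤ : Subgroup X) := by
          apply quasisimple_of_simple
          intro h4
          apply hcomm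
          refine ⟨⟨fun a b => ?_⟩⟩
          exact congrArg Subtype.val (h4.is_comm.comm (⟨a, mem_top a⟩ : (⊤ : Subgroup X)) ⟨b, mem_top b⟩)
        have h4 := hev X ⊤ h3
        rw [card_top] at h4
        exact h2 h4
    · obtain ⟨N, hN, h3, h4⟩ : ∃ N : Subgroup X, N.Normal ∧ N ≠ ⊥ ∧ N ≠ ⊤ := by
        by_contra hcon
        push Not at hcon
        exact hsim ⟨fun N hN => or_iff_not_imp_left.2 (hcon N hN)⟩
      have hcard := card_mul_index N
      have hN1 : Nat.card N < n := by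
        rw [← hn]
        refine lt_of_le_of_ne (Nat.le_of_dvd Nat.card_pos (card_subgroup_dvd_card N)) fun h5 => h4 ?_
        exact (card_eq_iff_eq_top N).1 h5
      have hN2 : Nat.card (X ⧸ N) < n := by
        rw [← hn, ← hcard]
        have h5 : 1 < Nat.card N := by
          rw [Finite.one_lt_card_iff_nontrivial]
          exact (nontrivial_iff_ne_bot N).2 h3
        have h6 : 0 < N.index := Nat.pos_of_ne_zero index_ne_zero_of_finite
        have h7 : Nat.card (X ⧸ N) = N.index := rfl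
        rw [h7]
        nlinarith
      have i1 : Group.IsSolvable N := ih _ hN1 N rfl fun h5 => h2 (h5.trans (card_subgroup_dvd_card N))
      have i2 : Group.IsSolvable (X ⧸ N) := ih _ hN2 (X ⧸ N) rfl fun h5 => h2 (h5.trans (by
        rw [← hcard]; exact Dvd.intro_left _ rfl))
      exact (Group.isSolvable_iff_subgroup_quotient N).2 ⟨i1, i2⟩

/-- `SL(2,3)` modulo 2-elements is commutative -/
theorem X_comm : ∀ x y : SolvTwo.X, (x * y * x⁻¹ * y⁻¹) ^ 4 = 1 := by
  decide +kernel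

variable {G : Type u} [Group G] [Finite G] {Om : Set (Subgroup G)} {L K Q : Subgroup G}

theorem even_L (hev : EvLeaf.{u}) (h : MinG Om L) : 2 ∣ Nat.card L := by
  have hs := h.simple
  exact hev G L (quasisimple_of_simple h.nab)

theorem core_bot (hev : EvLeaf.{u}) (h : MinG Om L) : pPrimeCore 2 G = ⊥ :=
  oddCore_eq_bot_of_simple h.normal h.simple h.cent (even_L hev h)

theorem OO_L (hev : EvLeaf.{u}) (h : MinG Om L) : OO L = ⊥ := by
  have hs := h.simple
  have hn : (pPrimeCore 2 L).Normal := Lib.Cores.pPrimeCore_normal 2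
  rw [OO, Subgroup.map_eq_bot_iff, ker_subtype, le_bot_iff]
  rcases hn.eq_bot_or_eq_top with h1 | h1
  · exact h1
  · exfalso
    have h2 : ¬ 2 ∣ Nat.card (pPrimeCore 2 L) := not_two_dvd_oddCore L
    rw [h1, card_top] at h2
    exact h2 (even_L hev h)

theorem not_le_centralizer (h : MinG Om L) (hK : K ∈ Om) : ¬ L ≤ centralizer {zz K} := by
  intro h1
  have h2 : zz K ∈ centralizer (L : Set G) := by
    rw [mem_centralizer_iff]
    exact fun y hy => mem_centralizer_singleton_iff.1 (h1 hy)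
  rw [h.cent, mem_bot] at h2
  exact h.hyp.zz_ne hK h2

theorem le_normalizer_L (h : MinG Om L) (g : G) : g ∈ normalizer (L : Set G) := by
  have := h.normal
  rw [normalizer_eq_top]; trivial

theorem cj_L (h : MinG Om L) (g : G) : cj g L = L := mem_normalizer_iff_cj.1 (le_normalizer_L h g)

/-- Sylow 2-subgroups of members lie in `L` -/
theorem syl_le (hev : EvLeaf.{u}) (h : MinG Om L) (hK : K ∈ Om) (hQ : Syl Q K) : Q ≤ L :=
  h.hyp.lemmaB_of_isType hK (h.isType K hK) (fun g _ => le_normalizer_L h g) (OO_L hev h)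
    (not_le_centralizer h hK) hQ

theorem not_le (h : MinG Om L) (hne : L ≠ ⊤) (hK : K ∈ Om) : ¬ K ≤ L := by
  intro h1
  apply hne
  rw [← top_le_iff, ← h.gen]
  refine sSup_le fun J hJ => ?_
  obtain ⟨g, rfl⟩ := h.cls K hK J hJ
  rw [← cj_L h g]
  exact cj_mono g h1

/-- `K / (K ∩ L)` has odd order -/
theorem not_dvd_relIndex (hev : EvLeaf.{u}) (h : MinG Om L) (hK : K ∈ Om) : ¬ 2 ∣ L.relIndex K := by
  obtain ⟨Q, hQ⟩ := Hyp.exists_syl K
  intro h1
  apply hQ.2.2
  have h2 : Q ≤ L ⊓ K := le_inf (syl_le hev h hK hQ) hQ.1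
  rw [← inf_relIndex_right] at h1
  exact h1.trans (relIndex_dvd_of_le_left K h2)

theorem isT (hev : EvLeaf.{u}) (h : MinG Om L) (hne : L ≠ ⊤) : ∀ K ∈ Om, SolvTwo.IsT K := by
  intro K hK
  rcases h.ty K hK with h1 | ⟨-, h1⟩
  · exact h1
  · exfalso
    have hLn := h.normal
    have h2 : Group.IsSolvable (K ⧸ L.subgroupOf K) :=
      solv_of_ev hev _ _ rfl (not_dvd_relIndex hev h hK)
    have h3 : commutator K = ⊤ := by
      rw [_root_.commutator_def]
      apply Subgroup.map_injective K.subtype_injective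
      rw [Subgroup.map_commutator, ← MonoidHom.range_eq_map, range_subtype, h1]
    rcases subsingleton_or_nontrivial (K ⧸ L.subgroupOf K) with h4 | h4
    · apply not_le h hne hK
      rw [← subgroupOf_eq_top]
      exact QuotientGroup.subgroup_eq_top_of_subsingleton _ h4
    · have h5 := Group.IsSolvable.commutator_lt_top_of_nontrivial (K ⧸ L.subgroupOf K)
      apply h5.ne
      have h6 := Subgroup.map_commutator (⊤ : Subgroup K) ⊤ (QuotientGroup.mk' (L.subgroupOf K))
      rw [← _root_.commutator_def, h3, Subgroup.map_top_of_surjective _ (QuotientGroup.mk'_surjective _)] at h6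
      exact h6.symm

/-- **(0.2)** `G = LK` -/
theorem sup_eq_top (hev : EvLeaf.{u}) (h : MinG Om L) (hne : L ≠ ⊤) (hK : K ∈ Om) : L ⊔ K = ⊤ := by
  by_contra hH
  obtain ⟨H, hHe⟩ : ∃ H, H = L ⊔ K := ⟨_, rfl⟩
  rw [← hHe] at hH
  have hLH : L ≤ H := hHe ▸ le_sup_left
  have hKH : K ≤ H := hHe ▸ le_sup_right
  have hcard : Nat.card H < Nat.card G := by
    refine lt_of_le_of_ne (Nat.le_of_dvd Nat.card_pos (card_subgroup_dvd_card H)) fun h2 => hH ?_
    exact (card_eq_iff_eq_top H).1 h2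
  have hTT := h.ind H hcard (restr Om H) (h.hyp.restr H) (Ty.restr h.ty H) (h.uni.restr H)
  have hLn := h.normal
  have hnF : (L.subgroupOf H).Normal := inferInstance
  haveI := h.simple
  have hsF : IsSimpleGroup (L.subgroupOf H) := (subgroupOfEquivOfLe hLH).isSimpleGroup
  have hcF : centralizer ((L.subgroupOf H : Subgroup H) : Set H) = ⊥ := by
    rw [eq_bot_iff]
    intro x hx
    have h1 : (x : G) ∈ centralizer (L : Set G) := by
      rw [mem_centralizer_iff]
      intro y hy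
      exact congrArg Subtype.val (mem_centralizer_iff.1 hx ⟨y, hLH hy⟩ hy)
    rw [h.cent, mem_bot] at h1
    rw [mem_bot]
    exact Subtype.ext h1
  have heF : 2 ∣ Nat.card (L.subgroupOf H) := by
    rw [Nat.card_congr (subgroupOfEquivOfLe hLH).toEquiv]
    exact even_L hev h
  have hO := oddCore_eq_bot_of_simple hnF hsF hcF heF
  have hp := (tt_iff_hasPieces (h.hyp.restr H) hO).1 hTT
  have hKm := subgroupOf_mem_restr hK hKH
  have hF := le_sSup_of_simple hnF hsF hcF (h.hyp.restr H) ⟨_, hKm⟩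
  have hgen : sSup (restr Om H) = ⊤ := by
    have h1 : L.subgroupOf H ⊔ K.subgroupOf H = ⊤ := by
      rw [← subgroupOf_sup hLH hKH, ← hHe, subgroupOf_self]
    rw [← top_le_iff, ← h1]
    exact sup_le hF (le_sSup hKm)
  have h1 := (pc_eq_of_simple hnF hsF hcF (h.hyp.restr H) hp hgen hKm).1
  have h2 : K.subgroupOf H ≤ L.subgroupOf H := h1 ▸ le_pc
  exact not_le h hne hK fun x hx => h2 (x := ⟨x, hKH hx⟩) hx

theorem not_dvd_index (hev : EvLeaf.{u}) (h : MinG Om L) (hne : L ≠ ⊤) : ¬ 2 ∣ L.index := by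
  obtain ⟨K, hK⟩ := h.ne
  have h1 : L.relIndex K = L.index := by
    rw [← LB.relIndex_sup_of_normalizes (A := L) (B := K) fun g _ => le_normalizer_L h g,
      sup_eq_top hev h hne hK, relIndex_top_right]
  rw [← h1]
  exact not_dvd_relIndex hev h hK

/-- **(0.3)** the world -/
theorem exists_wd (hE : CC.CExc.{u}) (hM : CC.CMat.{u}) (hev : EvLeaf.{u}) (h : MinG Om L) (hne : L ≠ ⊤) :
    ∃ (A : Type u) (_ : CommGroup A) (φ : G →* A), Wd Om L φ := by
  obtain ⟨K, hK⟩ := h.ne
  have hT := isT hev h hne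
  have hLn := h.normal
  obtain ⟨N, hN⟩ : ∃ N, N = L ⊔ XX (zz K) := ⟨_, rfl⟩
  have hLN : L ≤ N := hN ▸ le_sup_left
  have hXN : XX (zz K) ≤ N := hN ▸ le_sup_right
  have hsup := sup_eq_top hev h hne hK
  -- `N` is normal
  have hNn : N.Normal := by
    rw [← normalizer_eq_top_iff, ← top_le_iff, ← hsup]
    refine sup_le (hLN.trans le_normalizer) fun k hk => ?_
    rw [mem_normalizer_iff_cj, hN, cj_sup, cj_L h, cj_XX, h.hyp.comm_zz hK (le_normalizer hk),
      mul_inv_cancel_right]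
  obtain ⟨π, hπ⟩ : ∃ π, π = QuotientGroup.mk' N := ⟨_, rfl⟩
  have hker : ∀ g, π g = 1 ↔ g ∈ N := fun g => by rw [hπ]; exact QuotientGroup.eq_one_iff g
  -- elements of `G` modulo `N`
  have hcovG : ∀ g : G, ∃ k ∈ K, π g = π k := by
    intro g
    have hg : g ∈ L ⊔ K := by rw [hsup]; trivial
    obtain ⟨a, ha, b, hb, rfl⟩ := LB.exists_mul_of_mem_sup (fun x _ => le_normalizer_L h x) hg
    exact ⟨b, hb, by rw [map_mul, (hker a).2 (hLN ha), one_mul]⟩
  -- odd order
  have hodd : ¬ 2 ∣ Nat.card (G ⧸ N) := by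
    intro h1
    apply not_dvd_index hev h hne
    exact h1.trans (index_dvd_of_le hLN)
  have hpow : ∀ x : G ⧸ N, ∀ n : ℕ, x ^ 2 ^ n = 1 → x = 1 := by
    intro x n hx
    have h1 : orderOf x ∣ 2 ^ n := orderOf_dvd_of_pow_eq_one hx
    have h2 : Nat.Coprime (2 ^ n) (Nat.card (G ⧸ N)) :=
      Nat.Coprime.pow_left n ((Nat.Prime.coprime_iff_not_dvd Nat.prime_two).2 hodd)
    have h3 := Nat.dvd_gcd h1 (orderOf_dvd_natCard x)
    rwa [h2, Nat.dvd_one, orderOf_eq_one_iff] at h3
  -- commutative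
  have hcomm : ∀ x y : G ⧸ N, x * y = y * x := by
    intro x y
    obtain ⟨g, rfl⟩ := QuotientGroup.mk'_surjective N x
    obtain ⟨g', rfl⟩ := QuotientGroup.mk'_surjective N y
    rw [← hπ]
    obtain ⟨k, hk, e1⟩ := hcovG g
    obtain ⟨k', hk', e2⟩ := hcovG g'
    rw [e1, e2]
    obtain ⟨e0⟩ := hT K hK
    have h1 : (k * k' * k⁻¹ * k'⁻¹) ^ 4 ∈ OO K := by
      obtain ⟨a, ha⟩ : ∃ a : K, a = ⟨k, hk⟩ := ⟨_, rfl⟩
      obtain ⟨b, hb⟩ : ∃ b : K, b = ⟨k', hk'⟩ := ⟨_, rfl⟩
      have h3 : e0 (QuotientGroup.mk' (oddCore ↥K) ((a * b * a⁻¹ * b⁻¹) ^ 4)) = 1 := by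
        rw [map_pow, map_pow, map_mul, map_mul, map_mul, map_mul, map_mul, map_mul, map_inv, map_inv, map_inv,
          map_inv]
        exact X_comm _ _
      have h2 := (EmbeddingLike.map_eq_one_iff (f := e0)).1 h3
      rw [ha, hb] at h2
      exact ⟨_, (QuotientGroup.eq_one_iff _).1 h2, rfl⟩
    have h2 : (π (k * k' * k⁻¹ * k'⁻¹)) ^ 2 ^ 2 = 1 := by
      rw [← map_pow, hker]
      exact hXN (CloseFus.OO_le_XX h.hyp hK h1)
    have h3 := hpow _ _ h2
    rw [map_mul, map_mul, map_mul, map_inv, map_inv, mul_inv_eq_one, mul_inv_eq_iff_eq_mul] at h3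
    exact h3
  let iA : CommGroup (G ⧸ N) := { (inferInstance : Group (G ⧸ N)) with mul_comm := hcomm }
  refine ⟨G ⧸ N, iA, π, ⟨h.hyp, hT, ⟨K, hK⟩, h.cls, h.normal, h.simple, h.nab, h.cent, core_bot hev h,
    not_dvd_index hev h hne, h.ind, ?_, ?_, ?_⟩⟩
  · intro g hg
    obtain ⟨n, hn⟩ := exists_pow_of_zpowers hg
    refine hpow _ n ?_
    rw [← map_pow, hn, map_one]
  · -- not trivial on `K`, by (CC)
    have h0 : ∃ k ∈ K, π k ≠ 1 := by
      by_contra hcon
      push Not at hcon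
      refine CC.cc_false hE hM h hT hne hK fun k hk => ?_
      have h1 := (hker k).1 (hcon k hk)
      rw [hN, sup_comm] at h1
      obtain ⟨x, hx, l, hl, rfl⟩ : ∃ x ∈ XX (zz K), ∃ l ∈ L, k = x * l := by
        rw [sup_comm] at h1
        obtain ⟨l, hl, x, hx, e⟩ := LB.exists_mul_of_mem_sup (fun x _ => le_normalizer_L h x) h1
        refine ⟨x, hx, x⁻¹ * l * x, ?_, by rw [e]; group⟩
        have := h.normal.conj_mem l hl x⁻¹
        rwa [inv_inv] at this
      refine ⟨x⁻¹, inv_mem hx, ?_⟩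
      exact h.normal.conj_mem l hl x
    obtain ⟨k, hk, hk1⟩ := h0
    intro J hJ
    obtain ⟨g, rfl⟩ := h.cls K hK J hJ
    refine ⟨g * k * g⁻¹, conj_mem_cj hk, fun h1 => hk1 ?_⟩
    rw [hker] at h1 ⊢
    have h2 := hNn.conj_mem _ h1 g⁻¹
    have e1 : g⁻¹ * (g * k * g⁻¹) * g⁻¹⁻¹ = k := by group
    rwa [e1] at h2
  · intro J hJ x hx
    obtain ⟨g, rfl⟩ := h.cls K hK J hJ
    rw [hker]
    rw [h.hyp.zz_cj hK, ← cj_XX] at hx
    obtain ⟨y, hy, rfl⟩ := hx
    exact hNn.conj_mem _ (hXN hy) g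

end Cfsg.Agent.Cit.QTwo.Zero
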